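import Cfsg.Agent.Lib.LocalEven.GoldBound.Five

/-!
The contradiction for odd critical distance at least five.
-/

set_option autoImplicit false
set_option linter.unusedSectionVars false
set_option linter.style.haveILetI false
set_option linter.unusedVariables false

namespace CfsgLib.LocalEven.GoldBound

variable {G : Type*} [Group G] {V : Type*} [MulAction G V]
variable {adj : V → V → Prop} {isB : V → Prop} {b : ℕ} {z : V → G}

namespace Odd3

variable (P : Odd3 G adj isB b z)
include P

theorem exists_chain (h5 : 5 ≤ b) (n : ℕ) :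
    ∃ p : ℕ → V, ∀ j, j ≤ n → Mut G adj isB b z fun i => p (2 * j + i) := by
  induction n with
  | zero =>
    obtain ⟨f, hf⟩ := P.exists_mut
    exact ⟨f, fun j hj => hf.congr fun i _ => by rw [show j = 0 by omega]; simp⟩
  | succ n ih =>
    obtain ⟨p, hp⟩ := ih
    have h0 : Mut G adj isB b z p := (hp 0 (Nat.zero_le _)).congr fun i _ => by simp
    obtain ⟨g, h, hg, hh, hag, hsh⟩ := P.exists_extension h5 h0
    refine ⟨fun i => if i ≤ b + 3 then g i else p (i - 2), fun j hj => ?_⟩
    rcases j with _ | j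
    · exact hg.congr fun i hi => by simp [hi]
    have hval : ∀ k, (if k + 2 ≤ b + 3 then g (k + 2) else p (k + 2 - 2)) = if k = 0 then h 0 else p k := by
      intro k
      by_cases hk : k + 2 ≤ b + 3
      · rw [if_pos hk, hsh k (by omega)]
        by_cases hk0 : k = 0
        · rw [if_pos hk0, hk0]
        · rw [if_neg hk0, hag k (by omega)]
      · rw [if_neg hk, if_neg (by omega), Nat.add_sub_cancel]
    have hsrc : Mut G adj isB b z fun i => if 2 * j + i = 0 then h 0 else p (2 * j + i) := by
      by_cases hj0 : j = 0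
      · subst hj0
        refine hh.congr fun i _ => ?_
        by_cases hi : i = 0
        · simp [hi]
        · simp [hi, hag i (by omega)]
      · exact (hp j (by omega)).congr fun i _ => if_neg (by omega)
    refine hsrc.congr fun i _ => ?_
    show (if 2 * (j + 1) + i ≤ b + 3 then g (2 * (j + 1) + i) else p (2 * (j + 1) + i - 2)) = _
    rw [show 2 * (j + 1) + i = 2 * j + i + 2 by omega]
    exact hval _

theorem ev_congr_left {f h : ℕ → V} (hf : Mut G adj isB b z f) (hh : Mut G adj isB b z h)
    (hag : ∀ i, 1 ≤ i → h i = f i) : ev b z h = ev b z f := by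
  have O := P.one
  have D := P.tri
  have h3 := P.three_le
  obtain ⟨h0, hw, -, -⟩ := id hf
  obtain ⟨g0, gw, -, -⟩ := id hh
  obtain ⟨hb, h2B, -, hf2, -⟩ := P.mut_ends hf
  have h1A : ¬ isB (f 1) := hw.not_isB_odd D h0 (by omega) rfl
  have e1 : adj (f 1) (h 0) := hag 1 le_rfl ▸ D.symm (gw.adj_at 0 (by omega))
  have e2 : h 0 ≠ f 2 := hag 2 (by omega) ▸ gw.ne_at 0 (by omega)
  rcases O.child h1A (hw.adj_at 1 (by omega)) (D.symm (hw.adj_at 0 (by omega))) e1
    (hw.ne_at 0 (by omega)) e2 with e | e
  · rw [ev, ev, hag (b + 3) (by omega), e]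
  · have c1 : z (f (b + 3)) * z (f 2) = z (f 2) * z (f (b + 3)) := O.commute h2B hf2
    have c2 : z (f 2) * z (f 0) = z (f 0) * z (f 2) :=
      O.comm h2B h0 (hw.within D (k := 2) (by omega) (by omega) (by omega) (by omega)) (by omega)
    rw [ev, ev, hag (b + 3) (by omega), e]
    set x := z (f 0)
    set t := z (f 2)
    set w := z (f (b + 3))
    calc t * x * (w * (t * x) * w) = t * x * ((w * t) * x * w) := by simp only [mul_assoc]
      _ = t * (x * t) * (w * x * w) := by rw [c1]; simp only [mul_assoc]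
      _ = (t * t) * x * (w * x * w) := by rw [← c2]; simp only [mul_assoc]
      _ = x * (w * x * w) := by rw [O.sq h2B, one_mul]

theorem ev_eq_mid (h5 : 5 ≤ b) {f g : ℕ → V} (hf : Mut G adj isB b z f) (hg : Mut G adj isB b z g)
    (hgf : ∀ i, i ≤ b + 1 → g (i + 2) = f i) {r : V} (hr : isB r)
    (hra : Within adj (b - 1) r (f (b + 1))) (hrm : z r • f (b - 2) ≠ f (b - 2)) :
    ev b z f = z (f (b - 1)) := by
  have O := P.one
  have D := P.tri
  have hodd := P.odd
  obtain ⟨g0, gw, gm, -⟩ := id hg
  obtain ⟨f0, fw, -, -⟩ := id hf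
  have e2 : g 4 = f 2 := hgf 2 (by omega)
  have en : g b = f (b - 2) := by
    have := hgf (b - 2) (by omega)
    rwa [Nat.sub_add_cancel (by omega)] at this
  have eb : g (b + 2) = f b := hgf b (by omega)
  have ea : g (b + 3) = f (b + 1) := hgf (b + 1) le_rfl
  have em : g (b + 1) = f (b - 1) := by
    have := hgf (b - 1) (by omega)
    rwa [show b - 1 + 2 = b + 1 by omega] at this
  have hp2 : Within adj 4 (g 0) (f 2) :=
    e2 ▸ gw.within D (i := 0) (j := 4) (by omega) (by omega) (by omega) (by omega)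
  have hpn : Within adj b (g 0) (f (b - 2)) :=
    en ▸ gw.within D (i := 0) (j := b) (by omega) (by omega) (by omega) (by omega)
  have hpm : z (g 0) • f b ≠ f b := eb ▸ gm
  have hZ := P.ev_mem_Z h5 hf g0 hp2 hpn hpm hr hra hrm
  have hmB : isB (f (b - 1)) := fw.isB_even D f0 (by omega) (by omega)
  have haB : isB (f (b + 1)) := fw.isB_even D f0 (by omega) (by omega)
  have hnA : ¬ isB (f b) := fw.not_isB_odd D f0 (by omega) hodd
  have a1 : adj (f b) (f (b - 1)) := by
    have := fw.adj_at (b - 1) (by omega)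
    rw [show b - 1 + 1 = b by omega] at this
    exact D.symm this
  have hne : f (b - 1) ≠ f (b + 1) := by
    have := fw.ne_at (b - 1) (by omega)
    rwa [show b - 1 + 2 = b + 1 by omega] at this
  obtain ⟨x, hx, y, hy, e⟩ := P.dist.hy.exists_decomp hnA a1 (fw.adj_at b (by omega)) hne hZ
  have cv : z (g 0) * ev b z f = ev b z f * z (g 0) :=
    P.dist.comm_Ec_EBall g0 (O.mem _ g0) (P.ev_mem_two hf) hp2 (by omega)
  have cm : z (g 0) * z (f (b - 1)) = z (f (b - 1)) * z (g 0) := em ▸
    O.comm g0 (em.symm ▸ hmB) (gw.within D (i := 0) (j := b + 1) (k := b + 1) (by omega) (by omega) (by omega)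
      (by omega)) le_rfl
  have cn : z (g 0) * z (f (b + 1)) ≠ z (f (b + 1)) * z (g 0) := ea ▸ P.mut_noncomm hg
  rcases O.eq _ hmB x hx with rfl | rfl <;> rcases O.eq _ haB y hy with rfl | rfl
  · exact absurd (by rw [e, one_mul]) (P.ev_ne_one hf)
  · rw [e, one_mul] at cv
    exact absurd cv cn
  · rw [e, mul_one]
  · refine absurd ?_ cn
    rw [e, ← mul_assoc, cm, mul_assoc, mul_assoc] at cv
    exact mul_left_cancel cv

end Odd3

theorem Odd3.ev_eq_five {z : V → G} (P : Odd3 G adj isB 5 z) {f : ℕ → V} (hf : Mut G adj isB 5 z f) :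
    ev 5 z f = z (f 4) := by
  obtain ⟨g, h, hg, hh, hag, hsh⟩ := P.exists_extension le_rfl hf
  obtain ⟨g', h', hg', hh', hag', hsh'⟩ := P.exists_extension le_rfl (P.mut_rev hh)
  set f' := fun i => h' (5 + 3 - i) with hf'
  have hmf' : Mut G adj isB 5 z f' := P.mut_rev hh'
  have eq' : ∀ i, i ≤ 7 → f' i = h i := fun i hi => by
    show h' (5 + 3 - i) = h i
    rw [hag' _ (by omega)]
    show h (5 + 3 - (5 + 3 - i)) = h i
    rw [show 5 + 3 - (5 + 3 - i) = i by omega]
  obtain ⟨g'0, g'w, g'm, -⟩ := id hg'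
  have he := P.ev_eq_mid le_rfl hmf' hg (fun i hi => by rw [hsh i hi, eq' i (by omega)]) g'0
    (show Within adj (5 - 1) (g' 0) (h' 2) from hsh' 2 (by omega) ▸
      g'w.within P.tri (i := 0) (j := 4) (by omega) (by omega) (by omega) (by omega))
    (show z (g' 0) • h' 5 ≠ h' 5 from hsh' 5 (by omega) ▸ g'm)
  have e1 : ev 5 z f' = ev 5 z h' := by
    simpa [f', ev] using P.ev_symm hh'
  have e2 : ev 5 z h' = ev 5 z fun i => h (5 + 3 - i) := P.ev_congr_left (P.mut_rev hh) hh' hag'
  have e3 : (ev 5 z fun i => h (5 + 3 - i)) = ev 5 z h := by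
    simpa [ev] using P.ev_symm hh
  rw [← P.ev_congr_left hf hh hag, ← e3, ← e2, ← e1, he, eq' _ (by omega), hag _ (by omega)]

theorem Odd3.false_of_five_le {z : V → G} (P : Odd3 G adj isB b z) (h5 : 5 ≤ b) : False := by
  have O := P.one
  have D := P.tri
  have hodd := P.odd
  by_cases h7 : 7 ≤ b
  · obtain ⟨p, hp⟩ := P.exists_chain h5 (2 + (b - 3) / 2)
    have m0 := hp 0 (by omega)
    have m1 := hp 1 (by omega)
    have m2 := hp 2 (by omega)
    have mr := hp (2 + (b - 3) / 2) le_rfl
    set N := 2 * (2 + (b - 3) / 2) with hN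
    have hN' : N = b + 1 := by omega
    obtain ⟨-, w0, -, -⟩ := id m0
    obtain ⟨r0, rw', -, rm⟩ := id mr
    set r := p (N + (b + 3)) with hrdef
    have hrB : isB r := rw'.isB_even D r0 le_rfl (by omega)
    have e := P.ev_eq_mid h5 m2 m1 (fun i _ => congrArg p (by omega)) hrB ?_ ?_
    · refine P.mut_noncomm m0 ?_
      show z (p (2 * 0 + 0)) * z (p (2 * 0 + (b + 3))) = z (p (2 * 0 + (b + 3))) * z (p (2 * 0 + 0))
      rw [show p (2 * 0 + (b + 3)) = p (2 * 2 + (b - 1)) from congrArg p (by omega), ← e]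
      refine P.dist.comm_Ec_EBall m0.1 (O.mem _ m0.1) (P.ev_mem_two m2) (k := 6) ?_ (by omega)
      exact w0.within D (i := 0) (j := 6) (by omega) (by omega) (by omega) (by omega)
    · have h := rw'.within D (i := b + 3) (j := 4) (k := b - 1) le_rfl (by omega) (by omega) (by omega)
      rwa [show p (2 * 2 + (b + 1)) = p (N + 4) from congrArg p (by omega)]
    · rwa [show p (2 * 2 + (b - 2)) = p (N + 1) from congrArg p (by omega)]
  obtain rfl : b = 5 := by omega
  obtain ⟨p, hp⟩ := P.exists_chain le_rfl 2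
  have m0 : Mut G adj isB 5 z p := (hp 0 (by omega)).congr fun i _ => by simp
  have m1 : Mut G adj isB 5 z fun i => p (2 + i) := hp 1 (by omega)
  have m2 : Mut G adj isB 5 z fun i => p (4 + i) := hp 2 le_rfl
  obtain ⟨p0B, w0, k0, -⟩ := id m0
  obtain ⟨p2B, w1, k1, -⟩ := id m1
  obtain ⟨p4B, w2, -, k2'⟩ := id m2
  have p12B : isB (p 12) := w2.isB_even D p4B (i := 8) le_rfl rfl
  have p8B : isB (p 8) := w0.isB_even D p0B (i := 8) le_rfl rfl
  have p6B : isB (p 6) := w0.isB_even D p0B (i := 6) (by omega) rfl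
  set g := z (p 0) with hgdef
  set v := z (p 2) with hvdef
  set w := z (p 12) with hwdef
  have gfix : ∀ i, i ≤ 6 → g • p i = p i := fun i hi =>
    O.fix_wk w0 i (i := 0) (by omega) (by omega) p0B (by omega) (by omega)
  have vfix : ∀ i, i ≤ 6 → v • p (2 + i) = p (2 + i) := fun i hi =>
    O.fix_wk w1 i (i := 0) (by omega) (by omega) p2B (by omega) (by omega)
  have wfix : ∀ i, 2 ≤ i → i ≤ 8 → w • p (4 + i) = p (4 + i) := fun i hi hi' =>
    O.fix_wk w2 i (i := 8) le_rfl hi' p12B (by omega) (by omega)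
  have a56 : adj (p 6) (p 5) := D.symm (w0.adj_at 5 (by omega))
  have a67 : adj (p 6) (p 7) := w0.adj_at 6 (by omega)
  have h57 : p 5 ≠ p 7 := w0.ne_at 5 (by omega)
  have w6 : w • p 6 = p 6 := wfix 2 le_rfl (by omega)
  have w7 : w • p 7 = p 7 := wfix 3 (by omega) (by omega)
  have w8 : w • p 8 = p 8 := wfix 4 (by omega) (by omega)
  obtain ⟨k, hk, h5k, h7k⟩ := D.third a56 a67 h57
  have gk : g • p 7 = k := (D.eq_third (gfix 6 le_rfl) (gfix 5 (by omega)) a56 a67 hk h57 h5k h7k k0).1
  have wk : w • p 5 = k := (D.eq_third w6 w7 a67 a56 hk h57.symm h7k h5k k2').1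
  have hkA : ¬ isB k := D.not_isB_of_adj p6B hk
  -- the two images agree
  have e0 := P.ev_eq_five m0
  have e2 := P.ev_eq_five m2
  have hgw : g • p 8 = w • p 4 := by
    refine O.inj ((D.isB_smul g _).2 p8B) ((D.isB_smul w _).2 p4B) ?_ ?_
    · refine Within.mono ?_ (show 2 ≤ 4 by omega)
      exact Within.head (gk ▸ D.smul g (D.symm (w0.adj_at 7 (by omega))))
        (Within.single (wk ▸ D.smul w (D.symm (w0.adj_at 4 (by omega)))))
    · have s1 : g * z (p 8) * g = z (p 8) * z (p 4) := by
        have h := P.ev_symm m0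
        rw [e0] at h
        calc g * z (p 8) * g = (z (p 8))⁻¹ * (z (p 8) * (g * z (p 8) * g)) := by group
          _ = z (p 8) * z (p 4) := by rw [h, O.inv p8B]
      have s2 : w * z (p 4) * w = z (p 4) * z (p 8) := by
        have h : z (p 4) * (w * z (p 4) * w) = z (p 8) := e2
        calc w * z (p 4) * w = (z (p 4))⁻¹ * (z (p 4) * (w * z (p 4) * w)) := by group
          _ = z (p 4) * z (p 8) := by rw [h, O.inv p4B]
      rw [← O.smul p8B g, ← O.smul p4B w, O.inv p0B, O.inv p12B, s1, s2]
      exact O.comm p8B p4B (w0.within D (i := 8) (j := 4) (k := 4) le_rfl (by omega) (by omega) (by omega))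
        (by omega)
  have v8 : v • p 8 = p 8 := vfix 6 le_rfl
  have v7 : v • p 7 = p 7 := vfix 5 (by omega)
  have v9 : v • p 9 ≠ p 9 := k1
  have vg : ∀ x : V, v • g • x = g • v • x := fun x => by
    rw [← mul_smul, ← mul_smul, O.comm p2B p0B
      (w0.within D (i := 2) (j := 0) (k := 2) (by omega) (by omega) (by omega) (by omega)) (by omega)]
  have vk : v • k = k := by rw [← gk, vg, v7]
  have vO : v • (w • p 4) = w • p 4 := by rw [← hgw, vg, v8]
  have aOk : adj (w • p 4) k := wk ▸ D.smul w (w0.adj_at 4 (by omega))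
  have aO3 : adj (w • p 4) (w • p 3) := D.smul w (D.symm (w0.adj_at 3 (by omega)))
  have hk3 : k ≠ w • p 3 := fun e =>
    w0.ne_at 3 (by omega) (smul_left_cancel w (e.symm.trans wk.symm))
  have aO9 : adj (w • p 4) (g • p 9) := hgw ▸ D.smul g (w1.adj_at 6 (by omega))
  have vw3 : v • (w • p 3) ≠ w • p 3 := fun e => v9 (smul_left_cancel g ((vg _).symm.trans
    (D.fix_third vO vk e aOk aO3 hk3 aO9)))
  -- a second pair
  set q := fun i => if i ≤ 4 then p (2 + i) else w • p (10 - i) with hq
  have hqW : Wk adj (5 + 3) q := by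
    refine ⟨fun i hi => ?_, fun i hi => ?_⟩
    · show adj (if i ≤ 4 then p (2 + i) else w • p (10 - i))
        (if i + 1 ≤ 4 then p (2 + (i + 1)) else w • p (10 - (i + 1)))
      rcases (show i ≤ 3 ∨ i = 4 ∨ 5 ≤ i by omega) with h | rfl | h
      · rw [if_pos (by omega), if_pos (by omega)]
        exact w0.adj_at (2 + i) (by omega)
      · simp only [if_pos (le_refl 4), if_neg (show ¬ (4 + 1 ≤ 4) by omega)]
        show adj (p 6) (w • p 5)
        rw [wk]; exact hk
      · rw [if_neg (by omega), if_neg (by omega)]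
        refine D.smul w (D.symm ?_)
        rw [show 10 - i = 10 - (i + 1) + 1 by omega]
        exact w0.adj_at _ (by omega)
    · show (if i ≤ 4 then p (2 + i) else w • p (10 - i)) ≠
        (if i + 2 ≤ 4 then p (2 + (i + 2)) else w • p (10 - (i + 2)))
      rcases (show i ≤ 2 ∨ i = 3 ∨ i = 4 ∨ 5 ≤ i by omega) with h | rfl | rfl | h
      · rw [if_pos (by omega), if_pos (by omega)]
        exact w0.ne_at (2 + i) (by omega)
      · simp only [if_pos (show 3 ≤ 4 by omega), if_neg (show ¬ (3 + 2 ≤ 4) by omega)]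
        show p 5 ≠ w • p 5
        rw [wk]; exact h5k
      · simp only [if_pos (le_refl 4), if_neg (show ¬ (4 + 2 ≤ 4) by omega)]
        show p 6 ≠ w • p 4
        exact fun e => w0.ne_at 4 (by omega) (smul_left_cancel w (w6.trans e)).symm
      · rw [if_neg (by omega), if_neg (by omega)]
        intro e
        have := smul_left_cancel w e
        rw [show 10 - i = 10 - (i + 2) + 2 by omega] at this
        exact w0.ne_at _ (by omega) this.symm
  have hqm : Mut G adj isB 5 z q := P.mut_of_move p2B hqW (show v • (w • p 3) ≠ w • p 3 from vw3)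
  have E1 : v * (w * v * w * v * (w * v * w)) = z (p 6) := by
    have := P.ev_eq_five hqm
    rw [show ev 5 z q = v * (z (w • p 2) * v * z (w • p 2)) from rfl, ← O.smul p2B w, O.inv p12B] at this
    exact this
  -- the third pair
  set r := fun i => if i ≤ 4 then p (12 - i) else v • p (4 + i) with hr
  have a98 : adj (p 8) (p 9) := w1.adj_at 6 (by omega)
  have hrW : Wk adj (5 + 3) r := by
    refine ⟨fun i hi => ?_, fun i hi => ?_⟩
    · show adj (if i ≤ 4 then p (12 - i) else v • p (4 + i))
        (if i + 1 ≤ 4 then p (12 - (i + 1)) else v • p (4 + (i + 1)))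
      rcases (show i ≤ 3 ∨ i = 4 ∨ 5 ≤ i by omega) with h | rfl | h
      · rw [if_pos (by omega), if_pos (by omega)]
        have := w2.adj_at (8 - (i + 1)) (by omega)
        simp only [show 4 + (8 - (i + 1)) = 12 - (i + 1) by omega,
          show 4 + (8 - (i + 1) + 1) = 12 - i by omega] at this
        exact D.symm this
      · simp only [if_pos (le_refl 4), if_neg (show ¬ (4 + 1 ≤ 4) by omega)]
        show adj (p 8) (v • p 9)
        have := D.smul v a98
        rwa [v8] at this
      · rw [if_neg (by omega), if_neg (by omega)]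
        exact D.smul v (w2.adj_at i (by omega))
    · show (if i ≤ 4 then p (12 - i) else v • p (4 + i)) ≠
        (if i + 2 ≤ 4 then p (12 - (i + 2)) else v • p (4 + (i + 2)))
      rcases (show i ≤ 2 ∨ i = 3 ∨ i = 4 ∨ 5 ≤ i by omega) with h | rfl | rfl | h
      · rw [if_pos (by omega), if_pos (by omega)]
        have := w2.ne_at (8 - (i + 2)) (by omega)
        simp only [show 4 + (8 - (i + 2)) = 12 - (i + 2) by omega,
          show 4 + (8 - (i + 2) + 2) = 12 - i by omega] at this
        exact this.symm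
      · simp only [if_pos (show 3 ≤ 4 by omega), if_neg (show ¬ (3 + 2 ≤ 4) by omega)]
        exact Ne.symm v9
      · simp only [if_pos (le_refl 4), if_neg (show ¬ (4 + 2 ≤ 4) by omega)]
        show p 8 ≠ v • p 10
        exact fun e => w2.ne_at 4 (by omega) (smul_left_cancel v (v8.trans e))
      · rw [if_neg (by omega), if_neg (by omega)]
        exact fun e => w2.ne_at i (by omega) (smul_left_cancel v e)
  by_cases hw11 : w • (v • p 11) = v • p 11
  · -- a turning walk, which is impossible
    have h7 : Wk adj (5 + 2) fun i => r (5 + 3 - i) := (hrW.rev D).mono (by omega)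
    have hfx : w • (v • p 12) = v • p 12 := P.noA (fun i => r (5 + 3 - i))
      (show isB (v • p 12) from (D.isB_smul v _).2 p12B) h7 w
      (show w ∈ EBall G adj isB 1 (p 11) from
        O.mem_EBall' p12B (Within.single (w2.adj_at 7 (by omega)))) hw11
    have hc : w * (v * w * v) = v * w * v * w := by
      have := O.commute ((D.isB_smul v _).2 p12B) hfx
      rwa [← O.smul p12B v, O.inv p2B] at this
    refine O.ne (p 6) p6B ?_
    rw [← E1]
    calc v * (w * v * w * v * (w * v * w)) = (v * w * v * w) * (v * w * v * w) := by group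
      _ = (w * (v * w * v)) * (v * w * v * w) := by rw [hc]
      _ = w * (v * w * (v * v) * w * v) * w := by group
      _ = w * (v * (w * w) * v) * w := by rw [O.sq p2B]; group
      _ = 1 := by rw [O.sq p12B, mul_one, O.sq p2B, mul_one, O.sq p12B]
  · have hrm : Mut G adj isB 5 z r := P.mut_of_move p12B hrW (show w • (v • p 11) ≠ v • p 11 from hw11)
    have E2 := P.ev_eq_five hrm
    rw [show ev 5 z r = w * (z (v • p 12) * w * z (v • p 12)) from rfl, ← O.smul p12B v, O.inv p2B] at E2
    change w * (v * w * v * w * (v * w * v)) = z (p 8) at E2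
    have h86 : z (p 8) = z (p 6) := by
      calc z (p 8) = (v * v) * (w * (v * w * v * w * (v * w * v))) := by rw [E2, O.sq p2B, one_mul]
        _ = v * (v * (w * v * w * v * (w * v * w))) * v := by group
        _ = v * z (p 6) * v := by rw [E1]
        _ = z (p 6) := by rw [O.commute p6B (vfix 4 (by omega)), mul_assoc, O.sq p2B, mul_one]
    exact w0.ne_at 6 le_rfl (O.inj p6B p8B
      (w0.within D (i := 6) (j := 8) (k := 4) (by omega) le_rfl (by omega) (by omega)) h86.symm)

end CfsgLib.LocalEven.GoldBound
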