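import Cfsg.Agent.Lib.LocalEven.GoldBound.One

/-!
Critical distance one.
-/

set_option autoImplicit false
set_option linter.unusedSectionVars false
set_option linter.style.haveILetI false
set_option linter.unusedVariables false

namespace CfsgLib.LocalEven.GoldBound

variable {G : Type*} [Group G] {V : Type*} [MulAction G V]
variable {adj : V → V → Prop} {isB : V → Prop}

theorem commute_of_fix_one (P : Dist G adj isB 1) {f : ℕ → V} (h0 : isB (f 0)) (hw : Wk adj 3 f)
    {e x : G} (he : e ∈ Ec G (f 0)) (hm : e • f 3 ≠ f 3) (hx : x ∈ EBall G adj isB 1 (f 3))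
    (hx1 : x • f 1 = f 1) : e * x = x * e := by
  by_contra hne
  have H := P.hy
  have D := H.tri
  have h2 : isB (f 2) := hw.isB_even D h0 (by omega) rfl
  have h1 : ¬ isB (f 1) := hw.not_isB_odd D h0 (by omega) rfl
  have h3 : ¬ isB (f 3) := hw.not_isB_odd D h0 le_rfl rfl
  have hx2 : x • f 2 = f 2 := P.fixZ_wk hw (i := 3) le_rfl (by omega) h3 (by omega) (by omega) hx
  have hx0 : x • f 0 ≠ f 0 := fun e' => hne (he.2.2 x e').symm
  have a01 := hw.adj_at 0 (by omega)
  have a12 := hw.adj_at 1 (by omega)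
  have a23 := hw.adj_at 2 (by omega)
  obtain ⟨c, hc, h2c, h0c⟩ := D.third a12 (D.symm a01) (hw.ne_at 0 (by omega)).symm
  have hmem := H.mul_conj_mem h1 a12 (D.symm a01) hc (hw.ne_at 0 (by omega)).symm h2c h0c he hx1
    (D.eq_third hx1 hx2 a12 (D.symm a01) hc (hw.ne_at 0 (by omega)).symm h2c h0c hx0).1
  have hy3 : e * x * e⁻¹ ∈ EBall G adj isB 1 (f 3) := by
    have := Subgroup.mul_mem _ (H.mem_EBall_one h3 (D.symm a23) hmem) hx
    rw [eq_inv_of_sq he.2.1]
    simpa [mul_assoc] using this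
  have he2 := P.fix_wk hw (i := 0) (j := 2) (by omega) (by omega) h0 (by omega) (by omega) he
  have he1 : e • f 1 = f 1 := H.fix_adj he a01
  have hy1 := H.mem_Z_third h2 a23 (D.smul_adj he2 a23) (D.symm a12) (Ne.symm hm)
    (hw.ne_at 1 (by omega)).symm
    (fun e' => hw.ne_at 1 (by omega) (smul_left_cancel e (he1.trans e'.symm)))
    hy3 (conj_mem_EBall D e hx)
  have hc' := H.EBall_one_comm h1 (H.mem_EBall_one h1 (D.symm a01) he) hy1
  refine hne ?_
  calc e * x = (e * x * e⁻¹) * e := by group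
    _ = e * (e * x * e⁻¹) := hc'.symm
    _ = (e * e) * x * e⁻¹ := by group
    _ = x * e := by rw [he.2.1, one_mul, eq_inv_of_sq he.2.1]

theorem exists_one_one (P : Dist G adj isB 1) : ∃ z, One G adj isB 1 z := by
  have H := P.hy
  have D := H.tri
  obtain ⟨f, h0, hw, e₀, he₀, hmove⟩ := P.exists_crit
  have h2 : isB (f 2) := hw.isB_even D h0 (by omega) rfl
  have h3 : ¬ isB (f 3) := hw.not_isB_odd D h0 le_rfl rfl
  have a01 := hw.adj_at 0 (by omega)
  have a12 := hw.adj_at 1 (by omega)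
  have a23 := hw.adj_at 2 (by omega)
  obtain ⟨x, hx, hnc⟩ := P.exists_noncomm rfl hw h0 he₀ hmove
  have hx2 : x • f 2 = f 2 := P.fixZ_wk hw (i := 3) le_rfl (by omega) h3 (by omega) (by omega) hx
  have hx1 : x • f 1 ≠ f 1 := fun e => hnc (commute_of_fix_one P h0 hw he₀ hmove hx e)
  have hfix : ∀ e ∈ Ec G (f 0), e • f 1 = f 1 ∧ e • f 2 = f 2 := fun e he =>
    ⟨H.fix_adj he a01, P.fix_wk hw (i := 0) (by omega) (by omega) h0 (by omega) (by omega) he⟩
  by_cases hex : ∃ e ∈ Ec G (f 0), e ≠ 1 ∧ e • f 3 = f 3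
  · obtain ⟨e', he', he'1, he'3⟩ := hex
    obtain ⟨y, hy, hym⟩ : ∃ y, adj (f 3) y ∧ e' • y ≠ y := by
      by_contra hcon
      push Not at hcon
      have hc := H.commute_EBall_one h3 (mem_Qk.2 ⟨he'3, hcon⟩) hx
      have he'x : e' ∈ Ec G (x • f 0) := by
        have := conj_mem_Ec x he'
        rwa [← hc, mul_inv_cancel_right] at this
      have hW : Wk adj 4 (cons (f 0) (cons (f 1) (cons (f 2) (cons (x • f 1) fun _ => x • f 0)))) := by
        refine (((Wk.cons_walk (n := 0) ⟨fun i hi => absurd hi (by omega),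
          fun i hi => absurd hi (by omega)⟩ (D.smul x (D.symm a01)) fun h => absurd h (by omega)
          ).cons_walk (by have := D.smul x (D.symm a12); rwa [hx2] at this) fun _ => ?_).cons_walk
          a12 fun _ => ?_).cons_walk a01 fun _ => hw.ne_at 0 (by omega)
        · show f 2 ≠ x • f 0
          rw [← hx2]
          exact fun e => hw.ne_at 0 (by omega) (smul_left_cancel x e).symm
        · exact Ne.symm hx1
      exact he'1 (P.eq_one_of_walk_four hW h0 he' he'x)
    have hy2 : f 2 ≠ y := fun e => hym (e ▸ (hfix e' he').2)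
    have hyB := D.isB_of_adj h3 hy
    have key : ∀ w ∈ Ec G y, w • f 1 = f 1 → w = 1 := by
      intro w hw' hw1
      have hwZ := H.mem_EBall_one h3 hy hw'
      have hc : e' * w = w * e' := by
        by_cases hm' : e' • f 3 = f 3
        · have h1 := commute_of_fix_one P h0 hw he₀ hmove hwZ hw1
          have h2 := commute_of_fix_one P h0 hw (Subgroup.mul_mem _ he' he₀)
            (by rw [mul_smul]; exact fun e => hmove (smul_left_cancel e' (e.trans hm'.symm))) hwZ hw1
          calc e' * w = (e' * w) * e₀ * e₀⁻¹ := by group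
            _ = e' * e₀ * w * e₀⁻¹ := by rw [mul_assoc e' w e₀, ← h1, ← mul_assoc]
            _ = w * (e' * e₀) * e₀⁻¹ := by rw [h2]
            _ = w * e' := by group
        · exact commute_of_fix_one P h0 hw he' hm' hwZ hw1
      exact H.inf_Ec (D.symm a23) hy hy2
        (H.mem_of_fixed h3 (D.symm a23) hy he'3 (hfix e' he').2 hym hwZ hc) hw'
    obtain ⟨w₀, hw₀, hw₀1⟩ := H.exists_ne_one hyB
    refine exists_one P hyB (e₀ := w₀) fun w hw' => ?_
    by_cases hw1 : w • f 1 = f 1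
    · exact Or.inl (key w hw' hw1)
    have hf3 : ∀ w ∈ Ec G y, w • f 3 = f 3 ∧ w • f 2 = f 2 := fun w hw' =>
      ⟨H.fix_adj hw' (D.symm hy), P.fix hyB hw' (Within.head (D.symm hy) (Within.single (D.symm a23)))
        le_rfl⟩
    have himg := D.same_image (hf3 w hw').2 (hf3 w₀ hw₀).2 (hf3 w hw').1 (hf3 w₀ hw₀).1 a23
      (D.symm a12) (hw.ne_at 1 (by omega)).symm hw1 (fun e => hw₀1 (key w₀ hw₀ e))
    exact Or.inr (inv_mul_eq_one.1 (key (w₀⁻¹ * w) (Subgroup.mul_mem _ (Subgroup.inv_mem _ hw₀) hw')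
      (by rw [mul_smul, himg, inv_smul_smul]))).symm
  · push Not at hex
    refine exists_one P h0 (e₀ := e₀) fun e he => ?_
    by_cases he1 : e = 1
    · exact Or.inl he1
    have himg := D.same_image (hfix e he).2 (hfix e₀ he₀).2 (hfix e he).1 (hfix e₀ he₀).1 (D.symm a12)
      a23 (hw.ne_at 1 (by omega)) (hex e he he1) hmove
    by_contra hne
    push Not at hne
    refine hex (e₀⁻¹ * e) (Subgroup.mul_mem _ (Subgroup.inv_mem _ he₀) he)
      (fun h => hne.2 (inv_mul_eq_one.1 h).symm) ?_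
    rw [mul_smul, himg, inv_smul_smul]

namespace One

variable {z : V → G} (O : One G adj isB 1 z)
include O

theorem child_move {f : ℕ → V} (hf : Crit G adj isB 1 f) {y : V} (hy : adj (f 3) y)
    (hy2 : f 2 ≠ y) : z y • f 1 ≠ f 1 := by
  intro hfix
  have P := O.dist
  have H := P.hy
  have D := O.tri
  obtain ⟨h0, hw, -⟩ := id hf
  have hmove := O.crit_move hf
  have h3 : ¬ isB (f 3) := hw.not_isB_odd D h0 le_rfl rfl
  have a23 := hw.adj_at 2 (by omega)
  obtain ⟨x, hx, hnc⟩ := P.exists_noncomm rfl hw h0 (O.mem _ h0) hmove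
  refine hnc (commute_of_fix_one P h0 hw (O.mem _ h0) hmove hx ?_)
  have hle : EBall G adj isB 1 (f 3) ≤ MulAction.stabilizer G (f 1) := by
    intro w hw'
    obtain ⟨p, hp, q, hq, rfl⟩ := H.exists_decomp h3 (D.symm a23) hy hy2 hw'
    have h2 := D.isB_of_adj h3 (D.symm a23)
    refine Subgroup.mul_mem _ ?_ ?_
    · exact H.fix_adj hp (D.symm (hw.adj_at 1 (by omega)))
    · rcases O.eq y (D.isB_of_adj h3 hy) q hq with rfl | rfl
      · exact Subgroup.one_mem _
      · exact hfix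
  exact hle hx

theorem card_four {f : ℕ → V} (hf : Crit G adj isB 1 f) {T : Subgroup G}
    (hT : ∀ g ∈ T, g • f 0 = f 0 ∧ g • f 1 = f 1 ∧ g • f 2 = f 2) :
    Nat.card T ≤ 4 * Nat.card ↥(T ⊓ Fix G adj 2 (f 2)) := by
  have D := O.tri
  obtain ⟨h0, hw, -⟩ := id hf
  have hmove := O.crit_move hf
  have a01 := hw.adj_at 0 (by omega)
  have a12 := hw.adj_at 1 (by omega)
  have a23 := hw.adj_at 2 (by omega)
  obtain ⟨y, _, hy, -, hy2, -, -⟩ := D.exists_others (D.symm a23)
  set T1 := T ⊓ MulAction.stabilizer G (f 3)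
  set T2 := T1 ⊓ MulAction.stabilizer G y
  have c1 : Nat.card T ≤ 2 * Nat.card T1 := D.card_stab (H := T) (D.symm a12)
    (fun g hg => (hT g hg).2.2) (fun g hg => (hT g hg).2.1) a23 (hw.ne_at 1 (by omega))
  have c2 : Nat.card T1 ≤ 2 * Nat.card T2 := D.card_stab (H := T1) (D.symm a23) (fun g hg => hg.2)
    (fun g hg => (hT g hg.1).2.2) hy hy2
  have hle : T2 ≤ T ⊓ Fix G adj 2 (f 2) := by
    intro g hg
    obtain ⟨⟨gT, g3⟩, gy⟩ := hg
    obtain ⟨g0, g1, g2⟩ := hT g gT
    refine ⟨gT, mem_Fix.2 fun v hv => ?_⟩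
    rcases hv with rfl | ⟨n, hn, rfl | ⟨_, hv, rfl⟩⟩
    · exact g2
    · exact D.fix_third g2 g1 g3 (D.symm a12) a23 (hw.ne_at 1 (by omega)) hn
    have z2 : z (f 0) • f 2 = f 2 := O.fix_wk hw 2 (i := 0) (by omega) (by omega) h0 (by omega) (by omega)
    have z1 : z (f 0) • f 1 = f 1 := O.fix_wk hw 1 (i := 0) (by omega) (by omega) h0 (by omega) (by omega)
    have ho : adj (f 2) (z (f 0) • f 3) := D.smul_adj z2 a23
    rcases D.cover (D.symm a12) a23 ho hn (hw.ne_at 1 (by omega))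
      (fun e => hw.ne_at 1 (by omega) (smul_left_cancel _ (z1.trans e))) (Ne.symm hmove) with
      rfl | rfl | rfl
    · exact D.fix_third g1 g2 g0 a12 (D.symm a01) (hw.ne_at 0 (by omega)).symm hv
    · exact D.fix_third g3 g2 gy (D.symm a23) hy hy2 hv
    have hgz : ∀ w : V, g • w = w → g • (z (f 0) • w) = z (f 0) • w := fun w hw' => by
      rw [← mul_smul, O.commute h0 g0, mul_smul, hw']
    exact D.fix_third (hgz _ g3) g2 (hgz _ gy) (D.symm ho) (D.smul _ hy)
      (fun e => hy2 (smul_left_cancel _ (z2.trans e))) hv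
  haveI := D.finite_le (H := T ⊓ Fix G adj 2 (f 2)) (v := f 1) fun g hg => (hT g hg.1).2.1
  have := Subgroup.card_le_of_le hle
  omega

theorem bound_one : ∃ u v, adj u v ∧ Nat.card (Ed G u v) ≤ 2 ^ 7 := by
  have P := O.dist
  have D := O.tri
  obtain ⟨f, hf⟩ := P.exists_crit
  obtain ⟨h0, hw, -⟩ := id hf
  have a01 := hw.adj_at 0 (by omega)
  have a12 := hw.adj_at 1 (by omega)
  have a23 := hw.adj_at 2 (by omega)
  have h02 : f 0 ≠ f 2 := hw.ne_at 0 (by omega)
  obtain ⟨o, ho, ho2, ho0⟩ := D.third a12 (D.symm a01) h02.symm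
  obtain ⟨s, hs1, hs2, hs0⟩ := D.trans_pair a12 (D.symm a01) (D.symm a01) a12 h02.symm h02
  obtain ⟨t, ht1, ht2, ht0⟩ := D.trans_pair a12 (D.symm a01) ho a12 h02.symm ho2.symm
  refine ⟨f 1, f 2, a12, ?_⟩
  set T0 := Ed G (f 1) (f 2)
  set T1 := T0 ⊓ MulAction.stabilizer G (f 0) with hT1
  have c1 : Nat.card T0 ≤ 2 * Nat.card T1 := D.card_stab (H := T0) a12 (fun g hg => hg.1)
    (fun g hg => hg.2) (D.symm a01) h02.symm
  set T2 := T1 ⊓ Fix G adj 2 (f 2) with hT2
  have c2 : Nat.card T1 ≤ 4 * Nat.card T2 := O.card_four hf (T := T1) fun g hg => ⟨hg.2, hg.1.1, hg.1.2⟩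
  set T3 := T2 ⊓ Fix G adj 2 (f 0) with hT3
  have c3 : Nat.card T2 ≤ 4 * Nat.card T3 := by
    have := O.card_four (hf.map D s) (T := T2) fun g hg => ⟨by
      show g • s • f 0 = s • f 0
      rw [hs0]; exact hg.1.1.2, by
      show g • s • f 1 = s • f 1
      rw [hs1]; exact hg.1.1.1, by
      show g • s • f 2 = s • f 2
      rw [hs2]; exact hg.1.2⟩
    simpa only [hs2] using this
  set T4 := T3 ⊓ Fix G adj 2 o with hT4
  have c4 : Nat.card T3 ≤ 4 * Nat.card T4 := by
    have := O.card_four (hf.map D t) (T := T3) fun g hg => ⟨by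
      show g • t • f 0 = t • f 0
      rw [ht0]; exact hg.1.1.1.2, by
      show g • t • f 1 = t • f 1
      rw [ht1]; exact hg.1.1.1.1, by
      show g • t • f 2 = t • f 2
      rw [ht2]; exact D.fix_third hg.1.1.1.1 hg.1.1.1.2 hg.1.1.2 a12 (D.symm a01) h02.symm ho⟩
    simpa only [ht2] using this
  set M := Fix G adj 2 (f 2) ⊓ Fix G adj 2 (f 0) ⊓ Fix G adj 2 o with hM
  have hle : T4 ≤ M := fun g hg => ⟨⟨hg.1.1.2, hg.1.2⟩, hg.2⟩
  have hMe : ∀ n ∈ M, n • f 1 = f 1 ∧ n • f 0 = f 0 := fun n hn =>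
    ⟨mem_Fix.1 hn.1.2 _ ((Within.single a01).mono (by omega)), mem_Fix.1 hn.1.2 _ (Within.refl 2 _)⟩
  obtain ⟨y, _, hy, -, hy2, -, -⟩ := D.exists_others (D.symm a23)
  have hyB : isB y := D.isB_of_adj (hw.not_isB_odd D h0 le_rfl rfl) hy
  have hy20 : Within adj 2 (f 0) (s • y) := by
    rw [← hs2]; exact (Within.head a23 (Within.single hy)).smul D s
  have hsyB : isB (s • y) := (D.isB_smul s y).2 hyB
  have hMbot : M = ⊥ := by
    refine D.eq_bot_of_moved (D.symm a01) hMe (fun g hg n hn => ?_) (O.inv hsyB) ?_ ?_ fun n hn => ?_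
    · have key : ∀ v, adj (f 1) v → g * n * g⁻¹ ∈ Fix G adj 2 v := by
        intro v hv
        have hv' := D.smul_adj (inv_fix hg) hv
        have : n ∈ Fix G adj 2 (g⁻¹ • v) := by
          rcases D.cover a12 (D.symm a01) ho hv' h02.symm ho2 ho0 with e | e | e <;> rw [e]
          exacts [hn.1.1, hn.1.2, hn.2]
        have := D.conj_mem_Fix (g := g) this
        rwa [smul_inv_smul] at this
      exact ⟨⟨key _ a12, key _ (D.symm a01)⟩, key _ ho⟩
    · exact O.fix hsyB (hy20.symm D) le_rfl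
    · intro e
      rw [← O.smul hyB s] at e
      have := conj_smul_smul s (z y) (f 1)
      rw [hs1, e] at this
      exact O.child_move hf hy hy2 (smul_left_cancel s (this.symm.trans hs1.symm))
    · rw [← O.commute hsyB (mem_Fix.1 hn.1.2 _ hy20), mul_inv_cancel_right]
      exact hn
  haveI := D.finite_le (H := M) (v := f 1) fun g hg => (hMe g hg).1
  have e1 := Subgroup.card_le_of_le hle
  have e2 : Nat.card M = 1 := by rw [hMbot]; exact Subgroup.card_bot
  omega

end One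

end CfsgLib.LocalEven.GoldBound
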