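import Cfsg.Agent.Lib.LocalEven.GoldBound.Three

/-!
Critical distance three: the kernels of the balls and the order of the edge group.
-/

set_option autoImplicit false
set_option linter.unusedSectionVars false
set_option linter.style.haveILetI false
set_option linter.unusedVariables false

namespace CfsgLib.LocalEven.GoldBound

variable {G : Type*} [Group G] {V : Type*} [MulAction G V]
variable {adj : V → V → Prop} {isB : V → Prop} {z : V → G}

namespace Odd3

variable (P : Odd3 G adj isB 3 z)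
include P

theorem fix_beyond {α a n u : V} (hα : ¬ isB α) (ha : adj α a) (h : Beyond adj α a n u) {y : G}
    (hy : y • a = a) (hc : y * z u = z u * y) : y • n = n ∧ y • u = u :=
  P.fix_two_beyond h.1 h.2.1 h.2.2.2.symm (P.beyond_B hα ha h) hy hc

theorem mem_Fix_two {α a : V} (hα : ¬ isB α) (ha : adj α a) {y : G} (hya : y • a = a)
    (hyn : ∀ x, adj α x → y • x = x) (hyα : y • α = α)
    (h : ∀ n u, Beyond adj α a n u → y * z u = z u * y) : y ∈ Fix G adj 2 a := by
  have D := P.tri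
  refine mem_Fix.2 fun w hw => ?_
  rcases hw with rfl | ⟨n, hn, hw⟩
  · exact hya
  have hnfix : n ≠ α → y • n = n := fun hne => by
    obtain ⟨u, _, hu, -, hua, -, -⟩ := D.exists_others (D.symm hn)
    exact (P.fix_beyond hα ha ⟨hn, hu, hne, hua.symm⟩ hya (h n u ⟨hn, hu, hne, hua.symm⟩)).1
  rcases hw with rfl | ⟨x, hx, hxw⟩
  · by_cases e : n = α
    · rw [e]; exact hyα
    · exact hnfix e
  rw [← show x = w from hxw]
  by_cases e : n = α
  · exact hyn x (e ▸ hx)
  by_cases e' : x = a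
  · rw [e']; exact hya
  exact (P.fix_beyond hα ha ⟨hn, hx, e, e'⟩ hya (h n x ⟨hn, hx, e, e'⟩)).2

theorem good_of_fix {m α a a₁ n u : V} (hm : isB m) (hα : adj m α) (ha : adj α a) (ha₁ : adj α a₁)
    (ham : a ≠ m) (ha₁m : a₁ ≠ m) (hne : a ≠ a₁) (hu : Beyond adj α a n u) {y : G}
    (hy : y ∈ Fix G adj 2 m) (hy₁ : y ∈ Fix G adj 2 a₁) :
    z u * (y * z u * y⁻¹) = 1 ∨ z u * (y * z u * y⁻¹) = z a₁ := by
  have D := P.tri
  obtain ⟨α', _, hα', -, hne', -, -⟩ := D.exists_others hα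
  obtain ⟨c, c', hc, hc', hmc, hmc', hcc'⟩ := D.exists_others (D.symm hα')
  obtain ⟨nw, w, hw⟩ := P.exists_beyond hc
  obtain ⟨n₁, u₁, hu₁⟩ := P.exists_beyond ha₁
  have hu₁B := P.beyond_B (D.not_isB_of_adj hm hα) ha₁ hu₁
  have h1 : z u₁ * (y * z u₁ * y⁻¹) = 1 := by
    rw [P.one.commute hu₁B (mem_Fix.1 hy₁ _ (Within.head hu₁.1 (Within.single hu₁.2.1))),
      mul_inv_cancel_right, P.one.sq hu₁B]
  exact P.transfer hm hα hα' hne' ha ham hc hmc.symm ha₁ hne ha₁m.symm hc' hcc' hmc' hu hw hy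
    (P.transfer hm hα' hα hne'.symm hc hmc.symm ha₁ ha₁m hc' hcc' hmc' ha hne.symm ham.symm hw hu₁ hy
      (Or.inl h1))

theorem fix_two_third {α m a₁ a : V} (hα : ¬ isB α) (hm : adj α m) (ha₁ : adj α a₁) (ha : adj α a)
    (h1 : a ≠ m) (h2 : a₁ ≠ m) (h3 : a ≠ a₁) {y : G} (hy : y ∈ Fix G adj 2 m)
    (hy₁ : y ∈ Fix G adj 2 a₁) : y ∈ Fix G adj 2 a := by
  have O := P.one
  have D := P.tri
  have hmB := D.isB_of_adj hα hm
  have ha₁B := D.isB_of_adj hα ha₁
  have hya := mem_Fix.1 hy a (Within.head (D.symm hm) (Within.single ha))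
  refine P.mem_Fix_two hα ha hya (fun x hx => mem_Fix.1 hy x (Within.head (D.symm hm) (Within.single hx)))
    (mem_Fix.1 hy α ((Within.single (D.symm hm)).mono (by omega))) fun n u hu => ?_
  have huB := P.beyond_B hα ha hu
  have key : z u * (y * z u * y⁻¹) = 1 → y * z u = z u * y := fun e => by
    rw [mul_eq_one_iff_inv_eq, O.inv huB] at e
    exact mul_inv_eq_iff_eq_mul.1 e.symm
  rcases P.good_of_fix hmB (D.symm hm) ha ha₁ h1 h2 h3 hu hy hy₁ with e | e
  · exact key e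
  rcases P.good_of_fix ha₁B (D.symm ha₁) ha hm h3 h2.symm h1 hu hy₁ hy with e' | e'
  · exact key e'
  · exact absurd (O.inj ha₁B hmB ((Within.head (D.symm ha₁) (Within.single hm)).mono (by omega))
      (e.symm.trans e')) h2

theorem mem_Fix_three {α a c : V} (hα : ¬ isB α) (ha : adj α a) (hc : adj α c) (hac : a ≠ c) {y : G}
    (hya : y ∈ Fix G adj 2 a) (hyc : y ∈ Fix G adj 2 c) : y ∈ Fix G adj 3 α := by
  have D := P.tri
  refine mem_Fix.2 fun w hw => ?_
  rcases hw with rfl | ⟨x, hx, hw⟩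
  · exact mem_Fix.1 hya _ ((Within.single (D.symm ha)).mono (by omega))
  by_cases e : x = a
  · exact mem_Fix.1 hya w (e ▸ hw)
  by_cases e' : x = c
  · exact mem_Fix.1 hyc w (e' ▸ hw)
  exact mem_Fix.1 (P.fix_two_third hα ha hc hx e hac.symm e' hya hyc) w hw

theorem Fix_two_of_three {α a : V} (ha : adj α a) {y : G} (hy : y ∈ Fix G adj 3 α) :
    y ∈ Fix G adj 2 a :=
  mem_Fix.2 fun w hw => mem_Fix.1 hy w (Within.head ha hw)

theorem Fix_three_side {α m n d nd u : V} (hα : ¬ isB α) (hm : adj α m) (hn : adj m n) (hd : adj n d)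
    (hdm : d ≠ m) (hu : Beyond adj n d nd u) {r : G} (hr : r ∈ Fix G adj 3 α)
    (hc : r * z u = z u * r) : r ∈ Fix G adj 3 n := by
  have O := P.one
  have D := P.tri
  have hmB := D.isB_of_adj hα hm
  have hnA := D.not_isB_of_adj hmB hn
  have hdB := D.isB_of_adj hnA hd
  have hy := P.Fix_two_of_three hm hr
  have hnbrs : ∀ x, adj n x → r • x = x := fun x hx =>
    mem_Fix.1 hy x (Within.head hn (Within.single hx))
  refine P.mem_Fix_three hnA (D.symm hn) hd hdm.symm hy (P.mem_Fix_two hnA hd (hnbrs d hd) hnbrs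
    (mem_Fix.1 hy n ((Within.single hn).mono (by omega))) fun n' u' hu' => ?_)
  have hmem := P.natl_pair P.natl hdB (D.symm hd) hu.1 hu'.1 hu.2.2.1 hu'.2.2.1 hu.2.1 hu'.2.1 hu.2.2.2
    hu'.2.2.2
  have hcZ := commute_EBall (x := r) (fun x hx hnx e he =>
    he.2.2 r (hnbrs x (P.dist.hy.adj_of_within_one hnA hx hnx))) hmem
  calc r * z u' = r * (z u * (z u * z u')) := by
        rw [← mul_assoc (z u), O.sq (P.beyond_B hnA hd hu), one_mul]
    _ = z u * r * (z u * z u') := by rw [← mul_assoc, hc]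
    _ = z u * (z u * z u' * r) := by rw [mul_assoc, hcZ]
    _ = z u' * r := by rw [← mul_assoc, ← mul_assoc, O.sq (P.beyond_B hnA hd hu), one_mul]

theorem mem_Fix_four {α m n d nd u : V} (hα : ¬ isB α) (hm : adj α m) (hn : adj m n) (hnα : n ≠ α)
    (hd : adj n d) (hdm : d ≠ m) (hu : Beyond adj n d nd u) {r : G} (hr : r ∈ Fix G adj 3 α)
    (hc : r * z u = z u * r) : r ∈ Fix G adj 4 m := by
  have O := P.one
  have D := P.tri
  have hmB := D.isB_of_adj hα hm
  have hnA := D.not_isB_of_adj hmB hn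
  obtain ⟨c, c', hc1, hc', hmc, hmc', hcc'⟩ := D.exists_others hm
  obtain ⟨nw, w, hw⟩ := P.exists_beyond hc1
  have hwB := P.beyond_B hα hc1 hw
  obtain ⟨-, hmv⟩ := P.pair3 hα hc1 hm hc' hmc.symm hcc' hmc' hw ⟨hn, hd, hnα, hdm⟩
  set v := z w
  have dw : Within adj 3 w α :=
    Within.head (D.symm hw.2.1) (Within.head (D.symm hw.1) (Within.single (D.symm hc1)))
  have vα : v • α = α := O.fix hwB dw (by omega)
  have vm : v • m = m := O.fix hwB (dw.tail hm) le_rfl
  obtain ⟨o, ho, hαo, hno⟩ := D.third (D.symm hm) hn hnα.symm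
  have evn : v • n = o := (D.eq_third vm vα (D.symm hm) hn ho hnα.symm hαo hno hmv).1
  have hrv : r * v = v * r := O.commute hwB
    (mem_Fix.1 hr w (Within.head hc1 (Within.head hw.1 (Within.single hw.2.1))))
  have hn3 := P.Fix_three_side hα hm hn hd hdm hu hr hc
  have ho3 : r ∈ Fix G adj 3 o := by
    refine P.Fix_three_side hα hm ho (evn ▸ D.smul v hd)
      (fun e => hdm (smul_left_cancel v (e.trans vm.symm)))
      ⟨D.smul v hu.1, D.smul v hu.2.1, fun e => hu.2.2.1 (smul_left_cancel v (e.trans evn.symm)),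
        fun e => hu.2.2.2 (smul_left_cancel v e)⟩ hr ?_
    rw [← O.smul (P.beyond_B hnA hd hu) v]
    calc r * (v * z u * v⁻¹) = r * v * z u * v⁻¹ := by group
      _ = v * (r * z u) * v⁻¹ := by rw [hrv]; group
      _ = v * z u * r * v⁻¹ := by rw [hc]; group
      _ = v * z u * (r * v⁻¹) := by group
      _ = v * z u * v⁻¹ * r := by rw [((show Commute r v from hrv).inv_right).eq]; group
  refine mem_Fix.2 fun x hx => ?_
  rcases hx with rfl | ⟨y, hy, hx⟩
  · exact mem_Fix.1 hr _ ((Within.single hm).mono (by omega))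
  rcases D.cover (D.symm hm) hn ho hy hnα.symm hαo hno with rfl | rfl | rfl
  exacts [mem_Fix.1 hr x hx, mem_Fix.1 hn3 x hx, mem_Fix.1 ho3 x hx]

/-- The second ball has index at most two. -/
theorem inv_mul_mem {α m : V} (hα : ¬ isB α) (hm : adj α m) {r s : G} (hr : r ∈ Fix G adj 3 α)
    (hs : s ∈ Fix G adj 3 α) (hr' : r ∉ Fix G adj 4 m) (hs' : s ∉ Fix G adj 4 m) :
    r⁻¹ * s ∈ Fix G adj 4 m := by
  have O := P.one
  have D := P.tri
  have hmB := D.isB_of_adj hα hm
  obtain ⟨n, _, hn, -, hαn, -, -⟩ := D.exists_others (D.symm hm)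
  obtain ⟨d, d', hd, hd', hmd, hmd', hdd'⟩ := D.exists_others (D.symm hn)
  obtain ⟨nd, u, hu⟩ := P.exists_beyond hd
  have hnA := D.not_isB_of_adj hmB hn
  have huB := P.beyond_B hnA hd hu
  obtain ⟨c, c', hc1, hc', hmc, hmc', hcc'⟩ := D.exists_others hm
  obtain ⟨nw, w, hw⟩ := P.exists_beyond hc1
  have hwB := P.beyond_B hα hc1 hw
  have key : ∀ r ∈ Fix G adj 3 α, r ∉ Fix G adj 4 m → z u * (r * z u * r⁻¹) = z d' := by
    intro r hr hr'
    refine (P.transfer hmB hn (D.symm hm) hαn.symm hd hmd.symm hc1 hmc.symm hd' hdd' hmd' hc' hcc' hmc'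
      hu hw (P.Fix_two_of_three hm hr) (Or.inl ?_)).resolve_left fun e => hr'
        (P.mem_Fix_four hα hm hn hαn.symm hd hmd.symm hu hr ?_)
    · rw [O.commute hwB (mem_Fix.1 hr w (Within.head hc1 (Within.head hw.1 (Within.single hw.2.1)))),
        mul_inv_cancel_right, O.sq hwB]
    · rw [mul_eq_one_iff_inv_eq, O.inv huB] at e
      exact mul_inv_eq_iff_eq_mul.1 e.symm
  refine P.mem_Fix_four hα hm hn hαn.symm hd hmd.symm hu (Subgroup.mul_mem _ (Subgroup.inv_mem _ hr) hs) ?_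
  have e := mul_left_cancel ((key r hr hr').trans (key s hs hs').symm)
  calc r⁻¹ * s * z u = r⁻¹ * (s * z u * s⁻¹) * s := by group
    _ = z u * (r⁻¹ * s) := by rw [← e]; group

theorem z_not_mem {α a a' : V} (hα : ¬ isB α) (ha : adj α a) (ha' : adj α a') (hne : a ≠ a') :
    z a' ∉ Fix G adj 4 a := by
  have D := P.tri
  obtain ⟨n, _, hn, -, hαn, -, -⟩ := D.exists_others (D.symm ha)
  obtain ⟨c, c', hc, hc', hac, hac', hcc'⟩ := D.exists_others (D.symm hn)
  obtain ⟨nc, w, hw⟩ := P.exists_beyond hc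
  obtain ⟨-, hmv⟩ := P.pair3 (D.not_isB_of_adj (D.isB_of_adj hα ha) hn) (D.symm hn) hc hc' hac hac'
    hcc' ⟨D.symm ha, ha', hαn, hne.symm⟩ hw
  exact fun h => hmv (mem_Fix.1 h nc
    ((Within.head hn (Within.head hc (Within.single hw.1))).mono (by omega)))

theorem card_Fix_three {α : V} (hα : ¬ isB α) : Nat.card ↥(Fix G adj 3 α) ≤ 4 := by
  have O := P.one
  have H := P.dist.hy
  have D := P.tri
  obtain ⟨a, c, d, hac, had, hcd, ha, hc, hd, -⟩ := D.three α
  set R := Fix G adj 3 α with hR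
  have hRα : ∀ r ∈ R, r • α = α := fun r hr => mem_Fix.1 hr α (Within.refl 3 α)
  haveI := D.finite_le (H := R) (v := α) hRα
  have hidx : ∀ (K : Subgroup G) m, K ≤ R → adj α m →
      Nat.card K ≤ 2 * Nat.card ↥(K ⊓ Fix G adj 4 m) := fun K m hK hm => by
    haveI := D.finite_le (H := K) (v := α) fun r hr => hRα r (hK hr)
    exact card_le_two_mul inf_le_left fun x y hx hy hxK hyK => ⟨K.mul_mem (K.inv_mem hx) hy,
      P.inv_mul_mem hα hm (hK hx) (hK hy) (fun h => hxK ⟨hx, h⟩) fun h => hyK ⟨hy, h⟩⟩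
  set U := R ⊓ Fix G adj 4 a ⊓ Fix G adj 4 c ⊓ Fix G adj 4 d with hU
  have hUmem : ∀ r, r ∈ R → (∀ x, adj α x → r ∈ Fix G adj 4 x) → r ∈ U := fun r h1 h2 =>
    ⟨⟨⟨h1, h2 a ha⟩, h2 c hc⟩, h2 d hd⟩
  have hUx : ∀ r ∈ U, ∀ x, adj α x → r ∈ Fix G adj 4 x := fun r hr x hx => by
    rcases D.cover ha hc hd hx hac had hcd with e | e | e <;> rw [e]
    exacts [hr.1.1.2, hr.1.2, hr.2]
  have haB := D.isB_of_adj hα ha
  have hUbot : U = ⊥ := by
    obtain ⟨n, _, hn, -, hαn, -, -⟩ := D.exists_others (D.symm ha)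
    obtain ⟨a₂, a₂', ha₂, ha₂', h1, h1', h2⟩ := D.exists_others (D.symm hn)
    obtain ⟨n₂, w, hw⟩ := P.exists_beyond ha₂
    have hnA := D.not_isB_of_adj haB hn
    have hwB := P.beyond_B hnA ha₂ hw
    obtain ⟨-, hmv⟩ := P.pair3 hnA ha₂ (D.symm hn) ha₂' h1.symm h2 h1' hw
      ⟨D.symm ha, hc, hαn, hac.symm⟩
    have hwa : Within adj 4 a w :=
      Within.head hn (Within.head ha₂ (Within.head hw.1 (Within.single hw.2.1)))
    refine D.eq_bot_of_moved ha (fun r hr => ⟨hRα r hr.1.1.1, mem_Fix.1 hr.1.1.2 a (Within.refl 4 a)⟩)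
      (fun g hg r hr => hUmem _ (by simpa only [hg] using D.conj_mem_Fix (g := g) hr.1.1.1) fun x hx => ?_)
      (O.inv hwB) (O.fix hwB (hwa.symm D) le_rfl) hmv fun r hr => ?_
    · have := D.conj_mem_Fix (g := g) (hUx r hr (g⁻¹ • x) (D.smul_adj (inv_fix hg) hx))
      rwa [smul_inv_smul] at this
    · rw [← O.commute hwB (mem_Fix.1 hr.1.1.2 w hwa), mul_inv_cancel_right]
      exact hr
  have h2 : R ⊓ Fix G adj 4 a ⊓ Fix G adj 4 c = ⊥ := by
    refine (Subgroup.eq_bot_iff_forall _).2 fun r hr => ?_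
    by_cases hrd : r ∈ Fix G adj 4 d
    · have : r ∈ U := ⟨hr, hrd⟩
      rwa [hUbot, Subgroup.mem_bot] at this
    exfalso
    have hdB := D.isB_of_adj hα hd
    have hzR : z d ∈ R := mem_Fix.2 fun w hw => O.fix hdB (Within.head (D.symm hd) hw) le_rfl
    have hzd : z d ∈ Fix G adj 4 d := mem_Fix.2 fun w hw => O.fix hdB hw le_rfl
    set j := r * z d with hj
    have hjR : j ∈ R := R.mul_mem hr.1.1 hzR
    have hout : ∀ x, adj α x → j ∉ Fix G adj 4 x := fun x hx hjx => by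
      rcases D.cover ha hc hd hx hac had hcd with rfl | rfl | rfl
      · exact P.z_not_mem hα ha hd had ((Subgroup.mul_mem_cancel_left _ hr.1.2).1 hjx)
      · exact P.z_not_mem hα hc hd hcd ((Subgroup.mul_mem_cancel_left _ hr.2).1 hjx)
      · exact hrd ((Subgroup.mul_mem_cancel_right _ hzd).1 hjx)
    have hcomm : ∀ g : G, g • α = α → g * j = j * g := by
      intro g hg
      have hk : j⁻¹ * (g * j * g⁻¹) ∈ U := by
        have hR' : g * j * g⁻¹ ∈ R := by simpa only [hg] using D.conj_mem_Fix (g := g) hjR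
        refine hUmem _ (R.mul_mem (R.inv_mem hjR) hR') fun x hx => ?_
        refine P.inv_mul_mem hα hx hjR hR' (hout x hx) fun h => ?_
        have := D.conj_mem_Fix (g := g⁻¹) h
        rw [show g⁻¹ * (g * j * g⁻¹) * g⁻¹⁻¹ = j by group] at this
        exact hout _ (D.smul_adj (inv_fix hg) hx) this
      rw [hUbot, Subgroup.mem_bot, inv_mul_eq_one] at hk
      exact mul_inv_eq_iff_eq_mul.1 hk.symm
    have hj2 : j * j = 1 := by
      have : j * j ∈ U := hUmem _ (R.mul_mem hjR hjR) fun x hx => by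
        have := P.inv_mul_mem hα hx (R.inv_mem hjR) hjR
          (fun h => hout x hx (by simpa using Subgroup.inv_mem _ h)) (hout x hx)
        simpa using this
      rwa [hUbot, Subgroup.mem_bot] at this
    have hjE : j ∈ Ec G a := H.central haB (D.symm ha) j
      (mem_Fix.1 hjR a ((Within.single ha).mono (by omega))) (hRα j hjR) hj2 fun t _ ht => hcomm t ht
    exact hout a ha (by rw [H.eq_one_of_central ha hjE hcomm]; exact Subgroup.one_mem _)
  have e1 := hidx R a le_rfl ha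
  have e2 := hidx (R ⊓ Fix G adj 4 a) c inf_le_left hc
  have e3 : Nat.card ↥(R ⊓ Fix G adj 4 a ⊓ Fix G adj 4 c) = 1 := by rw [h2]; exact Subgroup.card_bot
  omega

theorem fix_two_of_path {m α a n d : V} (hm : isB m) (hα : adj m α) (hn : adj m n) (hαn : α ≠ n)
    (ha : adj α a) (ham : a ≠ m) (hd : adj n d) (hdm : d ≠ m) {g : G} (hgm : g • m = m)
    (hgα : g • α = α) (hga : g • a = a) (hgn : g • n = n) (hgd : g • d = d) :
    g ∈ Fix G adj 2 m := by
  have O := P.one
  have D := P.tri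
  have hαA := D.not_isB_of_adj hm hα
  have hαfix : ∀ x, adj α x → g • x = x := fun x hx =>
    D.fix_third hgα hgm hga (D.symm hα) ha ham.symm hx
  refine mem_Fix.2 fun w hw => ?_
  rcases hw with rfl | ⟨y, hy, hw⟩
  · exact hgm
  have hgy : g • y = y := D.fix_third hgm hgα hgn hα hn hαn hy
  rcases hw with rfl | ⟨x, hx, hxw⟩
  · exact hgy
  rw [← show x = w from hxw]
  by_cases e : y = α
  · exact hαfix x (e ▸ hx)
  by_cases e' : x = m
  · rw [e']; exact hgm
  have hnA := D.not_isB_of_adj hm hn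
  have hyA := D.not_isB_of_adj hm hy
  have hdB := D.isB_of_adj hnA hd
  have hxB := D.isB_of_adj hyA hx
  have hmem := P.natl_pair P.natl hm hα hn hy hαn.symm e hd hx hdm e'
  have hcZ := commute_EBall (x := g) (fun t ht hαt e he =>
    he.2.2 g (hαfix t (P.dist.hy.adj_of_within_one hαA ht hαt))) hmem
  have hcd := O.commute hdB hgd
  refine O.fix_of_commute hxB ?_
    (Within.head (D.symm hx) ((Within.single (D.smul_adj hgy hx)).mono (by omega)))
  calc g * z x = g * (z d * (z d * z x)) := by rw [← mul_assoc (z d), O.sq hdB, one_mul]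
    _ = z d * g * (z d * z x) := by rw [← mul_assoc, hcd]
    _ = z d * (z d * z x * g) := by rw [mul_assoc, hcZ]
    _ = z x * g := by rw [← mul_assoc, ← mul_assoc, O.sq hdB, one_mul]

theorem bound_three : ∃ u v, adj u v ∧ Nat.card (Ed G u v) ≤ 2 ^ 7 := by
  have D := P.tri
  obtain ⟨f, h⟩ := P.exists_mut
  obtain ⟨h0, hw, -, -⟩ := h
  have h2 : isB (f 2) := hw.isB_even D h0 (by omega) rfl
  have h4 : isB (f 4) := hw.isB_even D h0 (by omega) rfl
  have h3 : ¬ isB (f 3) := hw.not_isB_odd D h0 (by omega) rfl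
  have a01 := hw.adj_at 0 (by omega)
  have a12 := hw.adj_at 1 (by omega)
  have a23 := hw.adj_at 2 (by omega)
  have a34 := hw.adj_at 3 (by omega)
  have a45 := hw.adj_at 4 (by omega)
  have a56 := hw.adj_at 5 (by omega)
  refine ⟨f 2, f 3, a23, ?_⟩
  set T0 := Ed G (f 2) (f 3)
  set T1 := T0 ⊓ MulAction.stabilizer G (f 1)
  set T2 := T1 ⊓ MulAction.stabilizer G (f 0)
  set T3 := T2 ⊓ MulAction.stabilizer G (f 4)
  set T4 := T3 ⊓ MulAction.stabilizer G (f 5)
  set T5 := T4 ⊓ MulAction.stabilizer G (f 6)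
  have c1 : Nat.card T0 ≤ 2 * Nat.card T1 := D.card_stab (H := T0) a23 (fun g hg => hg.1)
    (fun g hg => hg.2) (D.symm a12) (hw.ne_at 1 (by omega)).symm
  have c2 : Nat.card T1 ≤ 2 * Nat.card T2 := D.card_stab (H := T1) a12 (fun g hg => hg.2)
    (fun g hg => hg.1.1) (D.symm a01) (hw.ne_at 0 (by omega)).symm
  have c3 : Nat.card T2 ≤ 2 * Nat.card T3 := D.card_stab (H := T2) (D.symm a23) (fun g hg => hg.1.1.2)
    (fun g hg => hg.1.1.1) a34 (hw.ne_at 2 (by omega))
  have c4 : Nat.card T3 ≤ 2 * Nat.card T4 := D.card_stab (H := T3) (D.symm a34) (fun g hg => hg.2)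
    (fun g hg => hg.1.1.1.2) a45 (hw.ne_at 3 (by omega))
  have c5 : Nat.card T4 ≤ 2 * Nat.card T5 := D.card_stab (H := T4) (D.symm a45) (fun g hg => hg.2)
    (fun g hg => hg.1.2) a56 (hw.ne_at 4 (by omega))
  have hle : T5 ≤ Fix G adj 3 (f 3) := by
    intro g hg
    obtain ⟨⟨⟨⟨⟨⟨g2, g3⟩, g1⟩, g0⟩, g4⟩, g5⟩, g6⟩ := hg
    exact P.mem_Fix_three h3 (D.symm a23) a34 (hw.ne_at 2 (by omega))
      (P.fix_two_of_path h2 a23 (D.symm a12) (hw.ne_at 1 (by omega)).symm a34 (hw.ne_at 2 (by omega)).symm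
        (D.symm a01) (hw.ne_at 0 (by omega)) g2 g3 g4 g1 g0)
      (P.fix_two_of_path h4 (D.symm a34) a45 (hw.ne_at 3 (by omega)) (D.symm a23) (hw.ne_at 2 (by omega))
        a56 (hw.ne_at 4 (by omega)).symm g4 g3 g2 g5 g6)
  haveI := D.finite_le (H := Fix G adj 3 (f 3)) (v := f 3) fun g hg => mem_Fix.1 hg _ (Within.refl 3 _)
  have e1 := Subgroup.card_le_of_le hle
  have e2 := P.card_Fix_three h3
  omega

end Odd3

end CfsgLib.LocalEven.GoldBound
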