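import Cfsg.Agent.Lib.LocalEven.GoldBound.Even
import Cfsg.Agent.Lib.LocalEven.GoldBound.Odd1
import Cfsg.Agent.Lib.LocalEven.GoldBound.ThreeBound
import Cfsg.Agent.Lib.LocalEven.GoldBound.FiveEnd

/-!
The bound on the edge group of a cubic amalgam.
-/

set_option autoImplicit false
set_option linter.unusedSectionVars false
set_option linter.style.haveILetI false
set_option linter.unusedVariables false

namespace CfsgLib.LocalEven.GoldBound

variable {G : Type*} [Group G] {V : Type*} [MulAction G V]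
variable {adj : V → V → Prop} {isB : V → Prop}

theorem card_Ed_smul (g : G) (u v : V) : Nat.card ↥(Ed G (g • u) (g • v)) = Nat.card ↥(Ed G u v) := by
  have hinj : Function.Injective (MulAut.conj g).toMonoidHom := (MulAut.conj g).injective
  rw [Ed, MulAction.stabilizer_smul_eq_stabilizer_map_conj,
    MulAction.stabilizer_smul_eq_stabilizer_map_conj, ← Subgroup.map_inf _ _ _ hinj,
    Subgroup.card_map_of_injective hinj]
  rfl

theorem Tri.card_Ed_eq (D : Tri G adj isB) {u v u' v' : V} (h : adj u v) (h' : adj u' v') :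
    Nat.card ↥(Ed G u v) = Nat.card ↥(Ed G u' v') := by
  have key : ∀ {u v u' v' : V}, isB u → isB u' → adj u v → adj u' v' →
      Nat.card ↥(Ed G u v) = Nat.card ↥(Ed G u' v') := by
    intro u v u' v' hu hu' h h'
    obtain ⟨g, g1, g2⟩ := D.edge_trans hu hu' h h'
    rw [← g1, ← g2, card_Ed_smul]
  by_cases hu : isB u <;> by_cases hu' : isB u'
  · exact key hu hu' h h'
  · rw [key hu (D.isB_of_adj hu' h') h (D.symm h'), Ed_comm]
  · rw [← key (D.isB_of_adj hu h) hu' (D.symm h) h', Ed_comm]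
  · rw [Ed_comm u v, key (D.isB_of_adj hu h) (D.isB_of_adj hu' h') (D.symm h) (D.symm h'), Ed_comm]

theorem Hy.bound (H : Hy G adj isB) [Nonempty V] :
    ∃ u v, adj u v ∧ Nat.card ↥(Ed G u v) ≤ 2 ^ 7 := by
  obtain ⟨b, P⟩ := H.exists_dist
  have := P.one_le
  rcases Nat.mod_two_eq_zero_or_one b with he | ho
  · obtain ⟨z, O⟩ := exists_one_even P he
    by_cases h4 : 4 ≤ b
    · exact (O.not_even_big he h4).elim
    · obtain rfl : b = 2 := by omega
      exact O.bound_two
  · rcases (show b = 1 ∨ b = 3 ∨ 5 ≤ b by omega) with rfl | rfl | h5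
    · obtain ⟨z, O⟩ := exists_one_one P
      exact O.bound_one
    · obtain ⟨z, P3⟩ := exists_odd_three P
      exact P3.bound_three
    · obtain ⟨z, P5⟩ := exists_odd_five P ho h5
      exact (P5.false_of_five_le h5).elim

/-- The bound when a vertex stabilizer is not of characteristic two. -/
theorem Tri.bound_of_not_sc (D : Tri G adj isB) {v : V} {g : G} (hgv : g • v = v)
    (hc : ∀ q ∈ Qk G adj v, g * q = q * g) (hg : g ∉ Qk G adj v) :
    ∃ u w, adj u w ∧ Nat.card ↥(Ed G u w) ≤ 2 ^ 7 := by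
  obtain ⟨β, hβ, hgβ⟩ : ∃ β, adj v β ∧ g • β ≠ β := by
    by_contra hcon
    push Not at hcon
    exact hg (mem_Qk.2 ⟨hgv, hcon⟩)
  obtain ⟨b, _, hb, -, hβb, -, -⟩ := D.exists_others hβ
  obtain ⟨x, y, hx, hy, hvx, hvy, hxy⟩ := D.exists_others (D.symm hβ)
  obtain ⟨x', _, hx', -, hx'β, -, -⟩ := D.exists_others (D.symm hx)
  obtain ⟨y', _, hy', -, hy'β, -, -⟩ := D.exists_others (D.symm hy)
  refine ⟨v, β, hβ, ?_⟩
  set T0 := Ed G v β
  set T1 := T0 ⊓ MulAction.stabilizer G b
  set T2 := T1 ⊓ MulAction.stabilizer G x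
  set T3 := T2 ⊓ MulAction.stabilizer G x'
  set T4 := T3 ⊓ MulAction.stabilizer G y'
  have c1 : Nat.card T0 ≤ 2 * Nat.card T1 := D.card_stab (H := T0) hβ (fun g hg => hg.1)
    (fun g hg => hg.2) hb hβb
  have c2 : Nat.card T1 ≤ 2 * Nat.card T2 := D.card_stab (H := T1) (D.symm hβ) (fun g hg => hg.1.2)
    (fun g hg => hg.1.1) hx hvx
  have c3 : Nat.card T2 ≤ 2 * Nat.card T3 := D.card_stab (H := T2) (D.symm hx) (fun g hg => hg.2)
    (fun g hg => hg.1.1.2) hx' hx'β
  have c4 : Nat.card T3 ≤ 2 * Nat.card T4 := D.card_stab (H := T3) (D.symm hy)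
    (fun g hg => D.fix_third hg.1.1.1.2 hg.1.1.1.1 hg.1.2 (D.symm hβ) hx hvx hy)
    (fun g hg => hg.1.1.1.2) hy' hy'β
  set M := Fix G adj 2 β with hM
  have hle : T4 ≤ M := by
    intro t ht
    obtain ⟨⟨⟨⟨⟨tv, tβ⟩, tb⟩, tx⟩, tx'⟩, ty'⟩ := ht
    refine mem_Fix.2 fun w hw => ?_
    have ty : t • y = y := D.fix_third tβ tv tx (D.symm hβ) hx hvx hy
    rcases hw with rfl | ⟨n, hn, rfl | ⟨_, hw, rfl⟩⟩
    · exact tβ
    · exact D.fix_third tβ tv tx (D.symm hβ) hx hvx hn
    rcases D.cover (D.symm hβ) hx hy hn hvx hvy hxy with rfl | rfl | rfl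
    · exact D.fix_third tv tβ tb hβ hb hβb hw
    · exact D.fix_third tx tβ tx' (D.symm hx) hx' hx'β hw
    · exact D.fix_third ty tβ ty' (D.symm hy) hy' hy'β hw
  have hMv : ∀ q ∈ M, q ∈ Qk G adj v := fun q hq => mem_Qk.2
    ⟨mem_Fix.1 hq _ ((Within.single (D.symm hβ)).mono (by omega)),
      fun w hw => mem_Fix.1 hq w (Within.head (D.symm hβ) (Within.single hw))⟩
  have hfix : ∀ q ∈ M, q • v = v ∧ q • β = β := fun q hq =>
    ⟨(mem_Qk.1 (hMv q hq)).1, (mem_Qk.1 (hMv q hq)).2 β hβ⟩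
  have hbot : M = ⊥ := by
    refine D.eq_bot hβ hfix (fun k hk q hq => ?_) fun k hk q hq => ?_
    · let N : Subgroup G :=
        { carrier := {a | ∀ q ∈ M, a * q * a⁻¹ ∈ M ∧ a⁻¹ * q * a ∈ M}
          one_mem' := fun q hq => by simp [hq]
          mul_mem' := fun {a c} ha hc q hq => ⟨by
              have := (ha _ (hc q hq).1).1; simpa [mul_assoc] using this, by
              have := (hc _ (ha q hq).2).2; simpa [mul_assoc] using this⟩
          inv_mem' := fun {a} ha q hq => ⟨by simpa using (ha q hq).2, by simpa using (ha q hq).1⟩ }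
      refine ((D.stab_le hβ (H := N) (fun t _ htβ q hq => ⟨?_, ?_⟩) (g := g) (fun q hq => ⟨?_, ?_⟩)
        hgv hgβ hk) q hq).1
      · simpa only [htβ] using D.conj_mem_Fix (g := t) hq
      · simpa only [inv_fix htβ, inv_inv] using D.conj_mem_Fix (g := t⁻¹) hq
      · rw [hc q (hMv q hq), mul_inv_cancel_right]; exact hq
      · rw [mul_assoc, ← hc q (hMv q hq), inv_mul_cancel_left]; exact hq
    · simpa only [hk] using D.conj_mem_Fix (g := k) hq
  haveI := D.finite_le (H := M) (v := β) fun q hq => (hfix q hq).2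
  have e1 := Subgroup.card_le_of_le hle
  have e2 : Nat.card M = 1 := by rw [hbot]; exact Subgroup.card_bot
  omega

end CfsgLib.LocalEven.GoldBound
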