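import Cfsg.Agent.Lib.LocalEven.GoldBound.Graph

/-!
Cubic bipartite amalgam of central type: central involutions and the groups they generate.
-/

set_option autoImplicit false
set_option linter.unusedSectionVars false
set_option linter.style.haveILetI false
set_option linter.unusedVariables false

namespace CfsgLib.LocalEven.GoldBound

variable {G : Type*} [Group G] {V : Type*} [MulAction G V]

/-- The central elements of order at most two of a vertex stabilizer. -/
def Ec (G : Type*) [Group G] {V : Type*} [MulAction G V] (v : V) : Subgroup G where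
  carrier := {e | e • v = v ∧ e * e = 1 ∧ ∀ g : G, g • v = v → g * e = e * g}
  one_mem' := ⟨one_smul G v, one_mul 1, fun g _ => by simp⟩
  mul_mem' := by
    intro e f ⟨h1, h2, h3⟩ ⟨k1, k2, k3⟩
    refine ⟨by rw [mul_smul, k1, h1], ?_, fun g hg => ?_⟩
    · calc e * f * (e * f) = e * (f * e) * f := by group
        _ = (e * e) * (f * f) := by rw [h3 f k1]; group
        _ = 1 := by rw [h2, k2, one_mul]
    · rw [← mul_assoc, h3 g hg, mul_assoc, k3 g hg, mul_assoc]
  inv_mem' := by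
    intro e ⟨h1, h2, h3⟩
    rw [inv_eq_of_mul_eq_one_right h2]
    exact ⟨h1, h2, h3⟩

theorem mem_Ec {e : G} {v : V} :
    e ∈ Ec G v ↔ e • v = v ∧ e * e = 1 ∧ ∀ g : G, g • v = v → g * e = e * g := Iff.rfl

/-- The subgroup generated by the central involutions of the `B`-vertices within `n`. -/
def EBall (G : Type*) [Group G] {V : Type*} [MulAction G V] (adj : V → V → Prop) (isB : V → Prop)
    (n : ℕ) (v : V) : Subgroup G :=
  ⨆ u, ⨆ (_ : isB u ∧ Within adj n v u), Ec G u

/-- A cubic amalgam of characteristic two in which the `B`-type has central `Ω₁(Z(T))`. -/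
structure Hy (G : Type*) [Group G] {V : Type*} [MulAction G V] (adj : V → V → Prop)
    (isB : V → Prop) : Prop where
  tri : Tri G adj isB
  sc : ∀ (v : V) (g : G), g • v = v → (∀ q ∈ Qk G adj v, g * q = q * g) → g ∈ Qk G adj v
  central : ∀ {b a : V}, isB b → adj b a → ∀ e : G, e • b = b → e • a = a → e * e = 1 →
    (∀ t : G, t • b = b → t • a = a → t * e = e * t) → e ∈ Ec G b

variable {adj : V → V → Prop} {isB : V → Prop}

theorem eq_inv_of_sq {e : G} (h : e * e = 1) : e⁻¹ = e := inv_eq_of_mul_eq_one_right h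

theorem mem_EBall {n : ℕ} {v u : V} {e : G} (hu : isB u) (hw : Within adj n v u) (he : e ∈ Ec G u) :
    e ∈ EBall G adj isB n v :=
  Subgroup.mem_iSup_of_mem u (Subgroup.mem_iSup_of_mem ⟨hu, hw⟩ he)

theorem EBall_le {n : ℕ} {v : V} {H : Subgroup G}
    (h : ∀ u, isB u → Within adj n v u → Ec G u ≤ H) : EBall G adj isB n v ≤ H :=
  iSup_le fun u => iSup_le fun hu => h u hu.1 hu.2

/-- Elementwise commuting generators give commuting products. -/
theorem commute_EBall {n : ℕ} {v : V} {x : G}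
    (h : ∀ u, isB u → Within adj n v u → ∀ e ∈ Ec G u, x * e = e * x) {y : G}
    (hy : y ∈ EBall G adj isB n v) : x * y = y * x := by
  have := EBall_le (H := Subgroup.centralizer ({x} : Set G)) (fun u hu hw e he =>
    Subgroup.mem_centralizer_iff.2 (by rintro _ rfl; exact h u hu hw e he)) hy
  exact Subgroup.mem_centralizer_iff.1 this x rfl

theorem conj_mem_Ec (g : G) {e : G} {v : V} (he : e ∈ Ec G v) : g * e * g⁻¹ ∈ Ec G (g • v) := by
  obtain ⟨h1, h2, h3⟩ := he
  refine ⟨?_, ?_, fun k hk => ?_⟩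
  · rw [conj_smul_smul, h1]
  · calc g * e * g⁻¹ * (g * e * g⁻¹) = g * (e * e) * g⁻¹ := by group
      _ = 1 := by rw [h2]; group
  · have := h3 (g⁻¹ * k * g) (by rw [mul_smul, mul_smul, hk, inv_smul_smul])
    calc k * (g * e * g⁻¹) = g * (g⁻¹ * k * g * e) * g⁻¹ := by group
      _ = g * (e * (g⁻¹ * k * g)) * g⁻¹ := by rw [this]
      _ = g * e * g⁻¹ * k := by group

theorem conj_eq_of_fix {g e : G} {v : V} (hg : g • v = v) (he : e ∈ Ec G v) : g * e * g⁻¹ = e := by
  rw [he.2.2 g hg, mul_inv_cancel_right]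

theorem map_EBall_le (D : Tri G adj isB) (g : G) {n m : ℕ} {v w : V}
    (h : ∀ u, isB u → Within adj n v u → ∀ e ∈ Ec G u, g * e * g⁻¹ ∈ EBall G adj isB m w) {y : G}
    (hy : y ∈ EBall G adj isB n v) : g * y * g⁻¹ ∈ EBall G adj isB m w := by
  have := EBall_le (H := (EBall G adj isB m w).comap (MulAut.conj g).toMonoidHom)
    (fun u hu hw e he => Subgroup.mem_comap.2 (h u hu hw e he)) hy
  exact this

theorem conj_mem_EBall (D : Tri G adj isB) (g : G) {n : ℕ} {v : V} {y : G}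
    (hy : y ∈ EBall G adj isB n v) : g * y * g⁻¹ ∈ EBall G adj isB n (g • v) :=
  map_EBall_le D g (fun u hu hw e he =>
    mem_EBall ((D.isB_smul g u).2 hu) (hw.smul D g) (conj_mem_Ec g he)) hy

variable (H : Hy G adj isB)
include H

namespace Hy

theorem Ec_le_Qk {v : V} {e : G} (he : e ∈ Ec G v) : e ∈ Qk G adj v :=
  H.sc v e he.1 fun q hq => (he.2.2 q (mem_Qk.1 hq).1).symm

theorem fix_adj {v a : V} {e : G} (he : e ∈ Ec G v) (ha : adj v a) : e • a = a :=
  (mem_Qk.1 (H.Ec_le_Qk he)).2 a ha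

theorem commute_Qk {α a : V} (ha : adj α a) {e q : G} (he : e ∈ Ec G a) (hq : q ∈ Qk G adj α) :
    q * e = e * q :=
  he.2.2 q ((mem_Qk.1 hq).2 a ha)

theorem Ec_le_Qk' {α a : V} (ha : adj α a) {e : G} (he : e ∈ Ec G a) : e ∈ Qk G adj α :=
  H.sc α e (H.fix_adj he (H.tri.symm ha)) fun _ hq => (H.commute_Qk ha he hq).symm

theorem eq_one_of_central {α a : V} (ha : adj α a) {e : G} (he : e ∈ Ec G a)
    (hc : ∀ g : G, g • α = α → g * e = e * g) : e = 1 := by
  have hN := H.tri.eq_bot ha (N := Subgroup.zpowers e) (fun n hn => ?_) (fun g hg n hn => ?_)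
    (fun g hg n hn => ?_)
  · exact Subgroup.zpowers_eq_bot.1 hN
  · obtain ⟨j, rfl⟩ := hn
    have : e ^ j ∈ Ed G α a := Subgroup.zpow_mem _ (mem_Ed.2 ⟨H.fix_adj he (H.tri.symm ha), he.1⟩) j
    exact this
  · obtain ⟨j, rfl⟩ := hn
    rw [((show Commute g e from hc g hg).zpow_right j).eq, mul_inv_cancel_right]
    exact Subgroup.zpow_mem_zpowers e j
  · obtain ⟨j, rfl⟩ := hn
    rw [((show Commute g e from he.2.2 g hg).zpow_right j).eq, mul_inv_cancel_right]
    exact Subgroup.zpow_mem_zpowers e j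

/-- An element of a stabilizer commuting with a central involution of a neighbour fixes it. -/
theorem fix_of_commute {α a : V} (ha : adj α a) {e g : G} (he : e ∈ Ec G a) (he1 : e ≠ 1)
    (hg : g • α = α) (hc : g * e = e * g) : g • a = a := by
  by_contra hne
  refine he1 (H.eq_one_of_central ha he fun k hk => ?_)
  have := H.tri.stab_le ha (H := Subgroup.centralizer ({e} : Set G))
    (fun t _ hta => Subgroup.mem_centralizer_iff.2 (by rintro _ rfl; exact (he.2.2 t hta).symm))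
    (Subgroup.mem_centralizer_iff.2 (by rintro _ rfl; exact hc.symm)) hg hne hk
  exact (Subgroup.mem_centralizer_iff.1 this e rfl).symm

theorem inf_Ec {α a b : V} (ha : adj α a) (hb : adj α b) (hab : a ≠ b) {e : G} (h1 : e ∈ Ec G a)
    (h2 : e ∈ Ec G b) : e = 1 := by
  by_contra he
  obtain ⟨g, hgv, hgb, hga⟩ := H.tri.exists_move hb ha hab.symm
  exact hga (H.fix_of_commute ha h1 he hgv (h2.2.2 g hgb))

theorem prod_one {α a b c : V} (hα : ¬ isB α) (ha : adj α a) (hb : adj α b) (hc : adj α c)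
    (hab : a ≠ b) (hac : a ≠ c) (hbc : b ≠ c) {e g k : G} (he : e ∈ Ec G a) (hgv : g • α = α)
    (hga : g • a = b) (hkv : k • α = α) (hka : k • a = c) :
    e * (g * e * g⁻¹) * (k * e * k⁻¹) = 1 := by
  set y := g * e * g⁻¹
  set z := k * e * k⁻¹
  have hy : y ∈ Ec G b := hga ▸ conj_mem_Ec g he
  have hz : z ∈ Ec G c := hka ▸ conj_mem_Ec k he
  have hcom : ∀ {u w : V} {p q : G}, adj α u → adj α w → p ∈ Ec G u → q ∈ Ec G w → p * q = q * p :=
    fun {u w p q} hu hw hp hq => H.commute_Qk hw hq (H.Ec_le_Qk' hu hp)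
  have cey := hcom ha hb he hy
  have cez := hcom ha hc he hz
  have cyz := hcom hb hc hy hz
  -- the images of `e` under the stabilizer depend only on the image of `a`
  have tr : ∀ {x y : G}, x • α = α → y • α = α → x • a = y • a → x * e * x⁻¹ = y * e * y⁻¹ := by
    intro x y _ _ hxy
    have := conj_eq_of_fix (g := y⁻¹ * x) (by rw [mul_smul, hxy, inv_smul_smul]) he
    calc x * e * x⁻¹ = y * (y⁻¹ * x * e * (y⁻¹ * x)⁻¹) * y⁻¹ := by group
      _ = y * e * y⁻¹ := by rw [this]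
  have conjmul : ∀ t p q r : G,
      t * (p * q * r) * t⁻¹ = (t * p * t⁻¹) * (t * q * t⁻¹) * (t * r * t⁻¹) :=
    fun t p q r => by group
  set P := e * y * z with hP
  have fixa : ∀ t : G, t • α = α → t • a = a → t * P = P * t := by
    intro t htv hta
    rw [← mul_inv_eq_iff_eq_mul, hP, conjmul, conj_eq_of_fix hta he]
    by_cases htb : t • b = b
    · rw [conj_eq_of_fix htb hy, conj_eq_of_fix (H.tri.fix_third htv hta htb ha hb hab hc) hz]
    obtain ⟨e1, e2⟩ := H.tri.eq_third htv hta ha hb hc hab hac hbc htb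
    have h1 : t * y * t⁻¹ = z := by
      calc t * y * t⁻¹ = t * g * e * (t * g)⁻¹ := by simp only [y]; group
        _ = z := tr (by rw [mul_smul, hgv, htv]) hkv (by rw [mul_smul, hga, e1, hka])
    have h2 : t * z * t⁻¹ = y := by
      calc t * z * t⁻¹ = t * k * e * (t * k)⁻¹ := by simp only [z]; group
        _ = y := tr (by rw [mul_smul, hkv, htv]) hgv (by rw [mul_smul, hka, e2, hga])
    rw [h1, h2, mul_assoc e z y, ← cyz, ← mul_assoc]
  obtain ⟨t, htv, htb, hta⟩ := H.tri.exists_move hb ha hab.symm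
  obtain ⟨e1, e2⟩ := H.tri.eq_third htv htb hb ha hc hab.symm hbc hac hta
  have ht : t * P = P * t := by
    rw [← mul_inv_eq_iff_eq_mul, hP, conjmul, conj_eq_of_fix htb hy]
    have h1 : t * e * t⁻¹ = z := tr htv hkv (by rw [e1, hka])
    have h2 : t * z * t⁻¹ = e := by
      calc t * z * t⁻¹ = t * k * e * (t * k)⁻¹ := by simp only [z]; group
        _ = 1 * e * 1⁻¹ := tr (by rw [mul_smul, hkv, htv]) (one_smul G α)
            (by rw [mul_smul, hka, e2, one_smul])
        _ = e := by group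
    rw [h1, h2, ← cyz, mul_assoc y z e, ← cez, ← mul_assoc y e z, ← cey]
  have hall : ∀ s : G, s • α = α → s * P = P * s := by
    intro s hs
    have := H.tri.stab_le ha (H := Subgroup.centralizer ({P} : Set G))
      (fun t htv hta => Subgroup.mem_centralizer_iff.2 (by rintro _ rfl; exact (fixa t htv hta).symm))
      (Subgroup.mem_centralizer_iff.2 (by rintro _ rfl; exact ht.symm)) htv hta hs
    exact (Subgroup.mem_centralizer_iff.1 this P rfl).symm
  have hPQ : P ∈ Qk G adj α := by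
    refine Subgroup.mul_mem _ (Subgroup.mul_mem _ ?_ ?_) ?_
    exacts [H.Ec_le_Qk' ha he, H.Ec_le_Qk' hb hy, H.Ec_le_Qk' hc hz]
  obtain ⟨hPα, hPn⟩ := mem_Qk.1 hPQ
  have hPP : P * P = 1 := by
    have c1 : Commute (e * y) z := (show Commute e z from cez).mul_left cyz
    have c2 : Commute e y := cey
    calc P * P = (e * y) * (z * (e * y)) * z := by rw [hP]; group
      _ = (e * e) * (y * y) * (z * z) := by rw [← c1.eq]; simp only [← mul_assoc]; rw [mul_assoc e y e, ← c2.eq]; group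
      _ = 1 := by rw [he.2.1, hy.2.1, hz.2.1]; group
  exact H.eq_one_of_central ha (H.central (H.tri.isB_of_adj hα ha) (H.tri.symm ha) P (hPn a ha) hPα
    hPP fun s _ hsv => hall s hsv) hall

/-- A product of an element with its transport to the third neighbour lies at the first one. -/
theorem mul_conj_mem {α a b c : V} (hα : ¬ isB α) (ha : adj α a) (hb : adj α b) (hc : adj α c)
    (hab : a ≠ b) (hac : a ≠ c) (hbc : b ≠ c) {y g : G} (hy : y ∈ Ec G b) (hgv : g • α = α)
    (hgb : g • b = c) : y * (g * y * g⁻¹) ∈ Ec G a := by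
  obtain ⟨h, hhv, hhb⟩ := H.tri.trans hb ha
  have he : h * y * h⁻¹ ∈ Ec G a := hhb ▸ conj_mem_Ec h hy
  have := H.prod_one hα ha hb hc hab hac hbc he (g := h⁻¹) (k := g * h⁻¹) (inv_fix hhv)
    (by rw [← hhb, inv_smul_smul]) (by rw [mul_smul, inv_fix hhv, hgv])
    (by rw [mul_smul, ← hhb, inv_smul_smul, hgb])
  rw [show h⁻¹ * (h * y * h⁻¹) * h⁻¹⁻¹ = y by group,
    show g * h⁻¹ * (h * y * h⁻¹) * (g * h⁻¹)⁻¹ = g * y * g⁻¹ by group,
    mul_assoc, mul_eq_one_iff_inv_eq] at this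
  rw [← this]
  exact Subgroup.inv_mem _ he

theorem exists_pre {α a b c : V} (hα : ¬ isB α) (ha : adj α a) (hb : adj α b) (hc : adj α c)
    (hab : a ≠ b) (hac : a ≠ c) (hbc : b ≠ c) {z : G} (hz : z ∈ Ec G a) :
    ∃ y ∈ Ec G b, ∀ g : G, g • α = α → g • b = c → y * (g * y * g⁻¹) = z := by
  obtain ⟨k, hkv, hka⟩ := H.tri.trans ha hb
  refine ⟨k * z * k⁻¹, hka ▸ conj_mem_Ec k hz, fun g hgv hgb => ?_⟩
  have := H.prod_one hα ha hb hc hab hac hbc hz hkv hka (k := g * k) (by rw [mul_smul, hkv, hgv])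
    (by rw [mul_smul, hka, hgb])
  rw [show g * k * z * (g * k)⁻¹ = g * (k * z * k⁻¹) * g⁻¹ by group, mul_assoc,
    mul_eq_one_iff_inv_eq, eq_inv_of_sq hz.2.1] at this
  exact this.symm

theorem mem_EBall_one {α a : V} (hα : ¬ isB α) (ha : adj α a) {e : G} (he : e ∈ Ec G a) :
    e ∈ EBall G adj isB 1 α :=
  mem_EBall (H.tri.isB_of_adj hα ha) (Within.single ha) he

theorem adj_of_within_one {α u : V} (hα : ¬ isB α) (hu : isB u) (h : Within adj 1 α u) :
    adj α u := by
  rcases h with rfl | ⟨x, hx, rfl⟩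
  · exact absurd hu hα
  · exact hx

theorem exists_decomp {α a b : V} (hα : ¬ isB α) (ha : adj α a) (hb : adj α b) (hab : a ≠ b) {z : G}
    (hz : z ∈ EBall G adj isB 1 α) : ∃ x ∈ Ec G a, ∃ y ∈ Ec G b, z = x * y := by
  have hn : Ec G b ≤ Subgroup.normalizer (Ec G a : Set G) := fun y hy => by
    refine Subgroup.centralizer_le_normalizer _ (Subgroup.mem_centralizer_iff.2 fun x hx => ?_)
    exact H.commute_Qk hb hy (H.Ec_le_Qk' ha hx)
  have hle : EBall G adj isB 1 α ≤ Ec G a ⊔ Ec G b := by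
    refine EBall_le fun u hu hw z hz => ?_
    have hu' := H.adj_of_within_one hα hu hw
    by_cases e1 : u = a
    · exact Subgroup.mem_sup_left (e1 ▸ hz)
    by_cases e2 : u = b
    · exact Subgroup.mem_sup_right (e2 ▸ hz)
    obtain ⟨g, hgv, hga, hgb⟩ := H.tri.swap ha hb hu' hab (Ne.symm e1) (Ne.symm e2)
    have hy : g⁻¹ * z * g ∈ Ec G b := by
      have := conj_mem_Ec g⁻¹ hz
      rwa [inv_inv, ← hgb, inv_smul_smul] at this
    have h := H.mul_conj_mem hα ha hb hu' hab (Ne.symm e1) (Ne.symm e2) hy hgv hgb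
    rw [show g * (g⁻¹ * z * g) * g⁻¹ = z by group] at h
    have := Subgroup.mul_mem_sup h hy
    have hz' : z = g⁻¹ * z * g * z * (g⁻¹ * z * g) := by
      rw [← (H.commute_Qk hu' hz (H.Ec_le_Qk' hb hy)).symm, mul_assoc, hy.2.1, mul_one]
    rw [hz']
    exact this
  have := hle hz
  rw [← SetLike.mem_coe, Subgroup.coe_mul_of_right_le_normalizer_left _ _ hn] at this
  obtain ⟨x, hx, y, hy, e⟩ := this
  exact ⟨x, hx, y, hy, e.symm⟩

theorem commute_EBall_one {α : V} (hα : ¬ isB α) {q z : G} (hq : q ∈ Qk G adj α)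
    (hz : z ∈ EBall G adj isB 1 α) : q * z = z * q :=
  commute_EBall (fun u hu hw e he => H.commute_Qk (H.adj_of_within_one hα hu hw) he hq) hz

theorem EBall_one_le_Qk {α : V} (hα : ¬ isB α) {z : G} (hz : z ∈ EBall G adj isB 1 α) :
    z ∈ Qk G adj α :=
  EBall_le (fun u hu hw e he => H.Ec_le_Qk' (H.adj_of_within_one hα hu hw) he) hz

theorem EBall_one_comm {α : V} (hα : ¬ isB α) {y z : G} (hy : y ∈ EBall G adj isB 1 α)
    (hz : z ∈ EBall G adj isB 1 α) : y * z = z * y :=
  H.commute_EBall_one hα (H.EBall_one_le_Qk hα hy) hz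

theorem EBall_one_sq {α : V} (hα : ¬ isB α) {z : G} (hz : z ∈ EBall G adj isB 1 α) : z * z = 1 := by
  obtain ⟨a, b, _, hab, -, -, ha, hb, -, -⟩ := H.tri.three α
  obtain ⟨x, hx, y, hy, rfl⟩ := H.exists_decomp hα ha hb hab hz
  calc x * y * (x * y) = x * (y * x) * y := by group
    _ = x * (x * y) * y := by rw [H.commute_Qk ha hx (H.Ec_le_Qk' hb hy)]
    _ = (x * x) * (y * y) := by group
    _ = 1 := by rw [hx.2.1, hy.2.1, one_mul]

/-- The fixed points in `Z` of an element moving a neighbour. -/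
theorem mem_of_fixed {α a b : V} (hα : ¬ isB α) (ha : adj α a) (hb : adj α b) {g z : G}
    (hgv : g • α = α) (hga : g • a = a) (hgb : g • b ≠ b) (hz : z ∈ EBall G adj isB 1 α)
    (hc : g * z = z * g) : z ∈ Ec G a := by
  have hab : a ≠ b := fun e => hgb (e ▸ hga)
  obtain ⟨x, hx, y, hy, rfl⟩ := H.exists_decomp hα ha hb hab hz
  have hxg := hx.2.2 g hga
  have hyg : g * y = y * g := by
    calc g * y = x⁻¹ * (x * g) * y := by group
      _ = x⁻¹ * (g * (x * y)) := by rw [← hxg]; group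
      _ = x⁻¹ * (x * y * g) := by rw [hc]
      _ = y * g := by group
  have : y = 1 := by
    by_contra hy1
    exact hgb (H.fix_of_commute hb hy hy1 hgv hyg)
  rwa [this, mul_one]

theorem exists_involution {u v : V} (h : adj u v) {X : Subgroup G}
    (hX : ∀ x ∈ X, x • u = u ∧ x • v = v)
    (hn : ∀ t : G, t • u = u → t • v = v → ∀ x ∈ X, t * x * t⁻¹ ∈ X) (hne : X ≠ ⊥) :
    ∃ x ∈ X, x ≠ 1 ∧ x * x = 1 ∧ ∀ t : G, t • u = u → t • v = v → t * x = x * t := by
  haveI : Fact (Nat.Prime 2) := ⟨Nat.prime_two⟩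
  haveI := H.tri.finite_le (H := Ed G u v) (v := u) inf_le_left
  have hle : X ≤ Ed G u v := fun x hx => hX x hx
  haveI : (X.subgroupOf (Ed G u v)).Normal :=
    ⟨fun x hx t => hn t.1 t.2.1 t.2.2 x.1 hx⟩
  have hne' : X.subgroupOf (Ed G u v) ≠ ⊥ := fun e => hne (by
    rw [← Subgroup.map_subgroupOf_eq_of_le hle, e, Subgroup.map_bot])
  have hp := H.tri.pgroup h
  obtain ⟨⟨x, hx⟩, hx1⟩ := Subgroup.ne_bot_iff_exists_ne_one.1
    (CfsgLib.PGroups.inf_center_ne_bot hp hne')
  obtain ⟨k, hk⟩ := IsPGroup.iff_orderOf.1 hp x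
  have hx1' : x ≠ 1 := fun e => hx1 (Subtype.ext e)
  obtain ⟨k, rfl⟩ : ∃ j, k = j + 1 := by
    refine ⟨k - 1, ?_⟩
    rcases k with _ | k
    · exact absurd (orderOf_eq_one_iff.1 hk) hx1'
    · rfl
  set w := x ^ 2 ^ k
  have hw2 : w * w = 1 := by
    rw [← pow_add, ← two_mul, ← pow_succ', ← hk, pow_orderOf_eq_one]
  have hw1 : w ≠ 1 := pow_ne_one_of_lt_orderOf (by positivity)
    (by rw [hk]; exact Nat.pow_lt_pow_right (by norm_num) (by omega))
  refine ⟨(w : G), (Subgroup.pow_mem _ hx.1 _ : w ∈ X.subgroupOf _), fun e => hw1 (Subtype.ext e),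
    by rw [← Subgroup.coe_mul, hw2]; rfl, fun t htu htv => ?_⟩
  exact congrArg Subtype.val
    (Subgroup.mem_center_iff.1 (Subgroup.pow_mem _ hx.2 _) ⟨t, htu, htv⟩)

theorem exists_ne_one {v : V} (hv : isB v) : ∃ e ∈ Ec G v, e ≠ 1 := by
  obtain ⟨a, b, _, hab, -, -, ha, hb, -, -⟩ := H.tri.three v
  obtain ⟨g, hgv, hga, hgb⟩ := H.tri.exists_move ha hb hab
  obtain ⟨e, he, he1, he2, hec⟩ := H.exists_involution ha (X := Ed G v a) (fun x hx => hx)
    (fun t htv hta x hx => Subgroup.mul_mem _ (Subgroup.mul_mem _ ⟨htv, hta⟩ hx)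
      (Subgroup.inv_mem _ ⟨htv, hta⟩))
    (fun e => hgb (by
      have : g ∈ Ed G v a := ⟨hgv, hga⟩
      rw [e, Subgroup.mem_bot] at this
      rw [this, one_smul]))
  exact ⟨e, H.central hv ha e he.1 he.2 he2 hec, he1⟩

/-- An element commuting with `Z` lies in the kernel. -/
theorem mem_Qk_of_commute {α : V} (hα : ¬ isB α) {g : G} (hg : g • α = α)
    (hc : ∀ z ∈ EBall G adj isB 1 α, g * z = z * g) : g ∈ Qk G adj α := by
  refine mem_Qk.2 ⟨hg, fun a ha => ?_⟩
  obtain ⟨e, he, he1⟩ := H.exists_ne_one (H.tri.isB_of_adj hα ha)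
  exact H.fix_of_commute ha he he1 hg (hc e (H.mem_EBall_one hα ha he))

theorem exists_Qk_move {u v c : V} (huv : adj u v) (hc : adj v c) (hne : c ≠ u) :
    ∃ q ∈ Qk G adj u, q • c ≠ c := by
  by_contra hcon
  push Not at hcon
  have hle : Qk G adj u ≤ Qk G adj v := fun q hq => H.tri.mem_Qk_of_two
    ((mem_Qk.1 hq).2 v huv) (mem_Qk.1 hq).1 (hcon q hq) (H.tri.symm huv) hc hne.symm
  obtain ⟨t, htv, htu, htc⟩ := H.tri.exists_move (H.tri.symm huv) hc hne.symm
  have htQu : t ∉ Qk G adj u := fun h => htc (hcon t h)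
  have hge : Qk G adj v ≤ Qk G adj u := by
    intro g hg
    by_contra hgu
    obtain ⟨hgv, hgn⟩ := mem_Qk.1 hg
    have hgu' := hgn u (H.tri.symm huv)
    obtain ⟨x, _, hx, -, hvx, -, -⟩ := H.tri.exists_others huv
    have hgx : g • x ≠ x := fun e => hgu (H.tri.mem_Qk_of_two hgu' hgv e huv hx hvx)
    have htx : t • x ≠ x := fun e => htQu (H.tri.mem_Qk_of_two htu htv e huv hx hvx)
    have e := H.tri.same_image htu hgu' htv hgv huv hx hvx htx hgx
    have hmem : g⁻¹ * t ∈ Qk G adj u := H.tri.mem_Qk_of_two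
      (by rw [mul_smul, htu, inv_fix hgu']) (by rw [mul_smul, htv, inv_fix hgv])
      (by rw [mul_smul, e, inv_smul_smul]) huv hx hvx
    have h2 := Subgroup.mul_mem _ hg (hle hmem)
    rw [mul_inv_cancel_left] at h2
    exact htc ((mem_Qk.1 h2).2 c hc)
  have heq := le_antisymm hle hge
  have hbot := H.tri.eq_bot huv (N := Qk G adj u)
    (fun n hn => ⟨(mem_Qk.1 hn).1, (mem_Qk.1 hn).2 v huv⟩) (fun g hg n hn => H.tri.conj_mem_Qk hg hn)
    fun g hg n hn => heq ▸ H.tri.conj_mem_Qk hg (heq ▸ hn)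
  have := H.sc u t htu (fun q hq => by rw [hbot, Subgroup.mem_bot] at hq; simp [hq])
  exact htQu this

/-- A normal subgroup of an edge group centralized by an element moving the edge is trivial. -/
theorem eq_bot_of_centralized {α β : V} (hα : ¬ isB α) (h : adj α β) {X : Subgroup G}
    (hX : ∀ x ∈ X, x • α = α ∧ x • β = β)
    (hn : ∀ t : G, t • α = α → t • β = β → ∀ x ∈ X, t * x * t⁻¹ ∈ X) {g : G} (hgv : g • α = α)
    (hgb : g • β ≠ β) (hc : ∀ x ∈ X, g * x = x * g) : X = ⊥ := by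
  by_contra hne
  obtain ⟨x, hx, hx1, hx2, hxc⟩ := H.exists_involution h hX hn hne
  exact hgb (H.fix_of_commute h (H.central (H.tri.isB_of_adj hα h) (H.tri.symm h) x (hX x hx).2
    (hX x hx).1 hx2 fun t h1 h2 => hxc t h2 h1) hx1 hgv (hc x hx))

/-- An element in `Z` of two neighbours of a `B`-vertex lies in `Z` of the third. -/
theorem mem_Z_third {β α α' α'' : V} (hβ : isB β) (ha : adj β α) (ha' : adj β α')
    (ha'' : adj β α'') (h1 : α ≠ α') (h2 : α ≠ α'') (h3 : α' ≠ α'') {y : G}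
    (hy : y ∈ EBall G adj isB 1 α) (hy' : y ∈ EBall G adj isB 1 α') :
    y ∈ EBall G adj isB 1 α'' := by
  obtain ⟨t, ht, htm⟩ := H.exists_Qk_move (H.tri.symm ha') ha h1
  obtain ⟨htv, htn⟩ := mem_Qk.1 ht
  have hβ' := htn β (H.tri.symm ha')
  have e := (H.tri.eq_third hβ' htv ha' ha ha'' h1.symm h3 h2 htm).1
  have := conj_mem_EBall H.tri t hy
  rwa [e, H.commute_EBall_one (H.tri.not_isB_of_adj hβ ha') ht hy', mul_inv_cancel_right] at this

/-- The `Z` of distinct neighbours of a `B`-vertex differ. -/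
theorem exists_not_mem {β α α' : V} (hβ : isB β) (ha : adj β α) (ha' : adj β α') (hne : α ≠ α') :
    ∃ z ∈ EBall G adj isB 1 α, z ∉ EBall G adj isB 1 α' := by
  by_contra hcon
  push Not at hcon
  have hsym : ∀ x y, adj β x → adj β y → EBall G adj isB 1 x ≤ EBall G adj isB 1 y := by
    intro x y hx hy z hz
    by_cases exy : x = y
    · exact exy ▸ hz
    obtain ⟨g, hgv, hga, hga'⟩ := H.tri.trans_pair ha ha' hx hy hne exy
    have h1 : g⁻¹ * z * g ∈ EBall G adj isB 1 α := by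
      have := conj_mem_EBall H.tri g⁻¹ hz
      rwa [inv_inv, ← hga, inv_smul_smul] at this
    have := conj_mem_EBall H.tri g (hcon _ h1)
    rwa [hga', show g * (g⁻¹ * z * g) * g⁻¹ = z by group] at this
  have hα := H.tri.not_isB_of_adj hβ ha
  have hbot := H.tri.eq_bot ha (N := EBall G adj isB 1 α)
    (fun n hn => ⟨(mem_Qk.1 (H.EBall_one_le_Qk hα hn)).2 β (H.tri.symm ha),
      (mem_Qk.1 (H.EBall_one_le_Qk hα hn)).1⟩)
    (fun g hg n hn => hsym _ _ (H.tri.smul_adj hg ha) ha (conj_mem_EBall H.tri g hn))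
    fun g hg n hn => by simpa only [hg] using conj_mem_EBall H.tri g hn
  obtain ⟨e, he, he1⟩ := H.exists_ne_one hβ
  have := H.mem_EBall_one hα (H.tri.symm ha) he
  rw [hbot, Subgroup.mem_bot] at this
  exact he1 this

end Hy

end CfsgLib.LocalEven.GoldBound
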