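import Cfsg.Agent.Lib.LocalEven.GoldBound.One

/-!
An even critical distance: it equals two, and the edge group has order at most `2 ^ 7`.
-/

set_option autoImplicit false
set_option linter.unusedSectionVars false
set_option linter.style.haveILetI false
set_option linter.unusedVariables false

namespace CfsgLib.LocalEven.GoldBound

variable {G : Type*} [Group G] {V : Type*} [MulAction G V]
variable {adj : V → V → Prop} {isB : V → Prop}

theorem exists_one_even {b : ℕ} (P : Dist G adj isB b) (he : b % 2 = 0) :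
    ∃ z, One G adj isB b z := by
  have H := P.hy
  have D := H.tri
  obtain ⟨f, h0, hf, e₀, he₀, hmove⟩ := P.exists_crit
  have hα : ¬ isB (f (b + 1)) := hf.not_isB_odd D h0 (by omega) (by omega)
  have h1 : ¬ isB (f 1) := hf.not_isB_odd D h0 (by omega) rfl
  have hfixα : ∀ e ∈ Ec G (f 0), e • f (b + 1) = f (b + 1) := fun e he' =>
    P.fix_wk hf (i := 0) (Nat.zero_le _) (by omega) h0 (by omega) (by omega) he'
  obtain ⟨x, hx, hne⟩ : ∃ x ∈ EBall G adj isB 1 (f (b + 1)), e₀ * x ≠ x * e₀ := by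
    by_contra hcon
    push Not at hcon
    exact hmove ((mem_Qk.1 (H.mem_Qk_of_commute hα (hfixα _ he₀) hcon)).2 _ (hf.adj_at (b + 1) le_rfl))
  have hx1 : x • f 1 = f 1 :=
    P.fixZ_wk hf (i := b + 1) (by omega) (by omega) hα (by omega) (by omega) hx
  have hx0 : x • f 0 ≠ f 0 := fun e => hne (he₀.2.2 x e).symm
  have key : ∀ e ∈ Ec G (f 0), e • f (b + 2) = f (b + 2) → e = 1 := by
    intro e he' hfix
    by_contra he1
    have hQ := D.mem_Qk_of_two (hfixα e he')
      (P.fix_wk hf (i := 0) (j := b) (Nat.zero_le _) (by omega) h0 (by omega) (by omega) he') hfix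
      (D.symm (hf.adj_at b (by omega))) (hf.adj_at (b + 1) le_rfl) (hf.ne_at b le_rfl)
    exact hx0 (H.fix_of_commute (D.symm (hf.adj_at 0 (by omega))) he' he1 hx1
      (H.commute_EBall_one hα hQ hx).symm)
  refine exists_one P h0 (e₀ := e₀) fun e he' => ?_
  by_cases hfix : e • f (b + 2) = f (b + 2)
  · exact Or.inl (key e he' hfix)
  have himg := D.same_image (hfixα e he') (hfixα e₀ he₀)
    (P.fix_wk hf (i := 0) (j := b) (Nat.zero_le _) (by omega) h0 (by omega) (by omega) he')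
    (P.fix_wk hf (i := 0) (j := b) (Nat.zero_le _) (by omega) h0 (by omega) (by omega) he₀)
    (D.symm (hf.adj_at b (by omega))) (hf.adj_at (b + 1) le_rfl) (hf.ne_at b le_rfl) hfix hmove
  have := key (e₀⁻¹ * e) (Subgroup.mul_mem _ (Subgroup.inv_mem _ he₀) he')
    (by rw [mul_smul, himg, inv_smul_smul])
  exact Or.inr (inv_mul_eq_one.1 this).symm

namespace One

variable {b : ℕ} {z : V → G} (O : One G adj isB b z)
include O

theorem even_facts (hev : b % 2 = 0) {f : ℕ → V} (hf : Crit G adj isB b f) :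
    z (f (b + 2)) • f 0 ≠ f 0 ∧ z (f b) = z (f 2) := by
  have P := O.dist
  have H := P.hy
  have D := O.tri
  have := P.one_le
  obtain ⟨h0, hw, -⟩ := id hf
  have hmove := O.crit_move hf
  have hα : ¬ isB (f (b + 1)) := hw.not_isB_odd D h0 (by omega) (by omega)
  have hb : isB (f b) := hw.isB_even D h0 (by omega) hev
  have hb2 : isB (f (b + 2)) := hw.isB_even D h0 le_rfl (by omega)
  have h1 : ¬ isB (f 1) := hw.not_isB_odd D h0 (by omega) rfl
  have hnc : z (f 0) * z (f (b + 2)) ≠ z (f (b + 2)) * z (f 0) := by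
    intro hc
    refine hmove ((mem_Qk.1 (H.mem_Qk_of_commute hα
      (O.fix_wk hw (b + 1) (i := 0) (by omega) (by omega) h0 (by omega) (by omega))
      fun x hx => commute_EBall (fun u hu huw e he => ?_) hx)).2 _ (hw.adj_at (b + 1) le_rfl))
    have hu' := H.adj_of_within_one hα hu huw
    rcases O.eq u hu e he with rfl | rfl
    · simp
    have hcb : z (f 0) * z (f b) = z (f b) * z (f 0) :=
      O.comm h0 hb (hw.within D (k := b) (Nat.zero_le _) (by omega) (by omega) (by omega)) (by omega)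
    by_cases e1 : u = f b
    · rw [e1, hcb]
    by_cases e2 : u = f (b + 2)
    · rw [e2, hc]
    rw [O.third hα (D.symm (hw.adj_at b (by omega))) (hw.adj_at (b + 1) le_rfl) hu' (hw.ne_at b le_rfl)
      (Ne.symm e1) (Ne.symm e2), ← mul_assoc, hcb, mul_assoc, hc, ← mul_assoc]
  have hm0 : z (f (b + 2)) • f 0 ≠ f 0 := fun e => hnc (O.commute h0 e).symm
  refine ⟨hm0, ?_⟩
  have e2 := O.pair h1 (hw.adj_at 1 (by omega)) (D.symm (hw.adj_at 0 (by omega)))
    (O.fix_wk hw 1 (i := b + 2) le_rfl (by omega) hb2 (by omega) (by omega))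
    (O.fix_wk hw 2 (i := b + 2) le_rfl (by omega) hb2 (by omega) (by omega)) hm0
  have eb := O.pair hα (D.symm (hw.adj_at b (by omega))) (hw.adj_at (b + 1) le_rfl)
    (O.fix_wk hw (b + 1) (i := 0) (by omega) (by omega) h0 (by omega) (by omega))
    (O.fix_wk hw b (i := 0) (by omega) (by omega) h0 (by omega) (by omega)) hmove
  rw [O.inv hb2] at e2
  rw [O.inv h0] at eb
  rw [← eb, ← O.inv (hw.isB_even D h0 (i := 2) (by omega) rfl), ← e2]
  simp [mul_inv_rev, O.inv h0, O.inv hb2, mul_assoc]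

theorem no_shift (hev : b % 2 = 0) (h4 : 4 ≤ b) {g f : ℕ → V} (hg : Crit G adj isB b g)
    (hf : Crit G adj isB b f) (h : ∀ i, i + 2 ≤ b → g (i + 2) = f i) : False := by
  have e := (O.even_facts hev hg).2
  have e0 := h 0 (by omega)
  have e1 := h (b - 2) (by omega)
  rw [Nat.sub_add_cancel (by omega)] at e1
  rw [show g 2 = f 0 from e0, e1] at e
  refine O.crit_move hf ?_
  rw [← e]
  obtain ⟨h0, hw, -⟩ := hf
  exact O.fix_wk hw (b + 2) (i := b - 2) (by omega) le_rfl (hw.isB_even O.tri h0 (by omega) (by omega))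
    (by omega) (by omega)

theorem extend_or_flip (hev : b % 2 = 0) (h4 : 4 ≤ b) {f : ℕ → V} (hf : Crit G adj isB b f) :
    (∃ g, Crit G adj isB b g ∧ ∀ i, i + 2 ≤ b → g (i + 2) = f i) ∨
      ∃ g, isB (g 0) ∧ Flip G adj (b + 2) g := by
  by_contra hcon
  push Not at hcon
  obtain ⟨hext, hflip⟩ := hcon
  have P := O.dist
  have D := O.tri
  obtain ⟨hm0, hz2⟩ := O.even_facts hev hf
  obtain ⟨h0, hw, -⟩ := id hf
  have hα : ¬ isB (f (b + 1)) := hw.not_isB_odd D h0 (by omega) (by omega)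
  have hb2 : isB (f (b + 2)) := hw.isB_even D h0 le_rfl (by omega)
  have h2 : isB (f 2) := hw.isB_even D h0 (by omega) rfl
  have h01 : adj (f 0) (f 1) := hw.adj_at 0 (by omega)
  set w := z (f (b + 2)) with hwdef
  have hw1 : w • f 1 = f 1 := O.fix_wk hw 1 (i := b + 2) le_rfl (by omega) hb2 (by omega) (by omega)
  have hgen : ∀ u, isB u → Within adj 2 (f 0) u →
      w * z u * w⁻¹ ∈ EBall G adj isB 2 (f 0) := by
    intro u hu hu2
    have hself : ∀ u, isB u → adj (f 1) u → w * z u * w⁻¹ ∈ EBall G adj isB 2 (f 0) := fun u hu hadj => by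
      rw [O.smul hu w]
      exact O.mem_EBall' ((D.isB_smul w u).2 hu) (Within.head h01 (Within.single (D.smul_adj hw1 hadj)))
    rcases hu2 with rfl | ⟨α, hα', rfl | ⟨x, hau, hxu⟩⟩
    · exact hself _ hu (D.symm h01)
    · exact absurd hu (D.not_isB_of_adj h0 hα')
    obtain ⟨u', hu'⟩ : ∃ u', u' = u := ⟨u, rfl⟩
    rw [show x = u from hxu, ← hu'] at hau
    rw [← hu'] at hu ⊢
    by_cases e1 : α = f 1
    · exact hself _ hu (e1 ▸ hau)
    by_cases e2 : u' = f 0
    · rw [e2] at hu ⊢; exact hself _ hu (D.symm h01)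
    have hW : Wk adj (b + 2) (cons u' (cons α f)) :=
      ((hw.mono (show b ≤ b + 2 by omega)).cons_walk (D.symm hα') fun _ => e1).cons_walk
        (D.symm hau) fun _ => e2
    have hvb : z u' • f b = f b := by
      by_contra hm
      obtain ⟨i, -, hne⟩ := hext (cons u' (cons α f)) (O.crit_of hu hW hm)
      exact hne rfl
    have hvα : z u' • f (b + 1) = f (b + 1) := by
      by_contra hm
      refine hflip (cons u' (cons α f)) hu ⟨hW, z u', f (b + 1), hw.adj_at b (by omega), fun _ => ?_,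
        fun i hi => ?_, hm⟩
      · show f (b + 1) ≠ cons u' (cons α f) (b + 1)
        rw [show cons u' (cons α f) (b + 1) = f (b - 1) by
          rcases b with _ | b'
          · omega
          · rfl]
        have := hw.ne_at (b - 1) (by omega)
        rw [show b - 1 + 2 = b + 1 by omega] at this
        exact this.symm
      · rcases Nat.lt_or_ge i (b + 2) with hi' | hi'
        · exact O.fix_wk hW i (i := 0) (by omega) hi hu (by omega) (by omega)
        · rw [show i = b + 2 by omega]; exact hvb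
    by_cases hvw : z u' • f (b + 2) = f (b + 2)
    · rw [← O.commute hb2 hvw, mul_inv_cancel_right]
      exact O.mem_EBall' hu (Within.head hα' (Within.single hau))
    have e := O.pair hα (D.symm (hw.adj_at b (by omega))) (hw.adj_at (b + 1) le_rfl) hvα hvb hvw
    rw [hz2, O.inv hu] at e
    rw [O.inv hb2]
    have : w * z u' * w = z (f 2) * z u' := by
      rw [← e]; simp only [mul_assoc, O.sq hu, mul_one]; rfl
    rw [this]
    exact Subgroup.mul_mem _
      (O.mem_EBall' h2 (hw.within D (k := 2) (Nat.zero_le _) (by omega) (by omega) (by omega)))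
      (O.mem_EBall' hu (Within.head hα' (Within.single hau)))
  have hbot := D.eq_bot_of_moved h01 (N := EBall G adj isB 2 (f 0))
    (fun n hn => ⟨P.fix_EBall hn (Within.refl 0 _) (by omega),
      P.fix_EBall hn (Within.single h01) (by omega)⟩)
    (fun g hg n hn => by simpa only [hg] using conj_mem_EBall D g hn) (O.inv hb2) hw1 hm0
    fun n hn => O.conj_EBall hgen hn
  have := O.mem_EBall' (n := 2) h0 (Within.refl 2 (f 0))
  rw [hbot, Subgroup.mem_bot] at this
  exact O.ne _ h0 this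

theorem not_even_big (hev : b % 2 = 0) (h4 : 4 ≤ b) : False := by
  have P := O.dist
  have D := O.tri
  obtain ⟨f, hf⟩ := P.exists_crit
  rcases O.extend_or_flip hev h4 hf with ⟨g, hg, he⟩ | ⟨fl, hfl0, hfl⟩
  · exact O.no_shift hev h4 hg hf he
  obtain ⟨hm0, -⟩ := O.even_facts hev hf
  obtain ⟨h0, hw, -⟩ := id hf
  have hb2 : isB (f (b + 2)) := hw.isB_even D h0 le_rfl (by omega)
  have hflA : Flip G adj b fun i => f (b + 1 - i) := by
    refine ⟨((hw.mono (show b + 1 ≤ b + 2 by omega)).rev D).mono (by omega), z (f (b + 2)), f 0, ?_,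
      fun _ => ?_, fun i hi => ?_, hm0⟩
    · show adj (f (b + 1 - b)) (f 0)
      rw [show b + 1 - b = 1 by omega]; exact D.symm (hw.adj_at 0 (by omega))
    · show f 0 ≠ f (b + 1 - (b - 1))
      rw [show b + 1 - (b - 1) = 2 by omega]; exact hw.ne_at 0 (by omega)
    · exact O.fix_wk hw _ (i := b + 2) le_rfl (by omega) hb2 (by omega) (by omega)
  have hflips : Flips G adj isB b := by
    refine ⟨⟨fun i => fl (2 + i), ?_, Flip.down (k := 2) (Nat.add_comm b 2 ▸ hfl) (by omega)⟩,
      ⟨_, ?_, hflA⟩⟩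
    · exact hfl.1.isB_even D hfl0 (by omega) rfl
    · exact hw.not_isB_odd D h0 (by omega) (by omega)
  obtain ⟨b', rfl⟩ : ∃ b', b = b' + 1 := ⟨b - 1, by omega⟩
  have hC := conj_of_flips D (n := b') (by omega) (hflips.down D (by omega))
  obtain ⟨g, hg⟩ := hC f (fun i => f (2 + i)) (hw.mono (by omega))
    (hw.shift 2 (b' + 1) (by omega))
    (iff_of_true h0 (hw.isB_even D h0 (i := 2 + 0) (by omega) rfl))
  refine O.no_shift hev h4 hf (hf.map D g) fun i hi => ?_
  show f (i + 2) = g • f i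
  rw [hg i (by omega), Nat.add_comm]

end One

/-- The bound for critical distance two. -/
theorem One.bound_two {z : V → G} (O : One G adj isB 2 z) :
    ∃ u v, adj u v ∧ Nat.card (Ed G u v) ≤ 2 ^ 7 := by
  have P := O.dist
  have H := P.hy
  have D := O.tri
  obtain ⟨f, hf⟩ := P.exists_crit
  obtain ⟨hm0, -⟩ := O.even_facts rfl hf
  obtain ⟨h0, hw, -⟩ := id hf
  have h2 : isB (f 2) := hw.isB_even D h0 (by omega) rfl
  have h4 : isB (f 4) := hw.isB_even D h0 le_rfl rfl
  have h1 : ¬ isB (f 1) := hw.not_isB_odd D h0 (by omega) rfl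
  have a01 := hw.adj_at 0 (by omega)
  have a12 := hw.adj_at 1 (by omega)
  have a23 := hw.adj_at 2 (by omega)
  have a34 := hw.adj_at 3 (by omega)
  obtain ⟨o, ho, ho1, ho3⟩ := D.third (D.symm a12) a23 (hw.ne_at 1 (by omega))
  obtain ⟨u, _, hu, -, hu2, -, -⟩ := D.exists_others (D.symm ho)
  refine ⟨f 1, f 2, a12, ?_⟩
  set T0 := Ed G (f 1) (f 2)
  set T1 := T0 ⊓ MulAction.stabilizer G (f 0) with hT1
  set T2 := T1 ⊓ MulAction.stabilizer G (f 3) with hT2
  set T3 := T2 ⊓ MulAction.stabilizer G (f 4) with hT3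
  set T4 := T3 ⊓ MulAction.stabilizer G u with hT4
  have c1 : Nat.card T0 ≤ 2 * Nat.card T1 := D.card_stab (H := T0) a12 (fun g hg => hg.1) (fun g hg => hg.2)
    (D.symm a01) (hw.ne_at 0 (by omega)).symm
  have c2 : Nat.card T1 ≤ 2 * Nat.card T2 := D.card_stab (H := T1) (D.symm a12) (fun g hg => hg.1.2)
    (fun g hg => hg.1.1) a23 (hw.ne_at 1 (by omega))
  have c3 : Nat.card T2 ≤ 2 * Nat.card T3 := D.card_stab (H := T2) (D.symm a23) (fun g hg => hg.2)
    (fun g hg => hg.1.1.2) a34 (hw.ne_at 2 (by omega))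
  have ho' : ∀ g ∈ T3, g • o = o := fun g hg =>
    D.fix_third hg.1.1.1.2 hg.1.1.1.1 hg.1.2 (D.symm a12) a23 (hw.ne_at 1 (by omega)) ho
  have c4 : Nat.card T3 ≤ 2 * Nat.card T4 := D.card_stab (H := T3) (D.symm ho) ho'
    (fun g hg => hg.1.1.1.2) hu hu2
  set A := Fix G adj 2 (f 2) ⊓ T0 with hA
  have hT4A : T4 ≤ A := by
    intro g hg
    obtain ⟨⟨⟨⟨⟨g1, g2⟩, g0⟩, g3⟩, g4⟩, gu⟩ := hg
    have go : g • o = o := D.fix_third g2 g1 g3 (D.symm a12) a23 (hw.ne_at 1 (by omega)) ho
    refine ⟨mem_Fix.2 fun x hx => ?_, g1, g2⟩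
    rcases hx with rfl | ⟨n, hn, rfl | ⟨_, hx, rfl⟩⟩
    · exact g2
    · exact D.fix_third g2 g1 g3 (D.symm a12) a23 (hw.ne_at 1 (by omega)) hn
    rcases D.cover (D.symm a12) a23 ho hn (hw.ne_at 1 (by omega)) ho1 ho3 with rfl | rfl | rfl
    · exact D.fix_third g1 g2 g0 a12 (D.symm a01) (hw.ne_at 0 (by omega)).symm hx
    · exact D.fix_third g3 g2 g4 (D.symm a23) a34 (hw.ne_at 2 (by omega)) hx
    · exact D.fix_third go g2 gu (D.symm ho) hu hu2 hx
  obtain ⟨a, c, ha, hc, h1a, h1c, hac⟩ := D.exists_others a01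
  obtain ⟨x, _, hx, -, hx0, -, -⟩ := D.exists_others (D.symm ha)
  obtain ⟨y, _, hy, -, hy0, -, -⟩ := D.exists_others (D.symm hc)
  have hA0 : ∀ g ∈ A, g • f 0 = f 0 := fun g hg =>
    mem_Fix.1 hg.1 _ (hw.within D (k := 2) (by omega) (by omega) (by omega) (by omega))
  set A1 := A ⊓ MulAction.stabilizer G a with hA1
  set A2 := A1 ⊓ MulAction.stabilizer G x with hA2
  set A3 := A2 ⊓ MulAction.stabilizer G y with hA3
  have d1 : Nat.card A ≤ 2 * Nat.card A1 := D.card_stab (H := A) a01 hA0 (fun g hg => hg.2.1) ha h1a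
  have d2 : Nat.card A1 ≤ 2 * Nat.card A2 := D.card_stab (H := A1) (D.symm ha) (fun g hg => hg.2)
    (fun g hg => hA0 g hg.1) hx hx0
  have d3 : Nat.card A2 ≤ 2 * Nat.card A3 := D.card_stab (H := A2) (D.symm hc)
    (fun g hg => D.fix_third (hA0 g hg.1.1) hg.1.1.2.1 hg.1.2 a01 ha h1a hc)
    (fun g hg => hA0 g hg.1.1) hy hy0
  set X := Fix G adj 2 (f 2) ⊓ Fix G adj 2 (f 0) with hX
  have hA3X : A3 ≤ X := by
    intro g hg
    obtain ⟨⟨⟨gA, ga⟩, gx⟩, gy⟩ := hg
    have g0 := hA0 g gA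
    have g1 := gA.2.1
    have gc : g • c = c := D.fix_third g0 g1 ga a01 ha h1a hc
    refine ⟨gA.1, mem_Fix.2 fun v hv => ?_⟩
    rcases hv with rfl | ⟨n, hn, rfl | ⟨_, hv, rfl⟩⟩
    · exact g0
    · exact D.fix_third g0 g1 ga a01 ha h1a hn
    rcases D.cover a01 ha hc hn h1a h1c hac with rfl | rfl | rfl
    · exact mem_Fix.1 gA.1 _ (Within.head (D.symm a12) (Within.single hv))
    · exact D.fix_third ga g0 gx (D.symm ha) hx hx0 hv
    · exact D.fix_third gc g0 gy (D.symm hc) hy hy0 hv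
  set w := z (f 4)
  have hw1 : w • f 1 = f 1 := O.fix_wk hw 1 (i := 4) le_rfl (by omega) h4 (by omega) (by omega)
  have hw2 : w • f 2 = f 2 := O.fix_wk hw 2 (i := 4) le_rfl (by omega) h4 (by omega) (by omega)
  have hXe : ∀ n ∈ X, n • f 1 = f 1 ∧ n • f 2 = f 2 := fun n hn =>
    ⟨mem_Fix.1 hn.1 _ ((Within.single (D.symm a12)).mono (by omega)),
      mem_Fix.1 hn.1 _ (Within.refl 2 _)⟩
  obtain ⟨s, hs1, hs2, hs0⟩ := D.trans_pair a12 (D.symm a01) (D.symm a01) a12
    (hw.ne_at 0 (by omega)).symm (hw.ne_at 0 (by omega))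
  have hXbot : X = ⊥ := by
    refine H.eq_bot_of_centralized h1 a12 hXe (fun t ht1 ht2 n hn => ?_) (g := z (s • f 4))
      ?_ ?_ fun n hn => ?_
    · refine ⟨ht2 ▸ D.conj_mem_Fix hn.1, ?_⟩
      have hpre : n ∈ Fix G adj 2 (t⁻¹ • f 0) := by
        by_cases e : t⁻¹ • f 0 = f 0
        · rw [e]; exact hn.2
        rw [D.same_image (inv_fix ht1) hw1 (inv_fix ht2) hw2 a12 (D.symm a01)
          (hw.ne_at 0 (by omega)).symm e hm0]
        have := D.conj_mem_Fix (g := w) hn.2
        rwa [← O.commute h4 (mem_Fix.1 hn.1 _ (hw.within D (k := 2) (by omega) le_rfl (by omega)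
          (by omega))), mul_inv_cancel_right] at this
      have := D.conj_mem_Fix (g := t) hpre
      rwa [smul_inv_smul] at this
    · rw [← O.smul h4 s]
      have := conj_smul_smul s w (f 1)
      rwa [hw1, hs1] at this
    · rw [← O.smul h4 s]
      have := conj_smul_smul s w (f 0)
      rw [hs0] at this
      rw [this]
      exact fun e => hm0 (smul_left_cancel s (e.trans hs0.symm))
    · refine (O.commute ((D.isB_smul s _).2 h4) (mem_Fix.1 hn.2 _ ?_)).symm
      rw [← hs2]
      exact (hw.within D (k := 2) (by omega) le_rfl (by omega) (by omega)).smul D s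
  haveI := D.finite_le (H := T0) (v := f 1) inf_le_left
  haveI := D.finite_le (H := A) (v := f 1) fun g hg => hg.2.1
  haveI := D.finite_le (H := X) (v := f 2) fun g hg => (hXe g hg).2
  have e1 := Subgroup.card_le_of_le hT4A
  have e2 := Subgroup.card_le_of_le hA3X
  have e3 : Nat.card X = 1 := by rw [hXbot]; exact Subgroup.card_bot
  omega

end CfsgLib.LocalEven.GoldBound
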