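import Cfsg.Agent.Lib.LocalEven.GoldBound.Pairs

/-!
Odd critical distance at least five does not occur.
-/

set_option autoImplicit false
set_option linter.unusedSectionVars false
set_option linter.style.haveILetI false
set_option linter.unusedVariables false

namespace CfsgLib.LocalEven.GoldBound

variable {G : Type*} [Group G] {V : Type*} [MulAction G V]
variable {adj : V → V → Prop} {isB : V → Prop} {b : ℕ} {z : V → G}

namespace Odd3

variable (P : Odd3 G adj isB b z)
include P

theorem exists_extension (h5 : 5 ≤ b) {f : ℕ → V} (hf : Mut G adj isB b z f) :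
    ∃ g h : ℕ → V, Mut G adj isB b z g ∧ Mut G adj isB b z h ∧ (∀ i, 1 ≤ i → h i = f i) ∧
      ∀ i, i ≤ b + 1 → g (i + 2) = h i := by
  by_contra hcon
  push Not at hcon
  have O := P.one
  have D := P.tri
  have hodd := P.odd
  obtain ⟨h0, hw, h1, h2⟩ := id hf
  obtain ⟨hb, h2B, -, hf2, -⟩ := P.mut_ends hf
  set w := z (f (b + 3))
  set W := EBall G adj isB 3 (f 1) with hWdef
  have a01 := hw.adj_at 0 (by omega)
  have a12 := hw.adj_at 1 (by omega)
  have h1A : ¬ isB (f 1) := hw.not_isB_odd D h0 (by omega) rfl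
  have near : ∀ x, isB x → Within adj 2 (f 2) x → w * z x * w ∈ W := fun x hx hwx => by
    rw [show w * z x * w = w * z x * w⁻¹ by rw [O.inv hb], O.smul hx w]
    refine O.mem_EBall' ((D.isB_smul w x).2 hx) (Within.head a12 ?_)
    have := hwx.smul D w
    rwa [hf2] at this
  -- the key step, for a walk agreeing with `f` beyond the start
  have key : ∀ h : ℕ → V, Mut G adj isB b z h → (∀ i, 1 ≤ i → h i = f i) → ∀ α u, adj (h 0) α →
      adj α u → α ≠ h 1 → u ≠ h 0 → w * z u * w ∈ W := by
    intro h hh hagree α u hα hu hα1 hu0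
    obtain ⟨g0, gw, g1, g2⟩ := id hh
    obtain ⟨gb, g2B, -, gf2, gfb⟩ := P.mut_ends hh
    have hwe : z (h (b + 3)) = w := by rw [hagree _ (by omega)]
    have hαA := D.not_isB_of_adj g0 hα
    have huB := D.isB_of_adj hαA hu
    have hW1 : Wk adj (b + 2) (cons α h) :=
      (gw.mono (show b + 1 ≤ b + 3 by omega)).cons_walk (D.symm hα) fun _ => hα1
    have hW2 : Wk adj (b + 3) (cons u (cons α h)) := hW1.cons_walk (D.symm hu) fun _ => hu0
    have hvb : z u • h b = h b := by
      by_contra hm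
      obtain ⟨i, -, hi⟩ := hcon (cons u (cons α h)) h (P.mut_of_move huB hW2 hm) hh hagree
      exact hi rfl
    have hvb1 : z u • h (b + 1) = h (b + 1) := by
      have hW3 := hW1.rev D
      have hs : isB ((fun i => cons α h (b + 2 - i)) 0) := by
        show isB (h (b + 1))
        exact gw.isB_even D g0 (by omega) (by omega)
      refine P.noA (fun i => cons α h (b + 2 - i)) hs hW3 (z u) ?_ ?_
      · show z u ∈ EBall G adj isB 1 (cons α h (b + 2 - (b + 2)))
        rw [Nat.sub_self]
        exact O.mem_EBall' huB (Within.single hu)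
      · show z u • h b = h b
        exact hvb
    have hvfix : ∀ i, i ≤ b + 1 → z u • h i = h i := by
      intro i hi
      rcases Nat.lt_or_ge i b with hi' | hi'
      · exact O.fix_wk hW2 (i + 2) (i := 0) (by omega) (by omega) huB (by omega) (by omega)
      · rcases (show i = b ∨ i = b + 1 by omega) with rfl | rfl
        exacts [hvb, hvb1]
    have h0fix : ∀ i, i ≤ b + 1 → z (h 0) • h i = h i := fun i hi =>
      O.fix_wk gw i (i := 0) (by omega) (by omega) g0 (by omega) (by omega)
    -- an element commuting with `w`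
    obtain ⟨q, hq2, hqfix, hq⟩ : ∃ q : G, q • h (b + 2) = h (b + 2) ∧ (∀ i, i ≤ b + 1 → q • h i = h i) ∧
        (q = z u ∨ q = z (h 0) * z u) := by
      by_cases hm : z u • h (b + 2) = h (b + 2)
      · exact ⟨z u, hm, hvfix, Or.inl rfl⟩
      · refine ⟨z (h 0) * z u, ?_, fun i hi => by rw [mul_smul, hvfix i hi, h0fix i hi], Or.inr rfl⟩
        have := D.same_image (hvfix (b + 1) le_rfl) (h0fix (b + 1) le_rfl) hvb (h0fix b (by omega))
          (D.symm (gw.adj_at b (by omega))) (gw.adj_at (b + 1) (by omega)) (gw.ne_at b (by omega)) hm g1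
        rw [mul_smul, this, ← mul_smul, O.sq g0, one_smul]
    have hqy : ∀ y, adj (h (b + 2)) y → q • y = y := by
      intro y hy
      by_contra hm
      have hflA : Flip G adj (b + 1) fun i => h (1 + i) := by
        refine ⟨gw.shift 1 (b + 1) (by omega), q, y, ?_, fun _ => ?_, fun i hi => ?_, hm⟩
        · show adj (h (1 + (b + 1))) y
          rw [show 1 + (b + 1) = b + 2 by omega]; exact hy
        · show y ≠ h (1 + (b + 1 - 1))
          rw [show 1 + (b + 1 - 1) = b + 1 by omega]
          exact fun e => hm (e ▸ hqfix (b + 1) le_rfl)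
        · rcases Nat.lt_or_ge i (b + 1) with hi' | hi'
          · exact hqfix _ (by omega)
          · show q • h (1 + i) = h (1 + i)
            rw [show 1 + i = b + 2 by omega]; exact hq2
      have hflB : Flip G adj (b + 1) h := ⟨gw.mono (by omega), z (h 0), h (b + 2),
        gw.adj_at (b + 1) (by omega), fun _ => (gw.ne_at b (by omega)).symm,
        fun i hi => h0fix i hi, g1⟩
      have hA : ¬ isB (h (1 + 0)) := gw.not_isB_odd D g0 (by omega) rfl
      obtain ⟨k, hk⟩ := conj_of_flips D (show 1 ≤ b + 1 by omega) ⟨⟨h, g0, hflB⟩, ⟨_, hA, hflA⟩⟩ h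
        (cons u (cons α h)) (gw.mono (by omega)) (hW2.mono (by omega)) (iff_of_true g0 huB)
      have e1 : k * z (h 0) * k⁻¹ = z u := by rw [O.smul g0 k, hk 0 (by omega)]; rfl
      have e2 : k • h (b + 2) = h b := by rw [hk (b + 2) le_rfl]; rfl
      refine g1 (smul_left_cancel k ?_)
      rw [← conj_smul_smul, e1, e2, hvb]
    have hqw : q * w = w * q := hwe ▸ O.commute gb (hqy _ (gw.adj_at (b + 2) le_rfl))
    have hmemu : z u ∈ W := O.mem_EBall' huB
      (Within.head (hagree 1 le_rfl ▸ D.symm (gw.adj_at 0 (by omega))) (Within.head hα (Within.single hu)))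
    have hwq : w * q * w = q := by rw [← hqw, mul_assoc, O.sq hb, mul_one]
    rcases hq with rfl | rfl
    · rw [hwq]; exact hmemu
    · have hmem0 : z (h 0) ∈ W := O.mem_EBall' g0
        ((Within.single (hagree 1 le_rfl ▸ D.symm (gw.adj_at 0 (by omega)))).mono (by omega))
      have hn0 : w * z (h 0) * w ∈ W := near _ g0
        (hagree 2 (by omega) ▸ gw.within D (by omega) (by omega) (by omega) (by omega))
      have : w * z u * w = w * z (h 0) * w * (z (h 0) * z u) := by
        calc w * z u * w = w * z (h 0) * (z (h 0) * z u) * w := by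
              rw [mul_assoc w (z (h 0)), ← mul_assoc (z (h 0)) (z (h 0)), O.sq g0, one_mul]
          _ = w * z (h 0) * ((w * w) * (z (h 0) * z u) * w) := by rw [O.sq hb, one_mul]; group
          _ = w * z (h 0) * w * (w * (z (h 0) * z u) * w) := by group
          _ = _ := by rw [hwq]
      rw [this]
      exact W.mul_mem hn0 (W.mul_mem hmem0 hmemu)
  -- the third branch at `f 1`
  obtain ⟨d, hd, hd2, hd0⟩ := D.third a12 (D.symm a01) (hw.ne_at 0 (by omega)).symm
  have hdB := D.isB_of_adj h1A hd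
  have hW' : Wk adj (b + 2 + 1) (cons d fun i => f (1 + i)) :=
    (hw.shift 1 (b + 2) (by omega)).cons_walk (D.symm hd) fun _ => hd2.symm
  have hagree : ∀ i, 1 ≤ i → cons d (fun i => f (1 + i)) i = f i := by
    rintro (_ | i) hi
    · omega
    · exact congrArg f (Nat.add_comm 1 i)
  have hMd : Mut G adj isB b z (cons d fun i => f (1 + i)) := by
    refine P.mut_of_move hdB hW' ?_
    show z d • cons d (fun i => f (1 + i)) (b + 2) ≠ cons d (fun i => f (1 + i)) (b + 2)
    rw [hagree (b + 2) (by omega)]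
    rw [O.third h1A a12 (D.symm a01) hd (hw.ne_at 0 (by omega)).symm hd2 hd0, mul_smul]
    intro e
    have := O.fix_wk hw (b + 2) (i := 2) (by omega) (by omega) h2B (by omega) (by omega)
    exact h1 (smul_left_cancel (z (f 2)) (e.trans this.symm))
  have hgen : ∀ u, isB u → Within adj 3 (f 1) u → w * z u * w⁻¹ ∈ W := by
    intro u hu hu3
    rw [O.inv hb]
    rcases hu3 with rfl | ⟨x, hx, hu2⟩
    · exact absurd hu h1A
    by_cases e : x = f 2
    · exact near u hu (e ▸ hu2)
    have hxB := D.isB_of_adj h1A hx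
    have hxnear : Within adj 2 (f 2) x := Within.head (D.symm a12) (Within.single hx)
    rcases hu2 with rfl | ⟨α, hα, hu1⟩
    · exact near _ hu hxnear
    rcases hu1 with rfl | ⟨y, hy, hyu⟩
    · exact absurd hu (D.not_isB_of_adj hxB hα)
    rw [← show y = u from hyu] at hu ⊢
    by_cases e1 : α = f 1
    · exact near y hu (Within.head (D.symm a12) (Within.single (e1 ▸ hy)))
    by_cases e2 : y = x
    · exact near y hu (e2 ▸ hxnear)
    rcases D.cover a12 (D.symm a01) hd hx (hw.ne_at 0 (by omega)).symm hd2 hd0 with e' | e' | e'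
    · exact absurd e' e
    · subst e'
      exact key f hf (fun i _ => rfl) α y hα hy e1 e2
    · subst e'
      exact key _ hMd hagree α y hα hy (by rw [hagree 1 le_rfl]; exact e1) e2
  have hbot := D.eq_bot_of_moved a12 (N := W)
    (fun n hn => ⟨P.dist.fix_EBall hn (Within.refl 0 _) (by omega),
      P.dist.fix_EBall hn (Within.single a12) (by omega)⟩)
    (fun g hg n hn => by simpa only [hWdef, hg] using conj_mem_EBall D g hn) (O.inv hb) hf2 h2
    fun n hn => O.conj_EBall hgen hn
  have : z (f 0) ∈ W := O.mem_EBall' h0 ((Within.single (D.symm a01)).mono (by omega))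
  rw [hbot, Subgroup.mem_bot] at this
  exact O.ne _ h0 this

theorem ev_mem_Z (h5 : 5 ≤ b) {f : ℕ → V} (hf : Mut G adj isB b z f) {p r : V} (hp : isB p)
    (hp2 : Within adj 4 p (f 2)) (hpn : Within adj b p (f (b - 2))) (hpm : z p • f b ≠ f b)
    (hr : isB r) (hra : Within adj (b - 1) r (f (b + 1))) (hrm : z r • f (b - 2) ≠ f (b - 2)) :
    ev b z f ∈ EBall G adj isB 1 (f b) := by
  by_contra hne
  have O := P.one
  have H := P.dist.hy
  have D := P.tri
  have hodd := P.odd
  obtain ⟨h0, hw, h1, h2⟩ := id hf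
  obtain ⟨hwB, -, haB, -, hfa⟩ := P.mut_ends hf
  have hn0 : ¬ Natl G adj isB z := fun hN => hne (P.ev_mem_of_natl hN hf)
  set m := f (b - 1) with hm
  set n := f b with hn
  set n' := f (b - 2) with hn'
  set a := f (b + 1) with ha
  have hmB : isB m := hw.isB_even D h0 (by omega) (by omega)
  have hnA : ¬ isB n := hw.not_isB_odd D h0 (by omega) hodd
  have hmn : adj m n := by
    have := hw.adj_at (b - 1) (by omega)
    rwa [show b - 1 + 1 = b by omega] at this
  have hmn' : adj m n' := by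
    have := hw.adj_at (b - 2) (by omega)
    rw [show b - 2 + 1 = b - 1 by omega] at this
    exact D.symm this
  have hnn' : n ≠ n' := by
    have := hw.ne_at (b - 2) (by omega)
    rw [show b - 2 + 2 = b by omega] at this
    exact this.symm
  have hna : adj n a := hw.adj_at b (by omega)
  have ham : a ≠ m := by
    have := hw.ne_at (b - 1) (by omega)
    rw [show b - 1 + 2 = b + 1 by omega] at this
    exact this.symm
  obtain ⟨o, ho, hno, hn'o⟩ := D.third hmn hmn' hnn'
  set e := ev b z f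
  have heA : e ∈ EBall G adj isB 2 a := P.ev_mem_end hf
  set v := z p
  set u := z r
  have vm : v • m = m := O.fix hp (hpn.tail (D.symm hmn')) le_rfl
  have vn' : v • n' = n' := O.fix hp hpn (by omega)
  have um : u • m = m := O.fix hr (hra.trans (m := 2) (Within.head (D.symm hna) (Within.single (D.symm hmn)))) (by omega)
  have un : u • n = n := O.fix hr (hra.tail (D.symm hna)) (by omega)
  have ua : u • a = a := O.fix hr hra (by omega)
  obtain ⟨evn, evo⟩ := D.eq_third vm vn' hmn' hmn ho hnn'.symm hn'o hno hpm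
  obtain ⟨eun', euo⟩ := D.eq_third um un hmn hmn' ho hnn' hno hn'o hrm
  set c := v • a with hcdef
  have hco : adj o c := evn ▸ D.smul v hna
  set c' := u • c with hc'def
  have hc'n : adj n' c' := euo ▸ D.smul u hco
  have hcm : c ≠ m := fun h => ham (smul_left_cancel v (h.trans vm.symm))
  have hc'm : c' ≠ m := fun h => hcm (smul_left_cancel u (h.trans um.symm))
  have vv : ∀ x : V, v • v • x = x := fun x => by rw [← mul_smul, O.sq hp, one_smul]
  have uu : ∀ x : V, u • u • x = x := fun x => by rw [← mul_smul, O.sq hr, one_smul]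
  have vc' : v • c' = c' := O.fix hp (hpn.tail hc'n) le_rfl
  have hve : v * e = e * v := P.dist.comm_Ec_EBall hp (O.mem p hp) (P.ev_mem_two hf) hp2 (by omega)
  have hue : u * e = e * u := P.dist.comm_Ec_EBall hr (O.mem r hr) heA hra (by omega)
  have vev : ∀ g : G, (v * g * v⁻¹) * e * (v * g * v⁻¹)⁻¹ = v * (g * e * g⁻¹) * v⁻¹ := fun g => by
    calc (v * g * v⁻¹) * e * (v * g * v⁻¹)⁻¹ = v * g * (v⁻¹ * e * v) * g⁻¹ * v⁻¹ := by group
      _ = v * (g * e * g⁻¹) * v⁻¹ := by rw [mul_assoc v⁻¹ e v, ← hve]; group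
  have ueu : ∀ g : G, (u * g * u⁻¹) * e * (u * g * u⁻¹)⁻¹ = u * (g * e * g⁻¹) * u⁻¹ := fun g => by
    calc (u * g * u⁻¹) * e * (u * g * u⁻¹)⁻¹ = u * g * (u⁻¹ * e * u) * g⁻¹ * u⁻¹ := by group
      _ = u * (g * e * g⁻¹) * u⁻¹ := by rw [mul_assoc u⁻¹ e u, ← hue]; group
  have hvinv : v⁻¹ = v := O.inv hp
  have huinv : u⁻¹ = u := O.inv hr
  -- action of the kernel at `m`
  have qfix : ∀ g ∈ Qk G adj m, ∀ x, adj m x → g • x = x := fun g hg => (mem_Qk.1 hg).2
  have qa : ∀ g ∈ Qk G adj m, g • a = a → g * e * g⁻¹ = e ∨ g * e * g⁻¹ = z a * e := by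
    intro g hg hga
    have hgn := qfix g hg n hmn
    have b1 := hw.adj_at (b + 1) (by omega)
    have b2 := hw.adj_at (b + 2) le_rfl
    set s := f (b + 3)
    set n₁ := f (b + 2)
    have hzfix : z (f 0) • n = n := O.fix_wk hw b (i := 0) (by omega) (by omega) h0 (by omega) (by omega)
    have hn1 : n ≠ n₁ := hw.ne_at b (by omega)
    have hsa : s ≠ a := (hw.ne_at (b + 1) le_rfl).symm
    set n₂ := z (f 0) • n₁
    have b1' : adj a n₂ := D.smul_adj hfa b1
    have hn2 : n ≠ n₂ := fun h => hn1 (smul_left_cancel _ (hzfix.trans h))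
    have b2' : adj n₂ (z (f 0) • s) := D.smul _ b2
    have hsa' : z (f 0) • s ≠ a := fun h => hsa (smul_left_cancel _ (h.trans hfa.symm))
    have he : e = z (z (f 0) • s) * z s := by
      rw [← O.smul hwB (z (f 0)), O.inv h0]; simp only [e, ev, s, mul_assoc]
    have hsB : isB (z (f 0) • s) := (D.isB_smul _ _).2 hwB
    have e2 : g * e * g⁻¹ = z (g • (z (f 0) • s)) * z (g • s) := by
      rw [he, ← O.smul hsB g, ← O.smul hwB g]; group
    have hn₁A := D.not_isB_of_adj haB b1
    have hn₂A := D.not_isB_of_adj haB b1'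
    have hne1 : g • s ≠ a := fun h => hsa (smul_left_cancel g (h.trans hga.symm))
    have hne2 : g • (z (f 0) • s) ≠ a := fun h => hsa' (smul_left_cancel g (h.trans hga.symm))
    have Za : z a ∈ EBall G adj isB 2 a := O.mem_EBall' haB (Within.refl 2 a)
    have Zs : z s ∈ EBall G adj isB 2 a := O.mem_EBall' hwB (Within.head b1 (Within.single b2))
    have Zs' : z (z (f 0) • s) ∈ EBall G adj isB 2 a :=
      O.mem_EBall' hsB (Within.head b1' (Within.single b2'))
    have hswap : ∀ {x y : G}, (x = z (z (f 0) • s) ∨ x = z a * z (z (f 0) • s)) →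
        (y = z s ∨ y = z a * z s) → x * y = e ∨ x * y = z a * e := by
      rintro x y (rfl | rfl) (rfl | rfl) <;> rw [he]
      · exact Or.inl rfl
      · right; rw [← mul_assoc, ← P.comm_ball_two Za Zs', mul_assoc]
      · right; rw [mul_assoc]
      · left
        calc z a * z (z (f 0) • s) * (z a * z s) = z a * (z (z (f 0) • s) * z a) * z s := by group
          _ = _ := by rw [← P.comm_ball_two Za Zs', ← mul_assoc (z a) (z a), O.sq haB, one_mul]
    rw [e2]
    by_cases hg1 : g • n₁ = n₁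
    · have hg2 : g • n₂ = n₂ := D.fix_third hga hgn hg1 (D.symm hna) b1 hn1 b1'
      exact hswap (O.child hn₂A (D.symm b1') b2' (D.smul_adj hg2 b2') hsa' hne2)
        (O.child hn₁A (D.symm b1) b2 (D.smul_adj hg1 b2) hsa hne1)
    · obtain ⟨e3, e4⟩ := D.eq_third hga hgn (D.symm hna) b1 b1' hn1 hn2 (Ne.symm h1) hg1
      have k1 := O.child hn₂A (D.symm b1') b2' (e3 ▸ D.smul g b2) hsa' hne1
      have k2 := O.child hn₁A (D.symm b1) b2 (e4 ▸ D.smul g b2') hsa hne2
      have hm1 : z (g • s) ∈ EBall G adj isB 2 a := by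
        rcases k1 with h | h <;> rw [h]
        exacts [Zs', Subgroup.mul_mem _ Za Zs']
      have hm2 : z (g • (z (f 0) • s)) ∈ EBall G adj isB 2 a := by
        rcases k2 with h | h <;> rw [h]
        exacts [Zs, Subgroup.mul_mem _ Za Zs]
      rw [P.comm_ball_two hm2 hm1]
      exact hswap k1 k2
  have hcB : isB c := (D.isB_smul v a).2 haB
  have hc'B : isB c' := (D.isB_smul u c).2 hcB
  have qm : ∀ g ∈ Qk G adj m, ∀ k : G, k • m = m → k * g * k⁻¹ ∈ Qk G adj m :=
    fun g hg k hk => D.conj_mem_Qk hk hg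
  have qc : ∀ g ∈ Qk G adj m, g • c = c → g * e * g⁻¹ = e ∨ g * e * g⁻¹ = z c * e := by
    intro g hg hgc
    have hga : (v * g * v⁻¹) • a = a := by
      rw [hvinv, mul_smul, mul_smul, ← hcdef, hgc, hcdef, vv]
    rcases qa _ (qm g hg v vm) hga with h | h <;> rw [vev] at h
    · left
      calc g * e * g⁻¹ = v⁻¹ * (v * (g * e * g⁻¹) * v⁻¹) * v := by group
        _ = e := by rw [h, mul_assoc, ← hve]; group
    · right
      calc g * e * g⁻¹ = v⁻¹ * (v * (g * e * g⁻¹) * v⁻¹) * v := by group
        _ = v * (z a * e) * v := by rw [h, hvinv]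
        _ = v * z a * v⁻¹ * (v * e * v) := by group
        _ = z c * e := by rw [O.smul haB v, hve, mul_assoc e v v, O.sq hp, mul_one, hcdef]
  have qc' : ∀ g ∈ Qk G adj m, g • c' = c' → g * e * g⁻¹ = e ∨ g * e * g⁻¹ = z c' * e := by
    intro g hg hgc
    have hgc0 : (u * g * u⁻¹) • c = c := by
      rw [huinv, mul_smul, mul_smul, ← hc'def, hgc, hc'def, uu]
    rcases qc _ (qm g hg u um) hgc0 with h | h <;> rw [ueu] at h
    · left
      calc g * e * g⁻¹ = u⁻¹ * (u * (g * e * g⁻¹) * u⁻¹) * u := by group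
        _ = e := by rw [h, mul_assoc, ← hue]; group
    · right
      calc g * e * g⁻¹ = u⁻¹ * (u * (g * e * g⁻¹) * u⁻¹) * u := by group
        _ = u * (z c * e) * u := by rw [h, huinv]
        _ = u * z c * u⁻¹ * (u * e * u) := by group
        _ = z c' * e := by rw [O.smul hcB u, hue, mul_assoc e u u, O.sq hr, mul_one, hc'def]
  have hoA := D.not_isB_of_adj hmB ho
  have hn'A := D.not_isB_of_adj hmB hmn'
  have cyc : ∀ {x y s t : V}, adj m x → adj m y → x ≠ y → adj x s → adj y t → s ≠ m → t ≠ m →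
      isB s → s ≠ t := by
    intro x y s t hx hy hxy hs ht hsm htm hsB hst
    have hW : Wk adj 4 (cons s (cons x (cons m (cons y fun _ => t)))) :=
      (((Wk.cons_walk (n := 0) ⟨fun i hi => absurd hi (by omega),
        fun i hi => absurd hi (by omega)⟩ ht fun h => absurd h (by omega)
        ).cons_walk hy fun _ => by exact htm.symm).cons_walk (D.symm hx) fun _ => hxy).cons_walk
        (D.symm hs) fun _ => hsm
    exact O.ne s hsB (P.dist.eq_one_of_walk_four hW hsB (O.mem s hsB)
      (show z s ∈ Ec G t from hst ▸ O.mem s hsB))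
  have within4 : ∀ {x y s t : V}, adj m x → adj m y → adj x s → adj y t → Within adj 4 s t :=
    fun {x y s t} hx hy hs ht =>
      Within.head (D.symm hs) (Within.head (D.symm hx) (Within.head hy (Within.single ht)))
  have fix2 : ∀ {g : G} {s t : V}, isB s → isB t → s ≠ t → Within adj 4 s t →
      (g * e * g⁻¹ = e ∨ g * e * g⁻¹ = z s * e) → (g * e * g⁻¹ = e ∨ g * e * g⁻¹ = z t * e) →
      g * e * g⁻¹ = e := by
    intro g s t hs ht hst hw4 h1 h2
    refine h1.elim id fun k1 => h2.elim id fun k2 => ?_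
    exact absurd (O.inj hs ht hw4 (mul_right_cancel (k1.symm.trans k2))) hst
  have hac : a ≠ c := cyc hmn ho hno hna hco ham hcm haB
  have hac' : a ≠ c' := cyc hmn hmn' hnn' hna hc'n ham hc'm haB
  have hcc' : c ≠ c' := cyc ho hmn' hn'o.symm hco hc'n hcm hc'm hcB
  have fac : ∀ g ∈ Qk G adj m, g • a = a → g • c = c → g * e * g⁻¹ = e := fun g hg h1 h2 =>
    fix2 haB hcB hac (within4 hmn ho hna hco) (qa g hg h1) (qc g hg h2)
  have fac' : ∀ g ∈ Qk G adj m, g • a = a → g • c' = c' → g * e * g⁻¹ = e := fun g hg h1 h2 =>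
    fix2 haB hc'B hac' (within4 hmn hmn' hna hc'n) (qa g hg h1) (qc' g hg h2)
  have fcc' : ∀ g ∈ Qk G adj m, g • c = c → g • c' = c' → g * e * g⁻¹ = e := fun g hg h1 h2 =>
    fix2 hcB hc'B hcc' (within4 ho hmn' hco hc'n) (qc g hg h1) (qc' g hg h2)
  have ecv : v * e * v⁻¹ = e := by rw [hve, mul_inv_cancel_right]
  have ecu : u * e * u⁻¹ = e := by rw [hue, mul_inv_cancel_right]
  have heC : e ∈ EBall G adj isB 2 c := ecv ▸ conj_mem_EBall D v heA
  have heC' : e ∈ EBall G adj isB 2 c' := ecu ▸ conj_mem_EBall D u heC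
  have hmoved : ∀ {x s : V} {g : G}, adj m x → adj x s → g ∈ Qk G adj m → g • s ≠ s →
      g * e * g⁻¹ = e → e ∈ EBall G adj isB 2 s → e ∈ EBall G adj isB 1 x := by
    intro x s g hx hs hg hgs hge hes
    refine P.mem_Z_of_mem (D.not_isB_of_adj hmB hx) hs (D.smul_adj (qfix g hg x hx) hs) (Ne.symm hgs) hes ?_
    have := conj_mem_EBall D g hes
    rwa [hge] at this
  have hnotZo : e ∉ EBall G adj isB 1 o := fun h => hne (by
    have := conj_mem_EBall D v h
    rwa [evo, ecv] at this)
  have hfixall : ∀ g ∈ Qk G adj m, g * e * g⁻¹ = e → g • a = a ∧ g • c = c ∧ g • c' = c' := by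
    intro g hg hge
    refine ⟨?_, ?_, ?_⟩ <;> by_contra hm'
    · exact hne (hmoved hmn hna hg hm' hge heA)
    · exact hnotZo (hmoved ho hco hg hm' hge heC)
    · have := conj_mem_EBall D u (hmoved hmn' hc'n hg hm' hge heC')
      rw [eun', ecu] at this
      exact hnotZo this
  by_cases hii : ∃ g ∈ Qk G adj m, g • a = a ∧ g • c ≠ c
  · obtain ⟨A, hA, hAa, hAc⟩ := hii
    have hAc' : A • c' ≠ c' := fun h => hAc ((hfixall A hA (fac' A hA hAa h)).2.1)
    have hAe : A * e * A⁻¹ = z a * e :=
      (qa A hA hAa).resolve_left fun h => hAc (hfixall A hA h).2.1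
    set C := v * A * v⁻¹ with hCdef
    have hC : C ∈ Qk G adj m := qm A hA v vm
    have vca : v • c = a := vv a
    have hCc : C • c = c := by rw [hCdef, hvinv, mul_smul, mul_smul, vca, hAa]
    have hCa : C • a ≠ a := by
      rw [hCdef, hvinv, mul_smul, mul_smul, ← hcdef]
      exact fun h => hAc (smul_left_cancel v (h.trans vca.symm))
    have hCc' : C • c' ≠ c' := by
      rw [hCdef, hvinv, mul_smul, mul_smul, vc']
      exact fun h => hAc' (smul_left_cancel v (h.trans vc'.symm))
    have hCe : C * e * C⁻¹ = z c * e := by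
      rw [hCdef, vev, hAe]
      calc v * (z a * e) * v⁻¹ = v * z a * v⁻¹ * (v * e * v⁻¹) := by group
        _ = z c * e := by rw [O.smul haB v, ecv, hcdef]
    set C' := u * C * u⁻¹ with hC'def
    have hC' : C' ∈ Qk G adj m := qm C hC u um
    have ucc : u • c' = c := uu c
    have hC'c' : C' • c' = c' := by rw [hC'def, huinv, mul_smul, mul_smul, ucc, hCc]
    have hC'a : C' • a ≠ a := by
      rw [hC'def, huinv, mul_smul, mul_smul, ua]
      exact fun h => hCa (smul_left_cancel u (h.trans ua.symm))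
    have hC'c : C' • c ≠ c := by
      rw [hC'def, huinv, mul_smul, mul_smul, ← hc'def]
      exact fun h => hCc' (smul_left_cancel u (h.trans ucc.symm))
    have hC'e : C' * e * C'⁻¹ = z c' * e := by
      rw [hC'def, ueu, hCe]
      calc u * (z c * e) * u⁻¹ = u * z c * u⁻¹ * (u * e * u⁻¹) := by group
        _ = z c' * e := by rw [O.smul hcB u, ecu, hc'def]
    set M := A * C
    have hM : M ∈ Qk G adj m := Subgroup.mul_mem _ hA hC
    have hMa : M • a = C • a := by
      rw [mul_smul]
      exact D.fix_third (qfix A hA n hmn) (mem_Qk.1 hA).1 hAa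
        (D.symm hmn) hna ham.symm (D.smul_adj (qfix C hC n hmn) hna)
    have hMc : M • c = A • c := by rw [mul_smul, hCc]
    have hMc' : M • c' = c' := by
      rw [mul_smul]
      obtain ⟨c₂, hc₂, hmc₂, hc'c₂⟩ := D.third (D.symm hmn') hc'n hc'm.symm
      rw [(D.eq_third (qfix C hC n' hmn') (mem_Qk.1 hC).1 (D.symm hmn') hc'n hc₂ hc'm.symm hmc₂ hc'c₂ hCc').1,
        (D.eq_third (qfix A hA n' hmn') (mem_Qk.1 hA).1 (D.symm hmn') hc'n hc₂ hc'm.symm hmc₂ hc'c₂ hAc').2]
    have hdiff : C'⁻¹ * M ∈ Qk G adj m := Subgroup.mul_mem _ (Subgroup.inv_mem _ hC') hM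
    have hMe : M * e * M⁻¹ = z c' * e := by
      have h1 : (C'⁻¹ * M) • a = a := by
        rw [mul_smul, inv_smul_eq_iff, hMa]
        exact D.same_image (qfix C hC n hmn) (qfix C' hC' n hmn) (mem_Qk.1 hC).1 (mem_Qk.1 hC').1
          (D.symm hmn) hna ham.symm hCa hC'a
      have h2 : (C'⁻¹ * M) • c = c := by
        rw [mul_smul, inv_smul_eq_iff, hMc]
        exact D.same_image (qfix A hA o ho) (qfix C' hC' o ho) (mem_Qk.1 hA).1 (mem_Qk.1 hC').1
          (D.symm ho) hco hcm.symm hAc hC'c
      calc M * e * M⁻¹ = C' * ((C'⁻¹ * M) * e * (C'⁻¹ * M)⁻¹) * C'⁻¹ := by group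
        _ = z c' * e := by rw [fac _ hdiff h1 h2, hC'e]
    have hMe' : M * e * M⁻¹ = z (A • c) * (z a * e) := by
      rw [← O.smul hcB A, ← hAe]
      calc M * e * M⁻¹ = A * (C * e * C⁻¹) * A⁻¹ := by simp only [M]; group
        _ = _ := by rw [hCe]; group
    have hAcA : adj o (A • c) := D.smul_adj (qfix A hA o ho) hco
    have hth : z (A • c) = z m * z c := O.third hoA (D.symm ho) hco hAcA hcm.symm
      (fun h => hcm (smul_left_cancel A (h.symm.trans (mem_Qk.1 hA).1.symm))) (Ne.symm hAc)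
    rw [hMe, hth, ← mul_assoc, mul_left_inj] at hMe'
    have key : z a * z c = z m * z c' := by
      have c1 : z m * z c = z c * z m := O.comm hmB hcB (Within.head ho (Within.single hco)) (by omega)
      have c2 : z a * z c = z c * z a := O.comm haB hcB (within4 hmn ho hna hco) (by omega)
      rw [hMe', c2, ← mul_assoc, ← mul_assoc, O.sq hmB, one_mul]
    refine hn0 (P.natl_of_one hmB hmn' hmn ho hnn'.symm hn'o hno hna hco ham hcm ?_)
    rw [key]
    exact Subgroup.mul_mem _ (O.mem_EBall' hmB (Within.single (D.symm hmn')))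
      (O.mem_EBall' hc'B (Within.single hc'n))
  push Not at hii
  have hall : ∀ g ∈ Qk G adj m, g • a = a → g * e * g⁻¹ = e := fun g hg h => fac g hg h (hii g hg h)
  obtain ⟨h0', hh, hha⟩ := H.exists_Qk_move hmn hna ham
  have hhc : h0' • c ≠ c := fun h => by
    by_cases hc1 : h0' • c' = c'
    · exact hha (hfixall h0' hh (fcc' h0' hh h hc1)).1
    have hv' : (v * h0' * v⁻¹) • a = a := by rw [hvinv, mul_smul, mul_smul, ← hcdef, h, hcdef, vv]
    have := hii _ (qm h0' hh v vm) hv'
    rw [hvinv, mul_smul, mul_smul, show v • c = a from vv a] at this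
    exact hha (smul_left_cancel v (this.trans hcdef))
  set ε := h0' * e * h0'⁻¹
  have himg : ∀ g ∈ Qk G adj m, g • a ≠ a → g • a = h0' • a := fun g hg hga =>
    D.same_image (qfix g hg n hmn) (qfix h0' hh n hmn) (mem_Qk.1 hg).1 (mem_Qk.1 hh).1 (D.symm hmn) hna
      ham.symm hga hha
  have hε : ∀ g ∈ Qk G adj m, g • a ≠ a → g * e * g⁻¹ = ε := by
    intro g hg hga
    have := hall (h0'⁻¹ * g) (Subgroup.mul_mem _ (Subgroup.inv_mem _ hh) hg)
      (by rw [mul_smul, himg g hg hga, inv_smul_smul])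
    calc g * e * g⁻¹ = h0' * ((h0'⁻¹ * g) * e * (h0'⁻¹ * g)⁻¹) * h0'⁻¹ := by group
      _ = ε := by rw [this]
  have hεA : ε ∈ EBall G adj isB 2 (h0' • a) := conj_mem_EBall D h0' heA
  have hw2 : Within adj 2 a (h0' • a) :=
    Within.head (D.symm hna) (Within.single (D.smul_adj (qfix h0' hh n hmn) hna))
  have hcee : e * ε = ε * e := P.dist.comm_EBall heA hεA hw2 (by omega)
  set y := e * ε with hydef
  have hconj : ∀ g, g * y * g⁻¹ = (g * e * g⁻¹) * (g * ε * g⁻¹) := fun g => by simp only [y]; group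
  have hyQ : ∀ g ∈ Qk G adj m, g * y * g⁻¹ = y := by
    intro g hg
    rw [hconj]
    have hgε : g * ε * g⁻¹ = (g * h0') * e * (g * h0')⁻¹ := by simp only [ε]; group
    have hgh := Subgroup.mul_mem _ hg hh
    obtain ⟨a₂, ha₂, hma₂, haa₂⟩ := D.third (D.symm hmn) hna ham.symm
    have e1 : h0' • a = a₂ := (D.eq_third (qfix h0' hh n hmn) (mem_Qk.1 hh).1 (D.symm hmn) hna ha₂
      ham.symm hma₂ haa₂ hha).1
    by_cases hga : g • a = a
    · have h1 : (g * h0') • a ≠ a := by
        rw [mul_smul, e1, D.fix_third (qfix g hg n hmn) (mem_Qk.1 hg).1 hga (D.symm hmn) hna ham.symm ha₂]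
        exact haa₂.symm
      rw [hgε, hall g hg hga, hε _ hgh h1]
    · have h1 : (g * h0') • a = a := by
        rw [mul_smul, e1, (D.eq_third (qfix g hg n hmn) (mem_Qk.1 hg).1 (D.symm hmn) hna ha₂
          ham.symm hma₂ haa₂ hga).2]
      rw [hgε, hε g hg hga, hall _ hgh h1, ← hcee]
  have hyv : v * y * v⁻¹ = y := by
    have h1 : (v * h0' * v⁻¹) • a ≠ a := by
      rw [hvinv, mul_smul, mul_smul, ← hcdef]
      exact fun h => hhc (smul_left_cancel v (h.trans (vv a).symm))
    have := hε _ (qm h0' hh v vm) h1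
    rw [vev] at this
    rw [hconj, ecv, this]
  have hyu : u * y * u⁻¹ = y := by
    have h1 : (u * h0' * u⁻¹) • a ≠ a := by
      rw [huinv, mul_smul, mul_smul, ua]
      exact fun h => hha (smul_left_cancel u (h.trans ua.symm))
    have := hε _ (qm h0' hh u um) h1
    rw [ueu] at this
    rw [hconj, ecu, this]
  have hyall : ∀ t : G, t • m = m → t * y = y * t := by
    intro t ht
    have := D.stab_le hmn' (H := Subgroup.centralizer ({y} : Set G)) (fun s hsm hsn => ?_)
      (g := u) ?_ um (fun h => hn'o (h.symm.trans eun')) ht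
    · exact (Subgroup.mem_centralizer_iff.1 this y rfl).symm
    · refine Subgroup.mem_centralizer_iff.2 ?_
      rintro _ rfl
      refine (mul_inv_eq_iff_eq_mul.1 ?_).symm
      by_cases hsn' : s • n = n
      · exact hyQ s (D.mem_Qk_of_two hsm hsn hsn' hmn' hmn hnn'.symm)
      have e1 := D.same_image hsm vm hsn vn' hmn' hmn hnn'.symm hsn' hpm
      have h2 := hyQ (v⁻¹ * s) (D.mem_Qk_of_two (by rw [mul_smul, hsm, inv_fix vm])
        (by rw [mul_smul, hsn, inv_fix vn']) (by rw [mul_smul, e1, inv_smul_smul]) hmn' hmn hnn'.symm)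
      calc s * y * s⁻¹ = v * ((v⁻¹ * s) * y * (v⁻¹ * s)⁻¹) * v⁻¹ := by group
        _ = y := by rw [h2, hyv]
    · refine Subgroup.mem_centralizer_iff.2 ?_
      rintro _ rfl
      exact (mul_inv_eq_iff_eq_mul.1 hyu).symm
  have hεε : ε * ε = 1 := by
    calc ε * ε = h0' * (e * e) * h0'⁻¹ := by simp only [ε]; group
      _ = 1 := by rw [P.ev_sq hf]; group
  have hyy : y * y = 1 := by
    calc y * y = e * (ε * e) * ε := by simp only [y]; group
      _ = e * (e * ε) * ε := by rw [show ε * e = e * ε from hcee.symm]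
      _ = (e * e) * (ε * ε) := by group
      _ = 1 := by rw [P.ev_sq hf, hεε, one_mul]
  have hem : e • m = m :=
    P.dist.fix_EBall heA (Within.head (D.symm hna) (Within.single (D.symm hmn))) (by omega)
  have hεm : ε • m = m := by
    simp only [ε, mul_smul, inv_fix (mem_Qk.1 hh).1, hem, (mem_Qk.1 hh).1]
  have hyE : y ∈ Ec G m := ⟨by rw [hydef, mul_smul, hεm, hem], hyy, hyall⟩
  have hyB : y ∈ EBall G adj isB 2 (h0' • a) := mem_EBall hmB
    (Within.head (D.symm (D.smul_adj (qfix h0' hh n hmn) hna)) (Within.single (D.symm hmn))) hyE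
  have : e ∈ EBall G adj isB 2 (h0' • a) := by
    have := Subgroup.mul_mem _ hyB (Subgroup.inv_mem _ hεA)
    rwa [hydef, mul_inv_cancel_right] at this
  exact hne (P.mem_Z_of_mem hnA hna (D.smul_adj (qfix h0' hh n hmn) hna) (Ne.symm hha) heA this)

end Odd3

end CfsgLib.LocalEven.GoldBound
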