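import Mathlib
import Cfsg.Agent.Lib.PGroups.Basic

/-!
A group acting on a cubic bipartite graph: the basic vocabulary (edge groups, kernels, walks).
-/

set_option autoImplicit false
set_option linter.unusedSectionVars false
set_option linter.style.haveILetI false
set_option linter.unusedVariables false

namespace CfsgLib.LocalEven.GoldBound

variable {G : Type*} [Group G] {V : Type*} [MulAction G V]

/-- The stabilizer of the two ends of an edge. -/
def Ed (G : Type*) [Group G] {V : Type*} [MulAction G V] (u v : V) : Subgroup G :=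
  MulAction.stabilizer G u ⊓ MulAction.stabilizer G v

theorem mem_Ed {g : G} {u v : V} : g ∈ Ed G u v ↔ g • u = u ∧ g • v = v := Iff.rfl

theorem Ed_comm (u v : V) : Ed G u v = Ed G v u := inf_comm _ _

/-- The kernel of the action of a vertex stabilizer on the neighbours. -/
def Qk (G : Type*) [Group G] {V : Type*} [MulAction G V] (adj : V → V → Prop) (v : V) : Subgroup G :=
  MulAction.stabilizer G v ⊓ ⨅ w, ⨅ (_ : adj v w), MulAction.stabilizer G w

theorem mem_Qk {adj : V → V → Prop} {g : G} {v : V} :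
    g ∈ Qk G adj v ↔ g • v = v ∧ ∀ w, adj v w → g • w = w := by
  simp [Qk, Subgroup.mem_iInf]

/-- Joined by a walk of length at most `n`. -/
def Within (adj : V → V → Prop) : ℕ → V → V → Prop
  | 0, u, w => u = w
  | n + 1, u, w => u = w ∨ ∃ x, adj u x ∧ Within adj n x w

/-- The elements fixing everything within `n` of `v`. -/
def Fix (G : Type*) [Group G] {V : Type*} [MulAction G V] (adj : V → V → Prop) (n : ℕ) (v : V) :
    Subgroup G :=
  ⨅ w, ⨅ (_ : Within adj n v w), MulAction.stabilizer G w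

theorem mem_Fix {adj : V → V → Prop} {g : G} {n : ℕ} {v : V} :
    g ∈ Fix G adj n v ↔ ∀ w, Within adj n v w → g • w = w := by
  simp [Fix, Subgroup.mem_iInf]

/-- A walk of length `n` without backtracking. -/
def Wk (adj : V → V → Prop) (n : ℕ) (f : ℕ → V) : Prop :=
  (∀ i, i < n → adj (f i) (f (i + 1))) ∧ ∀ i, i + 2 ≤ n → f i ≠ f (i + 2)

/-- Prepend a vertex. -/
def cons (x : V) (f : ℕ → V) : ℕ → V
  | 0 => x
  | i + 1 => f i

@[simp] theorem cons_zero (x : V) (f : ℕ → V) : cons x f 0 = x := rfl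
@[simp] theorem cons_succ (x : V) (f : ℕ → V) (i : ℕ) : cons x f (i + 1) = f i := rfl

/-- The hypotheses on the action: a connected cubic bipartite graph. -/
structure Tri (G : Type*) [Group G] {V : Type*} [MulAction G V] (adj : V → V → Prop)
    (isB : V → Prop) : Prop where
  symm : ∀ {u v : V}, adj u v → adj v u
  alt : ∀ {u v : V}, adj u v → (isB u ↔ ¬ isB v)
  smul : ∀ (g : G) {u v : V}, adj u v → adj (g • u) (g • v)
  isB_smul : ∀ (g : G) (v : V), isB (g • v) ↔ isB v
  conn : ∀ u v : V, Relation.ReflTransGen adj u v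
  faithful : ∀ g : G, (∀ v : V, g • v = v) → g = 1
  finite : ∀ v : V, Finite (MulAction.stabilizer G v)
  three : ∀ v : V, ∃ a b c, a ≠ b ∧ a ≠ c ∧ b ≠ c ∧ adj v a ∧ adj v b ∧ adj v c ∧
    ∀ u, adj v u → u = a ∨ u = b ∨ u = c
  trans : ∀ {v a b : V}, adj v a → adj v b → ∃ g : G, g • v = v ∧ g • a = b
  edge_trans : ∀ {u v u' v' : V}, isB u → isB u' → adj u v → adj u' v' →
    ∃ g : G, g • u = u' ∧ g • v = v'
  pgroup : ∀ {u v : V}, adj u v → IsPGroup 2 (Ed G u v)
  swap : ∀ {v a b c : V}, adj v a → adj v b → adj v c → a ≠ b → a ≠ c → b ≠ c →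
    ∃ g : G, g • v = v ∧ g • a = a ∧ g • b = c

variable {adj : V → V → Prop} {isB : V → Prop}

theorem inv_fix {g : G} {v : V} (h : g • v = v) : g⁻¹ • v = v := by rw [inv_smul_eq_iff, h]

theorem conj_smul_smul (g h : G) (v : V) : (g * h * g⁻¹) • (g • v) = g • (h • v) := by
  simp [mul_smul]

namespace Within

theorem refl : ∀ (n : ℕ) (u : V), Within adj n u u
  | 0, _ => rfl
  | _ + 1, _ => Or.inl rfl

theorem succ : ∀ {n : ℕ} {u w : V}, Within adj n u w → Within adj (n + 1) u w
  | 0, _, _, h => Or.inl h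
  | _ + 1, _, _, Or.inl h => Or.inl h
  | _ + 1, _, _, Or.inr ⟨x, hx, h⟩ => Or.inr ⟨x, hx, h.succ⟩

theorem mono {n : ℕ} {u w : V} (h : Within adj n u w) : ∀ {m : ℕ}, n ≤ m → Within adj m u w := by
  intro m hm
  induction hm with
  | refl => exact h
  | step _ ih => exact ih.succ

theorem trans : ∀ {n m : ℕ} {u v w : V}, Within adj n u v → Within adj m v w →
    Within adj (n + m) u w
  | 0, _, _, _, _, h, h' => by rw [Nat.zero_add, show _ = _ from h]; exact h'
  | _ + 1, _, _, _, _, Or.inl h, h' => by rw [h]; exact h'.mono (by omega)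
  | n + 1, m, _, _, _, Or.inr ⟨x, hx, h⟩, h' => by
    rw [Nat.add_right_comm]
    exact Or.inr ⟨x, hx, h.trans h'⟩

theorem single {u w : V} (h : adj u w) : Within adj 1 u w := Or.inr ⟨w, h, rfl⟩

theorem tail {n : ℕ} {u v w : V} (h : Within adj n u v) (h' : adj v w) : Within adj (n + 1) u w :=
  h.trans (single h')

theorem head {n : ℕ} {u v w : V} (h : adj u v) (h' : Within adj n v w) : Within adj (n + 1) u w :=
  Or.inr ⟨v, h, h'⟩

theorem symm (D : Tri G adj isB) : ∀ {n : ℕ} {u w : V}, Within adj n u w → Within adj n w u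
  | 0, _, _, h => Eq.symm h
  | _ + 1, _, _, Or.inl h => Or.inl (Eq.symm h)
  | _ + 1, _, _, Or.inr ⟨_, hx, h⟩ => (Within.symm D h).tail (D.symm hx)

theorem smul (D : Tri G adj isB) (g : G) :
    ∀ {n : ℕ} {u w : V}, Within adj n u w → Within adj n (g • u) (g • w)
  | 0, _, _, h => congrArg (g • ·) h
  | _ + 1, _, _, Or.inl h => Or.inl (congrArg (g • ·) h)
  | _ + 1, _, _, Or.inr ⟨_, hx, h⟩ => Or.inr ⟨_, D.smul g hx, h.smul D g⟩

theorem exists_of_conn (D : Tri G adj isB) (u w : V) : ∃ n, Within adj n u w := by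
  induction D.conn u w with
  | refl => exact ⟨0, rfl⟩
  | tail _ h ih => obtain ⟨n, hn⟩ := ih; exact ⟨n + 1, hn.tail h⟩

/-- A vertex within `n` is the end of a walk of length at most `n` without backtracking. -/
theorem exists_walk (D : Tri G adj isB) : ∀ {n : ℕ} {u w : V}, Within adj n u w →
    ∃ m, m ≤ n ∧ ∃ f : ℕ → V, Wk adj m f ∧ f 0 = u ∧ f m = w
  | 0, u, _, h => ⟨0, le_rfl, fun _ => u, ⟨fun i hi => absurd hi (by omega),
      fun i hi => absurd hi (by omega)⟩, rfl, h⟩
  | n + 1, u, _, Or.inl h => ⟨0, by omega, fun _ => u, ⟨fun i hi => absurd hi (by omega),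
      fun i hi => absurd hi (by omega)⟩, rfl, h⟩
  | n + 1, u, w, Or.inr ⟨x, hx, h⟩ => by
    obtain ⟨m, hm, f, ⟨hf, hf'⟩, h0, he⟩ := h.exists_walk D
    by_cases hb : 1 ≤ m ∧ f 1 = u
    · refine ⟨m - 1, by omega, fun i => f (i + 1), ⟨fun i hi => hf (i + 1) (by omega),
        fun i hi => hf' (i + 1) (by omega)⟩, hb.2, ?_⟩
      show f (m - 1 + 1) = w
      rw [Nat.sub_add_cancel hb.1, he]
    · refine ⟨m + 1, by omega, cons u f, ⟨?_, ?_⟩, rfl, he⟩
      · rintro (_ | i) hi
        · simpa [h0] using hx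
        · exact hf i (by omega)
      · rintro (_ | i) hi
        · exact fun e => hb ⟨by omega, e.symm⟩
        · exact hf' i (by omega)

end Within

namespace Wk

variable {n : ℕ} {f : ℕ → V}

theorem adj_at (h : Wk adj n f) (i : ℕ) (hi : i + 1 ≤ n) : adj (f i) (f (i + 1)) := h.1 i hi

theorem ne_at (h : Wk adj n f) (i : ℕ) (hi : i + 2 ≤ n) : f i ≠ f (i + 2) := h.2 i hi

theorem mono (h : Wk adj n f) {m : ℕ} (hm : m ≤ n) : Wk adj m f :=
  ⟨fun i hi => h.1 i (by omega), fun i hi => h.2 i (by omega)⟩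

theorem shift (h : Wk adj n f) (k m : ℕ) (hm : k + m ≤ n) : Wk adj m fun i => f (k + i) :=
  ⟨fun i hi => h.1 (k + i) (by omega), fun i hi => h.2 (k + i) (by omega)⟩

theorem rev (D : Tri G adj isB) (h : Wk adj n f) : Wk adj n fun i => f (n - i) := by
  refine ⟨fun i hi => ?_, fun i hi => ?_⟩
  · have := h.1 (n - (i + 1)) (by omega)
    rw [show n - (i + 1) + 1 = n - i by omega] at this
    exact D.symm this
  · have := h.2 (n - (i + 2)) (by omega)
    rw [show n - (i + 2) + 2 = n - i by omega] at this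
    exact this.symm

theorem map (D : Tri G adj isB) (g : G) (h : Wk adj n f) : Wk adj n fun i => g • f i :=
  ⟨fun i hi => D.smul g (h.1 i hi), fun i hi e => h.2 i hi (smul_left_cancel g e)⟩

theorem congr (h : Wk adj n f) {f' : ℕ → V} (he : ∀ i, i ≤ n → f' i = f i) : Wk adj n f' :=
  ⟨fun i hi => by rw [he i (by omega), he (i + 1) (by omega)]; exact h.1 i hi,
    fun i hi => by rw [he i (by omega), he (i + 2) (by omega)]; exact h.2 i hi⟩

theorem cons_walk {x : V} (h : Wk adj n f) (hx : adj x (f 0)) (hne : 1 ≤ n → x ≠ f 1) :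
    Wk adj (n + 1) (cons x f) := by
  refine ⟨?_, ?_⟩
  · rintro (_ | i) hi
    · exact hx
    · exact h.1 i (by omega)
  · rintro (_ | i) hi
    · exact hne (by omega)
    · exact h.2 i (by omega)

theorem within (D : Tri G adj isB) (h : Wk adj n f) {i j k : ℕ} (hi : i ≤ n) (hj : j ≤ n)
    (h1 : j ≤ i + k) (h2 : i ≤ j + k) : Within adj k (f i) (f j) := by
  have key : ∀ d i, i + d ≤ n → Within adj d (f i) (f (i + d)) := by
    intro d
    induction d with
    | zero => intro i _; rfl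
    | succ d ih => exact fun i hd => (ih i (by omega)).tail (h.1 (i + d) (by omega))
  rcases le_total i j with hij | hij
  · obtain ⟨d, rfl⟩ := Nat.le.dest hij
    exact (key d i hj).mono (by omega)
  · obtain ⟨d, rfl⟩ := Nat.le.dest hij
    exact (Within.symm D (key d j hi)).mono (by omega)

theorem isB_iff (D : Tri G adj isB) (h : Wk adj n f) :
    ∀ {i : ℕ}, i ≤ n → (isB (f i) ↔ (isB (f 0) ↔ i % 2 = 0)) := by
  intro i
  induction i with
  | zero => intro _; simp
  | succ i ih =>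
    intro hi
    have := D.alt (h.1 i (by omega))
    rcases Nat.mod_two_eq_zero_or_one i with e | e
    · rw [ih (by omega)] at this
      simp only [show (i + 1) % 2 ≠ 0 by omega, e] at this ⊢
      tauto
    · rw [ih (by omega)] at this
      simp only [show i % 2 ≠ 0 by omega, show (i + 1) % 2 = 0 by omega] at this ⊢
      tauto

theorem isB_even (D : Tri G adj isB) (h : Wk adj n f) (h0 : isB (f 0)) {i : ℕ} (hi : i ≤ n)
    (he : i % 2 = 0) : isB (f i) := (h.isB_iff D hi).2 (iff_of_true h0 he)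

theorem not_isB_odd (D : Tri G adj isB) (h : Wk adj n f) (h0 : isB (f 0)) {i : ℕ} (hi : i ≤ n)
    (he : i % 2 = 1) : ¬ isB (f i) := fun hb => by
  have := ((h.isB_iff D hi).1 hb).1 h0
  omega

end Wk

/-- A subgroup which lies in a bigger one with index at most two. -/
theorem card_le_two_mul {H K : Subgroup G} [Finite H] (hle : K ≤ H)
    (h : ∀ x y : G, x ∈ H → y ∈ H → x ∉ K → y ∉ K → x⁻¹ * y ∈ K) :
    Nat.card H ≤ 2 * Nat.card K := by
  by_cases hHK : H ≤ K
  · rw [le_antisymm hle hHK]; omega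
  obtain ⟨a, ha, haK⟩ := SetLike.not_le_iff_exists.1 hHK
  have hi : (K.subgroupOf H).index = 2 := by
    refine Subgroup.index_eq_two_iff.2 ⟨⟨a, ha⟩⁻¹, fun b => ?_⟩
    simp only [Subgroup.mem_subgroupOf, Subgroup.coe_mul, Subgroup.coe_inv]
    by_cases hb : (b : G) ∈ K
    · exact Or.inr ⟨hb, fun hba => haK (by
        have := K.mul_mem (K.inv_mem hb) hba
        simpa using this)⟩
    · refine Or.inl ⟨?_, hb⟩
      simpa using h ((b : G))⁻¹ a⁻¹ (H.inv_mem b.2) (H.inv_mem ha) (by simpa using hb)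
        (by simpa using haK)
  have := (K.subgroupOf H).card_mul_index
  rw [hi, Nat.card_congr (Subgroup.subgroupOfEquivOfLe hle).toEquiv] at this
  omega

variable (D : Tri G adj isB)
include D

namespace Tri

theorem isB_of_adj {a α : V} (hα : ¬ isB α) (h : adj α a) : isB a := (D.alt (D.symm h)).2 hα

theorem not_isB_of_adj {a α : V} (hα : isB α) (h : adj α a) : ¬ isB a := (D.alt h).1 hα

theorem adj_ne {u v : V} (h : adj u v) : u ≠ v := by
  rintro rfl
  exact iff_not_self (D.alt h)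

theorem smul_adj {g : G} {v a : V} (hv : g • v = v) (h : adj v a) : adj v (g • a) := by
  have := D.smul g h
  rwa [hv] at this

theorem exists_others {v a : V} (h : adj v a) :
    ∃ b c, adj v b ∧ adj v c ∧ a ≠ b ∧ a ≠ c ∧ b ≠ c := by
  obtain ⟨x, y, z, h1, h2, h3, hx, hy, hz, hall⟩ := D.three v
  rcases hall a h with rfl | rfl | rfl
  · exact ⟨y, z, hy, hz, h1, h2, h3⟩
  · exact ⟨x, z, hx, hz, h1.symm, h3, h2⟩
  · exact ⟨x, y, hx, hy, h2.symm, h3.symm, h1⟩

theorem cover {v a b c x : V} (ha : adj v a) (hb : adj v b) (hc : adj v c) (hx : adj v x)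
    (hab : a ≠ b) (hac : a ≠ c) (hbc : b ≠ c) : x = a ∨ x = b ∨ x = c := by
  obtain ⟨p, q, r, _, _, _, _, _, _, hall⟩ := D.three v
  rcases hall a ha with rfl | rfl | rfl <;> rcases hall b hb with rfl | rfl | rfl <;>
    rcases hall c hc with rfl | rfl | rfl <;> rcases hall x hx with rfl | rfl | rfl <;> tauto

theorem third {v a b : V} (ha : adj v a) (hb : adj v b) (hab : a ≠ b) :
    ∃ c, adj v c ∧ a ≠ c ∧ b ≠ c := by
  obtain ⟨x, y, hx, hy, h1, h2, h3⟩ := D.exists_others ha
  by_cases e : b = x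
  · exact ⟨y, hy, h2, e ▸ h3⟩
  · exact ⟨x, hx, h1, e⟩

theorem third_unique {v a b x y : V} (ha : adj v a) (hb : adj v b) (hx : adj v x) (hy : adj v y)
    (hab : a ≠ b) (hxa : x ≠ a) (hxb : x ≠ b) (hya : y ≠ a) (hyb : y ≠ b) : y = x := by
  rcases D.cover ha hb hx hy hab hxa.symm hxb.symm with e | e | e
  · exact absurd e hya
  · exact absurd e hyb
  · exact e

theorem eq_third {g : G} {v a b c : V} (hv : g • v = v) (hga : g • a = a) (ha : adj v a)
    (hb : adj v b) (hc : adj v c) (hab : a ≠ b) (hac : a ≠ c) (hbc : b ≠ c) (hgb : g • b ≠ b) :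
    g • b = c ∧ g • c = b := by
  have key : ∀ x, adj v x → x ≠ a → g • x ≠ a := fun x _ hxa e =>
    hxa (smul_left_cancel g (e.trans hga.symm))
  have h1 : g • b = c := D.third_unique ha hb hc (D.smul_adj hv hb) hab hac.symm hbc.symm
    (key b hb hab.symm) hgb
  refine ⟨h1, D.third_unique ha hc hb (D.smul_adj hv hc) hac hab.symm hbc
    (key c hc hac.symm) fun e => ?_⟩
  exact hgb ((smul_left_cancel g (h1.trans e.symm)).symm ▸ e |>.trans rfl)

theorem fix_third {g : G} {v a b x : V} (hv : g • v = v) (hga : g • a = a) (hgb : g • b = b)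
    (ha : adj v a) (hb : adj v b) (hab : a ≠ b) (hx : adj v x) : g • x = x := by
  by_cases hxa : x = a
  · rw [hxa, hga]
  by_cases hxb : x = b
  · rw [hxb, hgb]
  exact D.third_unique ha hb hx (D.smul_adj hv hx) hab hxa hxb
    (fun e => hxa (smul_left_cancel g (e.trans hga.symm)))
    (fun e => hxb (smul_left_cancel g (e.trans hgb.symm)))

theorem mem_Qk_of_two {g : G} {v a b : V} (hv : g • v = v) (hga : g • a = a) (hgb : g • b = b)
    (ha : adj v a) (hb : adj v b) (hab : a ≠ b) : g ∈ Qk G adj v :=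
  mem_Qk.2 ⟨hv, fun _ hx => D.fix_third hv hga hgb ha hb hab hx⟩

theorem same_image {g h : G} {v a b : V} (hgv : g • v = v) (hhv : h • v = v) (hga : g • a = a)
    (hha : h • a = a) (ha : adj v a) (hb : adj v b) (hab : a ≠ b) (hgb : g • b ≠ b)
    (hhb : h • b ≠ b) : g • b = h • b := by
  obtain ⟨c, hc, hac, hbc⟩ := D.third ha hb hab
  rw [(D.eq_third hgv hga ha hb hc hab hac hbc hgb).1, (D.eq_third hhv hha ha hb hc hab hac hbc hhb).1]

/-- An element of the edge group moving another neighbour. -/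
theorem exists_move {v a b : V} (ha : adj v a) (hb : adj v b) (hab : a ≠ b) :
    ∃ g : G, g • v = v ∧ g • a = a ∧ g • b ≠ b := by
  obtain ⟨c, hc, hac, hbc⟩ := D.third ha hb hab
  obtain ⟨g, h1, h2, h3⟩ := D.swap ha hb hc hab hac hbc
  exact ⟨g, h1, h2, h3.symm ▸ hbc.symm⟩

theorem trans_pair {v a b a' b' : V} (ha : adj v a) (hb : adj v b) (ha' : adj v a')
    (hb' : adj v b') (hab : a ≠ b) (hab' : a' ≠ b') :
    ∃ g : G, g • v = v ∧ g • a = a' ∧ g • b = b' := by
  obtain ⟨g, hgv, hga⟩ := D.trans ha ha'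
  by_cases e : g • b = b'
  · exact ⟨g, hgv, hga, e⟩
  obtain ⟨h, hhv, hha, hhb⟩ := D.swap ha' (D.smul_adj hgv hb) hb'
    (fun e' => hab (smul_left_cancel g (hga.trans e'))) hab' e
  exact ⟨h * g, by rw [mul_smul, hgv, hhv], by rw [mul_smul, hga, hha], by rw [mul_smul, hhb]⟩

/-- A subgroup containing an edge group and moving the edge contains the vertex stabilizer. -/
theorem stab_le {v a : V} (ha : adj v a) {H : Subgroup G}
    (hH : ∀ t : G, t • v = v → t • a = a → t ∈ H) {g : G} (hg : g ∈ H) (hgv : g • v = v)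
    (hga : g • a ≠ a) {k : G} (hk : k • v = v) : k ∈ H := by
  have key : ∀ h ∈ H, h • v = v → h • a = k • a → k ∈ H := by
    intro h hh hhv e
    have := H.mul_mem hh (hH (h⁻¹ * k) (by rw [mul_smul, hk, inv_fix hhv])
      (by rw [mul_smul, ← e, inv_smul_smul]))
    simpa using this
  by_cases e1 : k • a = a
  · exact hH k hk e1
  by_cases e2 : k • a = g • a
  · exact key g hg hgv e2.symm
  obtain ⟨t, htv, hta, htb⟩ := D.swap ha (D.smul_adj hgv ha) (D.smul_adj hk ha) (Ne.symm hga)
    (Ne.symm e1) (Ne.symm e2)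
  exact key (t * g) (H.mul_mem (hH t htv hta) hg) (by rw [mul_smul, hgv, htv])
    (by rw [mul_smul, htb])

theorem finite_le {v : V} {H : Subgroup G} (h : H ≤ MulAction.stabilizer G v) : Finite H :=
  haveI := D.finite v
  Finite.of_injective _ (Subgroup.inclusion_injective h)

/-- A group fixing an edge has index at most two over the stabilizer of a further neighbour. -/
theorem card_stab {v a : V} (ha : adj v a) {H : Subgroup G} (hv : ∀ g ∈ H, g • v = v)
    (hga : ∀ g ∈ H, g • a = a) {b : V} (hb : adj v b) (hab : a ≠ b) :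
    Nat.card H ≤ 2 * Nat.card ↥(H ⊓ MulAction.stabilizer G b) := by
  haveI := D.finite_le (H := H) (v := v) hv
  refine card_le_two_mul inf_le_left fun x y hx hy hxK hyK => ⟨H.mul_mem (H.inv_mem hx) hy, ?_⟩
  show (x⁻¹ * y) • b = b
  rw [mul_smul, inv_smul_eq_iff, D.same_image (hv y hy) (hv x hx) (hga y hy) (hga x hx) ha hb hab
    (fun e => hyK ⟨hy, e⟩) fun e => hxK ⟨hx, e⟩]

/-- A subgroup of an edge group normalized by both stabilizers is trivial. -/
theorem eq_bot {u v : V} (h : adj u v) {N : Subgroup G} (hN : ∀ n ∈ N, n • u = u ∧ n • v = v)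
    (hu : ∀ g : G, g • u = u → ∀ n ∈ N, g * n * g⁻¹ ∈ N)
    (hv : ∀ g : G, g • v = v → ∀ n ∈ N, g * n * g⁻¹ ∈ N) : N = ⊥ := by
  have hall : ∀ w, ∃ g : G, (∀ n ∈ N, g⁻¹ * n * g ∈ N) ∧ (w = g • u ∨ w = g • v) := by
    intro w
    induction D.conn u w with
    | refl => exact ⟨1, by simp, Or.inl (one_smul G u).symm⟩
    | @tail x y _ hxy ih =>
      obtain ⟨g, hg, rfl | rfl⟩ := ih <;> have hy := D.smul g⁻¹ hxy <;> rw [inv_smul_smul] at hy
      · obtain ⟨k, hk, hke⟩ := D.trans h hy
        refine ⟨g * k, fun n hn => ?_, Or.inr ?_⟩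
        · have := hu k⁻¹ (inv_fix hk) _ (hg n hn)
          simpa [mul_assoc] using this
        · rw [mul_smul, hke, smul_inv_smul]
      · obtain ⟨k, hk, hke⟩ := D.trans (D.symm h) hy
        refine ⟨g * k, fun n hn => ?_, Or.inl ?_⟩
        · have := hv k⁻¹ (inv_fix hk) _ (hg n hn)
          simpa [mul_assoc] using this
        · rw [mul_smul, hke, smul_inv_smul]
  refine (Subgroup.eq_bot_iff_forall N).2 fun n hn => D.faithful n fun w => ?_
  obtain ⟨g, hg, hw⟩ := hall w
  have hfix := hN _ (hg n hn)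
  rcases hw with rfl | rfl
  · have := congrArg (g • ·) hfix.1
    simpa [smul_smul, ← mul_assoc] using this
  · have := congrArg (g • ·) hfix.2
    simpa [smul_smul, ← mul_assoc] using this

theorem conj_mem_Qk {g q : G} {v : V} (hg : g • v = v) (hq : q ∈ Qk G adj v) :
    g * q * g⁻¹ ∈ Qk G adj v := by
  rw [mem_Qk] at hq ⊢
  refine ⟨by rw [mul_smul, inv_fix hg, mul_smul, hq.1, hg], fun w hw => ?_⟩
  rw [mul_smul, mul_smul, hq.2 _ (D.smul_adj (inv_fix hg) hw), smul_inv_smul]

theorem conj_mem_Fix {g q : G} {v : V} {n : ℕ} (hq : q ∈ Fix G adj n v) :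
    g * q * g⁻¹ ∈ Fix G adj n (g • v) := by
  rw [mem_Fix] at hq ⊢
  intro w hw
  have h' := hw.smul D g⁻¹
  rw [inv_smul_smul] at h'
  rw [mul_smul, mul_smul, hq _ h', smul_inv_smul]

end Tri

end CfsgLib.LocalEven.GoldBound
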