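import Cfsg.Agent.Lib.LocalEven.GoldBound.Abstract
import Cfsg.Agent.Lib.LocalEven.S3Amalgam.Main

/-!
The order bound for amalgams of index three in both members.
-/

set_option autoImplicit false
set_option linter.unusedSectionVars false
set_option linter.style.haveILetI false
set_option linter.unusedVariables false

namespace CfsgLib.LocalEven.GoldBound

open Cfsg

variable {X : Type*} [Group X] {M₁ M₂ : Subgroup X}

/-- Both residues are symmetric of degree three. -/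
structure Pre (M₁ M₂ : Subgroup X) : Prop where
  gen : M₁ ⊔ M₂ = ⊤
  fin₁ : Finite M₁
  fin₂ : Finite M₂
  two : IsPGroup 2 ↥(M₁ ⊓ M₂)
  card₁ : Nat.card M₁ = 3 * Nat.card ↥(M₁ ⊓ M₂)
  card₂ : Nat.card M₂ = 3 * Nat.card ↥(M₁ ⊓ M₂)
  core₁ : Nat.card ↥(M₁ ⊓ M₂) = 2 * Nat.card ↥(pCoreOf 2 M₁)
  core₂ : Nat.card ↥(M₁ ⊓ M₂) = 2 * Nat.card ↥(pCoreOf 2 M₂)
  free : ∀ N : Subgroup X, N ≤ M₁ ⊓ M₂ → N.Normal → N = ⊥

local notation "V" => CosetVertex M₁ M₂
local notation "Adj" => SimpleGraph.Adj (cosetGraph M₁ M₂)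
local notation "St" => MulAction.stabilizer X

theorem Pre.finite (h : Pre M₁ M₂) (δ : V) : Finite (St δ) := by
  haveI := h.fin₁
  haveI := h.fin₂
  rcases δ with d | d <;> induction d using QuotientGroup.induction_on with
  | H x =>
    first
      | (rw [stabilizer_inl]
         exact Finite.of_equiv _ (Subgroup.equivMapOfInjective M₁ _ (MulAut.conj x).injective).toEquiv)
      | (rw [stabilizer_inr]
         exact Finite.of_equiv _ (Subgroup.equivMapOfInjective M₂ _ (MulAut.conj x).injective).toEquiv)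

theorem Pre.finite_le (h : Pre M₁ M₂) {δ : V} {H : Subgroup X} (hle : H ≤ St δ) : Finite H :=
  haveI := h.finite δ
  Finite.of_injective _ (Subgroup.inclusion_injective hle)

theorem Pre.edge (h : Pre M₁ M₂) {δ μ : V} (hadj : Adj δ μ) :
    IsPGroup 2 ↥(Ed X δ μ) ∧ Nat.card (St δ) = 3 * Nat.card ↥(Ed X δ μ) ∧
      Nat.card ↥(Ed X δ μ) = 2 * Nat.card ↥(pCoreOf 2 (St δ)) := by
  have key : ∀ (g : X) (a b : V) (A B : Subgroup X), St a = A → St b = B →
      IsPGroup 2 ↥(A ⊓ B) → Nat.card A = 3 * Nat.card ↥(A ⊓ B) →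
      Nat.card ↥(A ⊓ B) = 2 * Nat.card ↥(pCoreOf 2 A) →
      IsPGroup 2 ↥(Ed X (g • a) (g • b)) ∧
      Nat.card (St (g • a)) = 3 * Nat.card ↥(Ed X (g • a) (g • b)) ∧
      Nat.card ↥(Ed X (g • a) (g • b)) = 2 * Nat.card ↥(pCoreOf 2 (St (g • a))) := by
    intro g a b A B hA hB hp hc hcore
    have hinj : Function.Injective (MulAut.conj g).toMonoidHom := (MulAut.conj g).injective
    rw [Ed, MulAction.stabilizer_smul_eq_stabilizer_map_conj,
      MulAction.stabilizer_smul_eq_stabilizer_map_conj, ← Subgroup.map_inf _ _ _ hinj, hA, hB,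
      ← map_pCoreOf 2 _ hinj]
    refine ⟨hp.map _, ?_, ?_⟩
    · rw [Subgroup.card_map_of_injective hinj, Subgroup.card_map_of_injective hinj, hc]
    · rw [Subgroup.card_map_of_injective hinj, Subgroup.card_map_of_injective hinj, hcore]
  obtain ⟨g, ⟨rfl, rfl⟩ | ⟨rfl, rfl⟩⟩ := exists_smul_of_adj hadj
  · exact key g _ _ _ _ stabilizer_inl_one stabilizer_inr_one h.two h.card₁ h.core₁
  · refine key g _ _ _ _ stabilizer_inr_one stabilizer_inl_one ?_ ?_ ?_ <;> rw [inf_comm]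
    exacts [h.two, h.card₂, h.core₂]

theorem Pre.eq_of_le (h : Pre M₁ M₂) {δ μ ν : V} (hμ : Adj δ μ) (hν : Adj δ ν)
    (hle : Ed X δ μ ≤ Ed X δ ν) : μ = ν := by
  by_contra hne
  haveI := h.finite δ
  haveI : Finite ↥(Ed X δ ν) := h.finite_le (inf_le_left : Ed X δ ν ≤ St δ)
  haveI : Finite ↥(Ed X δ μ) := h.finite_le (inf_le_left : Ed X δ μ ≤ St δ)
  obtain ⟨hp, hc, hq⟩ := h.edge hμ
  obtain ⟨-, hc', -⟩ := h.edge hν
  have heq : Ed X δ μ = Ed X δ ν := Subgroup.eq_of_le_of_card_ge hle (by omega)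
  obtain ⟨g, hg, hgm⟩ := exists_stabilizer_transitive hμ hν
  have hgd : g • δ = δ := hg
  have hgN : g ∈ Subgroup.normalizer (Ed X δ μ : Set X) := by
    refine mem_normalizer_of_conj ?_
    rw [Ed, Subgroup.map_inf _ _ (MulAut.conj g).toMonoidHom (MulAut.conj g).injective,
      ← MulAction.stabilizer_smul_eq_stabilizer_map_conj,
      ← MulAction.stabilizer_smul_eq_stabilizer_map_conj, hgd, hgm]
    exact heq.symm
  set N := St δ ⊓ Subgroup.normalizer (Ed X δ μ : Set X) with hN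
  haveI : Finite ↥N := h.finite_le (inf_le_left : N ≤ St δ)
  have hTN : Ed X δ μ ≤ N := le_inf inf_le_left Subgroup.le_normalizer
  obtain ⟨k, hk⟩ := Subgroup.card_dvd_of_le hTN
  obtain ⟨m, hm⟩ := Subgroup.card_dvd_of_le (inf_le_left : N ≤ St δ)
  have hkm : k * m = 3 := by
    have : Nat.card ↥(Ed X δ μ) * (k * m) = Nat.card ↥(Ed X δ μ) * 3 := by
      rw [← mul_assoc, ← hk, ← hm, hc, mul_comm]
    exact Nat.eq_of_mul_eq_mul_left Nat.card_pos this
  rcases (Nat.dvd_prime Nat.prime_three).1 (Dvd.intro m hkm) with hk1 | hk3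
  · have e : Ed X δ μ = N := Subgroup.eq_of_le_of_card_ge hTN (by rw [hk, hk1, mul_one])
    have : g ∈ Ed X δ μ := e.symm ▸ ⟨hg, hgN⟩
    exact hne ((MulAction.mem_stabilizer_iff.1 this.2).symm.trans hgm)
  · have e : N = St δ := Subgroup.eq_of_le_of_card_ge inf_le_left (by
      have : m = 1 := by subst hk3; omega
      rw [hm, this, mul_one])
    haveI : Finite ↥(pCoreOf 2 (St δ)) := h.finite_le (pCoreOf_le 2 _)
    have := Subgroup.card_le_of_le (le_pCoreOf (show Ed X δ μ ≤ St δ from inf_le_left) (e.ge.trans inf_le_right) hp)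
    have hpos : 0 < Nat.card ↥(pCoreOf 2 (St δ)) := Nat.card_pos
    omega

theorem Pre.ncard (h : Pre M₁ M₂) {δ μ : V} (hadj : Adj δ μ) : {ν : V | Adj δ ν}.ncard = 3 := by
  haveI := h.finite δ
  have horb : MulAction.orbit (St δ) μ = {ν : V | Adj δ ν} := by
    ext ν
    refine ⟨?_, fun hν => ?_⟩
    · rintro ⟨g, rfl⟩
      have := cosetGraph_adj_smul (g : X) hadj
      rwa [MulAction.mem_stabilizer_iff.1 g.2] at this
    · obtain ⟨g, hg, hgm⟩ := exists_stabilizer_transitive hadj hν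
      exact ⟨⟨g, hg⟩, hgm⟩
  rw [← horb]
  refine (MulAction.index_stabilizer (St δ) μ).symm.trans ?_
  have e : MulAction.stabilizer (St δ) μ = (Ed X δ μ).subgroupOf (St δ) := by
    ext g
    rw [Subgroup.mem_subgroupOf]
    exact ⟨fun hg => ⟨g.2, hg⟩, fun hg => hg.2⟩
  rw [e]
  haveI : Finite ↥(Ed X δ μ) := h.finite_le (show Ed X δ μ ≤ St δ from inf_le_left)
  obtain ⟨-, hc, -⟩ := h.edge hadj
  have hmul := Subgroup.card_mul_index ((Ed X δ μ).subgroupOf (St δ))
  rw [CfsgLib.Base.card_subgroupOf (show Ed X δ μ ≤ St δ from inf_le_left), hc, mul_comm 3] at hmul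
  exact Nat.eq_of_mul_eq_mul_left Nat.card_pos hmul

theorem Pre.tri (h : Pre M₁ M₂) (s : Bool) : Tri X (Adj) (fun v : V => Sum.isLeft v = s) where
  symm h := SimpleGraph.Adj.symm h
  alt {u v} huv := by
    obtain ⟨x, ⟨rfl, rfl⟩ | ⟨rfl, rfl⟩⟩ := cosetGraph_adj_iff.1 huv <;> cases s <;> simp
  smul g _ _ huv := cosetGraph_adj_smul g huv
  isB_smul g v := by
    rcases v with v | v <;> exact Iff.rfl
  conn u v := (SimpleGraph.reachable_iff_reflTransGen u v).1 ((cosetGraph_connected h.gen) u v)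
  faithful g hg := by
    have := eq_bot_of_fix_all h.free (T := Subgroup.zpowers g) fun t ht v => by
      have hle : Subgroup.zpowers g ≤ St v := Subgroup.zpowers_le.2 (hg v)
      exact hle ht
    exact Subgroup.zpowers_eq_bot.1 this
  finite := h.finite
  three v := by
    obtain ⟨μ, hμ⟩ := exists_adj v
    obtain ⟨a, b, c, hab, hac, hbc, e⟩ := Set.ncard_eq_three.1 (h.ncard hμ)
    have hmem : ∀ x, Adj v x ↔ x = a ∨ x = b ∨ x = c := fun x => by
      have := Set.ext_iff.1 e x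
      simpa using this
    exact ⟨a, b, c, hab, hac, hbc, (hmem a).2 (Or.inl rfl), (hmem b).2 (Or.inr (Or.inl rfl)),
      (hmem c).2 (Or.inr (Or.inr rfl)), fun u hu => (hmem u).1 hu⟩
  trans {v a b} ha hb := exists_stabilizer_transitive ha hb
  edge_trans {u v u' v'} hu hu' huv hu'v' := by
    obtain ⟨g, hg⟩ := exists_smul_of_adj huv
    obtain ⟨g', hg'⟩ := exists_smul_of_adj hu'v'
    refine ⟨g' * g⁻¹, ?_⟩
    rcases hg with ⟨rfl, rfl⟩ | ⟨rfl, rfl⟩ <;> rcases hg' with ⟨rfl, rfl⟩ | ⟨rfl, rfl⟩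
    · simp [mul_smul]
    · exfalso; simp at hu hu'; simp [hu] at hu'
    · exfalso; simp at hu hu'; simp [hu] at hu'
    · simp [mul_smul]
  pgroup huv := (h.edge huv).1
  swap {v a b c} ha hb hc hab hac hbc := by
    obtain ⟨t, ht, htb⟩ := SetLike.not_le_iff_exists.1 (fun hle => hab (h.eq_of_le ha hb hle))
    have htv : t • v = v := ht.1
    have hta : t • a = a := ht.2
    refine ⟨t, htv, hta, ?_⟩
    have hadj : Adj v (t • b) := by
      have := cosetGraph_adj_smul t hb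
      rwa [htv] at this
    have hn := h.ncard ha
    have hfin : {ν : V | Adj v ν}.Finite := Set.finite_of_ncard_ne_zero (by rw [hn]; decide)
    have e := Set.eq_of_subset_of_ncard_le (s := ({a, b, c} : Set V)) (by
      rintro y (rfl | rfl | rfl) <;> assumption) (by
        rw [hn, Set.ncard_insert_of_notMem (by simp [hab, hac]), Set.ncard_pair hbc]) hfin
    have : t • b ∈ ({a, b, c} : Set V) := by rw [e]; exact hadj
    rcases this with e' | e' | e'
    · exact absurd (smul_left_cancel t (hta.trans e'.symm)) hab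
    · exact absurd ⟨htv, e'⟩ htb
    · exact e'

theorem Pre.bound (h : Pre M₁ M₂) : Nat.card ↥(M₁ ⊓ M₂) ≤ 2 ^ 7 := by
  haveI : Fact (Nat.Prime 2) := ⟨Nat.prime_two⟩
  haveI := h.fin₁
  haveI := h.fin₂
  haveI : Finite ↥(M₁ ⊓ M₂) := Finite.of_injective _ (Subgroup.inclusion_injective inf_le_left)
  set o₁ : V := Sum.inl ((1 : X) : X ⧸ M₁)
  set o₂ : V := Sum.inr ((1 : X) : X ⧸ M₂)
  have ho : Adj o₁ o₂ := cosetGraph_adj_iff.2 ⟨1, Or.inl ⟨rfl, rfl⟩⟩
  haveI : Nonempty V := ⟨o₁⟩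
  have heq : Ed X o₁ o₂ = M₁ ⊓ M₂ := by
    rw [Ed, stabilizer_inl_one, stabilizer_inr_one]
  have fin : (∃ u v, Adj u v ∧ Nat.card ↥(Ed X u v) ≤ 2 ^ 7) → Nat.card ↥(M₁ ⊓ M₂) ≤ 2 ^ 7 := by
    rintro ⟨u, v, huv, hle⟩
    rwa [← heq, (h.tri true).card_Ed_eq ho huv]
  by_cases hsc : ∀ (v : V) (g : X), g • v = v → (∀ q ∈ Qk X (Adj) v, g * q = q * g) → g ∈ Qk X (Adj) v
  swap
  · push Not at hsc
    obtain ⟨v, g, hgv, hc, hg⟩ := hsc
    exact fin ((h.tri true).bound_of_not_sc hgv hc hg)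
  have central : ∀ s : Bool, (∀ e ∈ M₁ ⊓ M₂, (∀ t ∈ M₁ ⊓ M₂, t * e = e * t) → e * e = 1 →
      ∀ g ∈ (if s then M₁ else M₂), g * e = e * g) → Nat.card ↥(M₁ ⊓ M₂) ≤ 2 ^ 7 := by
    intro s hs
    refine fin (Hy.bound (isB := fun v : V => Sum.isLeft v = s) ⟨h.tri s, hsc, ?_⟩)
    intro b a hb hba e heb hea he2 hec
    have key : ∀ (g : X) (u w : V), b = g • u → a = g • w →
        ((u = o₁ ∧ w = o₂) ∨ (u = o₂ ∧ w = o₁)) → Sum.isLeft u = s → e ∈ Ec X b := by
      intro g u w eb ea huw hus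
      subst eb ea
      have hfix : (g⁻¹ * e * g) • u = u ∧ (g⁻¹ * e * g) • w = w :=
        ⟨by rw [mul_smul, mul_smul, heb, inv_smul_smul], by rw [mul_smul, mul_smul, hea, inv_smul_smul]⟩
      have hSt : St o₁ = M₁ ∧ St o₂ = M₂ := ⟨stabilizer_inl_one, stabilizer_inr_one⟩
      have hmemT : ∀ x : X, x • u = u → x • w = w → x ∈ M₁ ⊓ M₂ := by
        intro x h1 h2
        rw [← heq]
        rcases huw with ⟨rfl, rfl⟩ | ⟨rfl, rfl⟩
        exacts [⟨h1, h2⟩, ⟨h2, h1⟩]
      have hu : St u = (if s then M₁ else M₂) := by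
        rcases huw with ⟨rfl, rfl⟩ | ⟨rfl, rfl⟩ <;> subst hus
        exacts [hSt.1, hSt.2]
      have hmem : g⁻¹ * e * g ∈ Ec X u := by
        refine ⟨hfix.1, ?_, fun k hk => ?_⟩
        · calc g⁻¹ * e * g * (g⁻¹ * e * g) = g⁻¹ * (e * e) * g := by group
            _ = 1 := by rw [he2]; group
        · refine hs _ (hmemT _ hfix.1 hfix.2) (fun t ht => ?_) ?_ k (hu ▸ hk)
          · rw [← heq] at ht
            have htu : t • u = u ∧ t • w = w := by
              rcases huw with ⟨rfl, rfl⟩ | ⟨rfl, rfl⟩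
              exacts [⟨ht.1, ht.2⟩, ⟨ht.2, ht.1⟩]
            have := hec (g * t * g⁻¹) (by rw [conj_smul_smul, htu.1]) (by rw [conj_smul_smul, htu.2])
            calc t * (g⁻¹ * e * g) = g⁻¹ * (g * t * g⁻¹ * e) * g := by group
              _ = g⁻¹ * (e * (g * t * g⁻¹)) * g := by rw [this]
              _ = g⁻¹ * e * g * t := by group
          · calc g⁻¹ * e * g * (g⁻¹ * e * g) = g⁻¹ * (e * e) * g := by group
              _ = 1 := by rw [he2]; group
      have := conj_mem_Ec g hmem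
      rwa [show g * (g⁻¹ * e * g) * g⁻¹ = e by group] at this
    obtain ⟨g, ⟨eb, ea⟩ | ⟨eb, ea⟩⟩ := exists_smul_of_adj hba
    · exact key g _ _ eb ea (Or.inl ⟨rfl, rfl⟩) (by rw [← hb, eb]; rfl)
    · exact key g _ _ eb ea (Or.inr ⟨rfl, rfl⟩) (by rw [← hb, eb]; rfl)
  by_cases hc1 : ∀ e ∈ M₁ ⊓ M₂, (∀ t ∈ M₁ ⊓ M₂, t * e = e * t) → e * e = 1 → ∀ g ∈ M₁, g * e = e * g
  · exact central true (by simpa using hc1)
  by_cases hc2 : ∀ e ∈ M₁ ⊓ M₂, (∀ t ∈ M₁ ⊓ M₂, t * e = e * t) → e * e = 1 → ∀ g ∈ M₂, g * e = e * g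
  · exact central false (by simpa using hc2)
  push Not at hc1 hc2
  have hpos : 0 < Nat.card ↥(M₁ ⊓ M₂) := Nat.card_pos
  have htop : M₁ ≠ ⊤ ∧ M₂ ≠ ⊤ := by
    constructor <;> intro e
    · have := h.card₂; rw [e, top_inf_eq] at this hpos; omega
    · have := h.card₁; rw [e, inf_top_eq] at this hpos; omega
  have charP : ∀ (o : V) (M : Subgroup X), St o = M →
      M ⊓ Subgroup.centralizer (pCoreOf 2 M : Set X) ≤ pCoreOf 2 M := by
    intro o M hM g hg
    obtain ⟨μ, hμ⟩ := exists_adj o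
    have hQ : Qk X (Adj) o ≤ pCoreOf 2 M := by
      refine le_pCoreOf (hM ▸ inf_le_left) (fun k hk => ?_) ((h.edge hμ).1.to_le fun q hq =>
        ⟨(mem_Qk.1 hq).1, (mem_Qk.1 hq).2 μ hμ⟩)
      rw [← hM] at hk
      exact Subgroup.mem_normalizer_iff.2 fun q => ⟨fun hq => (h.tri true).conj_mem_Qk hk hq, fun hq => by
        have := (h.tri true).conj_mem_Qk (inv_fix hk) hq
        simpa [mul_assoc] using this⟩
    exact hQ (hsc o g (show g ∈ St o by rw [hM]; exact hg.1) fun q hq =>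
      (Subgroup.mem_centralizer_iff.1 hg.2 q (hQ hq)).symm)
  have hhyp : S3Amalgam.Hyp M₁ M₂ :=
    { pair := ⟨⟨h.gen, htop.1, htop.2, h.free⟩, inferInstance, inferInstance,
        ⟨3 * Nat.card ↥(pCoreOf 2 M₁), by rw [h.card₁, h.core₁]; ring⟩,
        ⟨3 * Nat.card ↥(pCoreOf 2 M₂), by rw [h.card₂, h.core₂]; ring⟩, fun S S₁ S₂ => by
          have hScard : Nat.card S = Nat.card ↥(M₁ ⊓ M₂) := by
            obtain ⟨k, hk⟩ := IsPGroup.iff_card.1 h.two
            rw [show Nat.card S = Nat.card ↥(S : Subgroup ↥(M₁ ⊓ M₂)) from rfl, S.card_eq_multiplicity,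
              hk, Nat.Prime.factorization_pow Nat.prime_two]
            simp
          have hf : ∀ M : Subgroup X, ∀ P : Sylow 2 M, Nat.card M = 3 * Nat.card ↥(M₁ ⊓ M₂) →
              Nat.card P = Nat.card ↥(M₁ ⊓ M₂) := by
            intro M P hM
            haveI : Finite M := Nat.finite_of_card_ne_zero (by omega)
            obtain ⟨k, hk⟩ := IsPGroup.iff_card.1 h.two
            rw [show Nat.card P = Nat.card ↥(P : Subgroup M) from rfl, P.card_eq_multiplicity, hM, hk,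
              Nat.factorization_mul (by norm_num) (by positivity), Finsupp.add_apply,
              Nat.factorization_eq_zero_of_not_dvd (by norm_num : ¬ 2 ∣ 3),
              Nat.Prime.factorization_pow Nat.prime_two]
            simp
          exact ⟨by rw [hScard, hf M₁ S₁ h.card₁], by rw [hScard, hf M₂ S₂ h.card₂]⟩,
        (charP_iff M₁).2 (charP o₁ M₁ stabilizer_inl_one),
        (charP_iff M₂).2 (charP o₂ M₂ stabilizer_inr_one)⟩
      two := h.two
      card₁ := h.card₁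
      card₂ := h.card₂
      core₁ := h.core₁
      core₂ := h.core₂
      nc₁ := by obtain ⟨e, h1, h2, h3, g, h4, h5⟩ := hc1; exact ⟨e, h1, h2, h3, g, h4, h5⟩
      nc₂ := by obtain ⟨e, h1, h2, h3, g, h4, h5⟩ := hc2; exact ⟨e, h1, h2, h3, g, h4, h5⟩ }
  have := h.card₁
  rcases S3Amalgam.main hhyp with ⟨⟨e⟩, -⟩ | ⟨⟨e⟩, -⟩
  · rw [Nat.card_congr e.toEquiv, Nat.card_perm, Nat.card_fin] at this
    have h24 : Nat.factorial 4 = 24 := rfl
    rw [h24] at this
    omega
  · rw [Nat.card_congr e.toEquiv, Nat.card_prod, Nat.card_perm, Nat.card_fin,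
      Nat.card_congr Multiplicative.toAdd, Nat.card_zmod] at this
    rw [show Nat.factorial 4 = 24 from rfl] at this
    omega

end CfsgLib.LocalEven.GoldBound
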