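import Cfsg.Agent.Lib.LocalEven.GoldBound.OddPre

/-!
Mutually moving pairs and the intersection of the subgroups `V` of neighbours.
-/

set_option autoImplicit false
set_option linter.unusedSectionVars false
set_option linter.style.haveILetI false
set_option linter.unusedVariables false

namespace CfsgLib.LocalEven.GoldBound

variable {G : Type*} [Group G] {V : Type*} [MulAction G V]

/-- A walk whose two end involutions each move the second vertex from the other end. -/
def Mut (G : Type*) [Group G] {V : Type*} [MulAction G V] (adj : V → V → Prop) (isB : V → Prop)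
    (b : ℕ) (z : V → G) (f : ℕ → V) : Prop :=
  isB (f 0) ∧ Wk adj (b + 3) f ∧ z (f 0) • f (b + 2) ≠ f (b + 2) ∧ z (f (b + 3)) • f 1 ≠ f 1

/-- The commutator of the two end involutions. -/
def ev {V : Type*} (b : ℕ) (z : V → G) (f : ℕ → V) : G :=
  z (f 0) * (z (f (b + 3)) * z (f 0) * z (f (b + 3)))

variable {adj : V → V → Prop} {isB : V → Prop} {b : ℕ} {z : V → G}

theorem Mut.congr {f f' : ℕ → V} (h : Mut G adj isB b z f) (he : ∀ i, i ≤ b + 3 → f' i = f i) :
    Mut G adj isB b z f' := by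
  obtain ⟨h0, hw, h1, h2⟩ := h
  refine ⟨(he 0 (by omega)).symm ▸ h0, hw.congr he, ?_, ?_⟩
  · rw [he 0 (by omega), he (b + 2) (by omega)]; exact h1
  · rw [he (b + 3) le_rfl, he 1 (by omega)]; exact h2

theorem eq_one_or_of_mem_zpowers {v x : G} (hv : v * v = 1) (hx : x ∈ Subgroup.zpowers v) :
    x = 1 ∨ x = v := by
  let K : Subgroup G :=
    { carrier := {y | y = 1 ∨ y = v}
      one_mem' := Or.inl rfl
      mul_mem' := by rintro a c (rfl | rfl) (rfl | rfl) <;> simp [hv]
      inv_mem' := by rintro a (rfl | rfl) <;> simp [eq_inv_of_sq hv] }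
  exact Subgroup.zpowers_le.2 (show v ∈ K from Or.inr rfl) hx

theorem exists_mul_of_mem_sup {H K : Subgroup G} (hc : ∀ h ∈ H, ∀ k ∈ K, h * k = k * h) {y : G}
    (hy : y ∈ H ⊔ K) : ∃ h ∈ H, ∃ k ∈ K, y = h * k := by
  have hn : K ≤ Subgroup.normalizer (H : Set G) := fun k hk =>
    Subgroup.centralizer_le_normalizer _ (Subgroup.mem_centralizer_iff.2 fun h hh => hc h hh k hk)
  rw [← SetLike.mem_coe, Subgroup.coe_mul_of_right_le_normalizer_left _ _ hn] at hy
  obtain ⟨h, hh, k, hk, e⟩ := hy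
  exact ⟨h, hh, k, hk, e.symm⟩

namespace One

variable (O : One G adj isB b z)
include O

/-- The involutions at the two children of a branch differ by the one at the root. -/
theorem child {n a u w : V} (hn : ¬ isB n) (ha : adj n a) (hu : adj n u) (hw : adj n w) (hua : u ≠ a)
    (hwa : w ≠ a) : z w = z u ∨ z w = z a * z u := by
  by_cases e : w = u
  · exact Or.inl (e ▸ rfl)
  · exact Or.inr (O.third hn ha hu hw hua.symm hwa.symm (Ne.symm e))

end One

namespace Odd3

variable (P : Odd3 G adj isB b z)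
include P

theorem tri : Tri G adj isB := P.one.tri

theorem dist : Dist G adj isB b := P.one.dist

theorem parity {f : ℕ → V} {n i : ℕ} (hw : Wk adj n f) (h0 : isB (f 0)) (hi : i ≤ n)
    (he : i % 2 = 0) : isB (f i) := hw.isB_even P.tri h0 hi he

theorem mut_of_move {f : ℕ → V} (h0 : isB (f 0)) (hw : Wk adj (b + 3) f)
    (hm : z (f 0) • f (b + 2) ≠ f (b + 2)) : Mut G adj isB b z f := by
  refine ⟨h0, hw, hm, fun hfix => ?_⟩
  have O := P.one
  have D := P.tri
  have hodd := P.odd
  have hA : ¬ isB (f (b + 2)) := hw.not_isB_odd D h0 (by omega) (by omega)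
  obtain ⟨x, hx, hnc⟩ := P.dist.exists_noncomm P.odd (hw.mono (show b + 2 ≤ b + 3 by omega)) h0
    (O.mem _ h0) hm
  refine hnc (O.commute h0 (P.noA f h0 (hw.mono (by omega)) x hx ?_)).symm
  obtain ⟨p, hp, q, hq, rfl⟩ := P.dist.hy.exists_decomp hA (D.symm (hw.adj_at (b + 1) (by omega)))
    (hw.adj_at (b + 2) le_rfl) (hw.ne_at (b + 1) le_rfl) hx
  rw [mul_smul]
  rcases O.eq _ (hw.isB_even D h0 le_rfl (by omega)) q hq with rfl | rfl
  · rw [one_smul]
    exact P.dist.fix_wk hw (i := b + 1) (by omega) (by omega) (hw.isB_even D h0 (by omega) (by omega))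
      (by omega) (by omega) hp
  · rw [hfix]
    exact P.dist.fix_wk hw (i := b + 1) (by omega) (by omega) (hw.isB_even D h0 (by omega) (by omega))
      (by omega) (by omega) hp

theorem mut_rev {f : ℕ → V} (h : Mut G adj isB b z f) :
    Mut G adj isB b z fun i => f (b + 3 - i) := by
  obtain ⟨h0, hw, h1, h2⟩ := h
  have hodd := P.odd
  refine ⟨hw.isB_even P.tri h0 le_rfl (by omega), hw.rev P.tri, ?_, ?_⟩
  · show z (f (b + 3)) • f (b + 3 - (b + 2)) ≠ f (b + 3 - (b + 2))
    rw [show b + 3 - (b + 2) = 1 by omega]; exact h2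
  · show z (f (b + 3 - (b + 3))) • f (b + 3 - 1) ≠ f (b + 3 - 1)
    rw [Nat.sub_self, show b + 3 - 1 = b + 2 by omega]; exact h1

theorem mut_ends {f : ℕ → V} (h : Mut G adj isB b z f) :
    isB (f (b + 3)) ∧ isB (f 2) ∧ isB (f (b + 1)) ∧ z (f (b + 3)) • f 2 = f 2 ∧
      z (f 0) • f (b + 1) = f (b + 1) := by
  obtain ⟨h0, hw, -, -⟩ := h
  have hodd := P.odd
  have hb := hw.isB_even P.tri h0 (i := b + 3) le_rfl (by omega)
  exact ⟨hb, hw.isB_even P.tri h0 (by omega) rfl, hw.isB_even P.tri h0 (by omega) (by omega),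
    P.one.fix_wk hw 2 le_rfl (by omega) hb (by omega) (by omega),
    P.one.fix_wk hw (b + 1) (i := 0) (by omega) (by omega) h0 (by omega) (by omega)⟩

theorem mut_noncomm {f : ℕ → V} (h : Mut G adj isB b z f) :
    z (f 0) * z (f (b + 3)) ≠ z (f (b + 3)) * z (f 0) := by
  obtain ⟨h0, hw, h1, h2⟩ := id h
  obtain ⟨-, -, -, hf2, -⟩ := P.mut_ends h
  intro hc
  exact P.one.ne _ h0 (P.dist.eq_one_of_bend (show 2 ≤ b + 3 by omega) hw h0 (P.one.mem _ h0) hc hf2 h2)

theorem ev_mem_two {f : ℕ → V} (h : Mut G adj isB b z f) :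
    ev b z f ∈ EBall G adj isB 2 (f 2) := by
  obtain ⟨h0, hw, h1, h2⟩ := id h
  obtain ⟨hb, h2B, -, hf2, -⟩ := P.mut_ends h
  refine Subgroup.mul_mem _
    (P.one.mem_EBall' h0 (hw.within P.tri (k := 2) (by omega) (by omega) (by omega) (by omega))) ?_
  have : z (f (b + 3)) * z (f 0) * z (f (b + 3)) = z (z (f (b + 3)) • f 0) := by
    rw [← P.one.smul h0, P.one.inv hb]
  rw [this]
  refine P.one.mem_EBall' ((P.tri.isB_smul _ _).2 h0) ?_
  have := (hw.within P.tri (i := 2) (j := 0) (k := 2) (by omega) (by omega) (by omega) (by omega)).smul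
    P.tri (z (f (b + 3)))
  rwa [hf2] at this

theorem ev_mem_end {f : ℕ → V} (h : Mut G adj isB b z f) :
    ev b z f ∈ EBall G adj isB 2 (f (b + 1)) := by
  obtain ⟨h0, hw, h1, h2⟩ := id h
  obtain ⟨hb, -, -, -, hfb⟩ := P.mut_ends h
  rw [ev, ← mul_assoc, ← mul_assoc]
  refine Subgroup.mul_mem _ ?_ (P.one.mem_EBall' hb
    (hw.within P.tri (k := 2) (by omega) le_rfl (by omega) (by omega)))
  have : z (f 0) * z (f (b + 3)) * z (f 0) = z (z (f 0) • f (b + 3)) := by
    rw [← P.one.smul hb, P.one.inv h0]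
  rw [this]
  refine P.one.mem_EBall' ((P.tri.isB_smul _ _).2 hb) ?_
  have := (hw.within P.tri (i := b + 1) (j := b + 3) (k := 2) (by omega) le_rfl (by omega) (by omega)).smul
    P.tri (z (f 0))
  rwa [hfb] at this

theorem ev_sq {f : ℕ → V} (h : Mut G adj isB b z f) : ev b z f * ev b z f = 1 :=
  P.dist.sq_EBall (by have := P.three_le; omega) (P.ev_mem_two h)

theorem ev_symm {f : ℕ → V} (h : Mut G adj isB b z f) :
    z (f (b + 3)) * (z (f 0) * z (f (b + 3)) * z (f 0)) = ev b z f := by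
  obtain ⟨hb, -, -, -, -⟩ := P.mut_ends h
  rw [← eq_inv_of_sq (P.ev_sq h), ev]
  simp only [mul_inv_rev, P.one.inv hb, P.one.inv h.1, mul_assoc]

theorem ev_ne_one {f : ℕ → V} (h : Mut G adj isB b z f) : ev b z f ≠ 1 := by
  intro e
  obtain ⟨hb, -, -, -, -⟩ := P.mut_ends h
  refine P.mut_noncomm h ?_
  rw [ev, mul_eq_one_iff_inv_eq, P.one.inv h.1] at e
  calc z (f 0) * z (f (b + 3)) = z (f (b + 3)) * z (f 0) * z (f (b + 3)) * z (f (b + 3)) := by rw [← e]
    _ = z (f (b + 3)) * z (f 0) := by rw [mul_assoc _ (z (f (b + 3))) (z (f (b + 3))), P.one.sq hb, mul_one]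

/-- The subgroups `V` of two neighbours of a vertex of the other type meet in its `Z`. -/
theorem mem_Z_of_mem {α a c : V} (hα : ¬ isB α) (ha : adj α a) (hc : adj α c) (hac : a ≠ c) {y : G}
    (hya : y ∈ EBall G adj isB 2 a) (hyc : y ∈ EBall G adj isB 2 c) : y ∈ EBall G adj isB 1 α := by
  by_contra hy
  have O := P.one
  have H := P.dist.hy
  have D := P.tri
  have h3 := P.three_le
  have haB := D.isB_of_adj hα ha
  have hcB := D.isB_of_adj hα hc
  set Z := EBall G adj isB 1 α with hZdef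
  have hZle : ∀ x, adj α x → Z ≤ EBall G adj isB 2 x := fun x hx => EBall_one_le_two (D.symm hx)
  have hza : z a ∈ Z := O.mem_EBall' haB (Within.single ha)
  obtain ⟨n, n', hn, hn', hαn, hαn', hnn'⟩ := D.exists_others (D.symm ha)
  obtain ⟨q, hq, hqn⟩ := H.exists_Qk_move ha hn hαn.symm
  obtain ⟨hqα, hqadj⟩ := mem_Qk.1 hq
  obtain ⟨hqn', hqn''⟩ := D.eq_third (hqadj a ha) hqα (D.symm ha) hn hn' hαn hαn' hnn' hqn
  obtain ⟨u, _, hu, -, hua, -, -⟩ := D.exists_others (D.symm hn)
  have hnA := D.not_isB_of_adj haB hn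
  have hn'A := D.not_isB_of_adj haB hn'
  have hu' : adj n' (q • u) := hqn' ▸ D.smul q hu
  have hua' : a ≠ q • u := fun e => hua (smul_left_cancel q ((hqadj a ha).trans e))
  have huB := D.isB_of_adj hnA hu
  have huB' := D.isB_of_adj hn'A hu'
  set v := z u with hv
  set v' := z (q • u) with hv'
  have hqv : q * v * q⁻¹ = v' := O.smul huB q
  have hvA : v ∈ EBall G adj isB 2 a := O.mem_EBall' huB (Within.head hn (Within.single hu))
  have hv'A : v' ∈ EBall G adj isB 2 a := O.mem_EBall' huB' (Within.head hn' (Within.single hu'))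
  have comm : ∀ s ∈ EBall G adj isB 2 a, ∀ t ∈ EBall G adj isB 2 a, s * t = t * s := fun s hs t ht =>
    P.dist.comm_EBall hs ht (k := 0) rfl (by omega)
  have cvv := comm v hvA v' hv'A
  have hdec : ∀ s ∈ EBall G adj isB 2 a, ∃ ζ ∈ Z, s = ζ ∨ s = ζ * v ∨ s = ζ * v' ∨ s = ζ * (v * v') := by
    intro s hs
    have hle : EBall G adj isB 2 a ≤ (Z ⊔ Subgroup.zpowers v) ⊔ Subgroup.zpowers v' := by
      refine O.EBall_le' fun w hw hwa => ?_
      rcases hwa with rfl | ⟨m, hm, rfl | ⟨_, hmw, rfl⟩⟩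
      · exact Subgroup.mem_sup_left (Subgroup.mem_sup_left hza)
      · exact absurd hw (D.not_isB_of_adj haB hm)
      rcases D.cover (D.symm ha) hn hn' hm hαn hαn' hnn' with rfl | rfl | rfl
      · exact Subgroup.mem_sup_left (Subgroup.mem_sup_left (O.mem_EBall' hw (Within.single hmw)))
      · rename_i w'
        by_cases e : w' = a
        · rw [e]; exact Subgroup.mem_sup_left (Subgroup.mem_sup_left hza)
        refine Subgroup.mem_sup_left ?_
        rcases O.child hnA (D.symm hn) hu hmw (Ne.symm hua) e with e' | e' <;> rw [e']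
        · exact Subgroup.mem_sup_right (Subgroup.mem_zpowers v)
        · exact Subgroup.mul_mem_sup hza (Subgroup.mem_zpowers v)
      · rename_i w'
        by_cases e : w' = a
        · rw [e]; exact Subgroup.mem_sup_left (Subgroup.mem_sup_left hza)
        rcases O.child hn'A (D.symm hn') hu' hmw hua'.symm e with e' | e' <;> rw [e']
        · exact Subgroup.mem_sup_right (Subgroup.mem_zpowers v')
        · exact Subgroup.mul_mem_sup (Subgroup.mem_sup_left hza) (Subgroup.mem_zpowers v')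
    have hvle : Subgroup.zpowers v ≤ EBall G adj isB 2 a := Subgroup.zpowers_le.2 hvA
    have hv'le : Subgroup.zpowers v' ≤ EBall G adj isB 2 a := Subgroup.zpowers_le.2 hv'A
    obtain ⟨x, hx, j, hj, rfl⟩ := exists_mul_of_mem_sup
      (fun x hx j hj => comm x (sup_le (hZle a ha) hvle hx) j (hv'le hj)) (hle hs)
    obtain ⟨ζ, hζ, i, hi, rfl⟩ := exists_mul_of_mem_sup
      (fun x hx j hj => comm x (hZle a ha hx) j (hvle hj)) hx
    refine ⟨ζ, hζ, ?_⟩
    rcases eq_one_or_of_mem_zpowers (O.sq huB) hi with rfl | rfl <;>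
      rcases eq_one_or_of_mem_zpowers (O.sq huB') hj with rfl | rfl <;> simp [mul_assoc, hv, hv']
  set p := v * v' with hp
  have hpA : p ∈ EBall G adj isB 2 a := Subgroup.mul_mem _ hvA hv'A
  -- conjugates of `p` under the edge group
  have hconj : ∀ h : G, h • α = α → h • a = a → h * p * h⁻¹ = p ∨ h * p * h⁻¹ = z a * p := by
    intro h hhα hha
    have e : h * p * h⁻¹ = z (h • u) * z (h • (q • u)) := by
      rw [← O.smul huB h, ← O.smul huB' h]; simp only [p, v, v']; group
    rw [e]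
    have hne1 : h • u ≠ a := fun e => hua (smul_left_cancel h (hha.trans e.symm))
    have hne2 : h • (q • u) ≠ a := fun e => hua' (smul_left_cancel h (hha.trans e.symm))
    have hswap : ∀ {x y : G}, (x = v ∨ x = z a * v) → (y = v' ∨ y = z a * v') →
        x * y = p ∨ x * y = z a * p := by
      rintro x y (rfl | rfl) (rfl | rfl)
      · exact Or.inl rfl
      · right; rw [← mul_assoc, ← comm (z a) (hZle a ha hza) v hvA, mul_assoc]
      · right; rw [mul_assoc]
      · left
        calc z a * v * (z a * v') = z a * (v * z a) * v' := by group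
          _ = p := by rw [← comm (z a) (hZle a ha hza) v hvA, ← mul_assoc (z a) (z a), O.sq haB, one_mul]
    by_cases hhn : h • n = n
    · have hhn' : h • n' = n' := D.fix_third hha hhα hhn (D.symm ha) hn hαn hn'
      exact hswap (O.child hnA (D.symm hn) hu (D.smul_adj hhn hu) (Ne.symm hua) hne1)
        (O.child hn'A (D.symm hn') hu' (D.smul_adj hhn' hu') hua'.symm hne2)
    · obtain ⟨e1, e2⟩ := D.eq_third hha hhα (D.symm ha) hn hn' hαn hαn' hnn' hhn
      have h1 := O.child hn'A (D.symm hn') hu' (e1 ▸ D.smul h hu) hua'.symm hne1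
      have h2 := O.child hnA (D.symm hn) hu (e2 ▸ D.smul h hu') (Ne.symm hua) hne2
      have hm1 : z (h • u) ∈ EBall G adj isB 2 a := by
        rcases h1 with e' | e' <;> rw [e']
        exacts [hv'A, Subgroup.mul_mem _ (hZle a ha hza) hv'A]
      have hm2 : z (h • (q • u)) ∈ EBall G adj isB 2 a := by
        rcases h2 with e' | e' <;> rw [e']
        exacts [hvA, Subgroup.mul_mem _ (hZle a ha hza) hvA]
      rw [comm _ hm1 _ hm2]
      exact hswap h2 h1
  have hqc : ∀ s ∈ EBall G adj isB 2 c, q * s * q⁻¹ ∈ EBall G adj isB 2 c := fun s hs => by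
    simpa only [hqadj c hc] using conj_mem_EBall D q hs
  have hqζ : ∀ ζ ∈ Z, q * ζ * q⁻¹ = ζ := fun ζ hζ => by
    rw [H.commute_EBall_one hα hq hζ, mul_inv_cancel_right]
  have hqv' : ∃ ζ ∈ Z, q * v' * q⁻¹ = ζ * v := by
    have hne : q • (q • u) ≠ a := fun e => hua' (smul_left_cancel q ((hqadj a ha).trans e.symm))
    rw [O.smul huB' q]
    rcases O.child hnA (D.symm hn) hu (hqn'' ▸ D.smul q hu') (Ne.symm hua) hne with e | e
    · exact ⟨1, Z.one_mem, by rw [one_mul, e]⟩
    · exact ⟨z a, hza, e⟩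
  have qconj : ∀ ζ ∈ Z, ∀ w, q * (ζ * w) * q⁻¹ = ζ * (q * w * q⁻¹) := fun ζ hζ w => by
    calc q * (ζ * w) * q⁻¹ = (q * ζ * q⁻¹) * (q * w * q⁻¹) := by group
      _ = ζ * (q * w * q⁻¹) := by rw [hqζ ζ hζ]
  have hpc : p ∈ EBall G adj isB 2 c := by
    obtain ⟨ζ, hζ, e | e | e | e⟩ := hdec y hya
    · exact absurd (e ▸ hζ) hy
    · have h1 := hqc y hyc
      rw [e, qconj ζ hζ, hqv] at h1
      have h2 : v ∈ EBall G adj isB 2 c := by
        have := Subgroup.mul_mem _ (Subgroup.inv_mem _ (hZle c hc hζ)) (e ▸ hyc)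
        simpa using this
      have h3 : v' ∈ EBall G adj isB 2 c := by
        have := Subgroup.mul_mem _ (Subgroup.inv_mem _ (hZle c hc hζ)) h1
        simpa using this
      exact Subgroup.mul_mem _ h2 h3
    · obtain ⟨η, hη, hηv⟩ := hqv'
      have h1 := hqc y hyc
      rw [e, qconj ζ hζ, hηv] at h1
      have h2 : v' ∈ EBall G adj isB 2 c := by
        have := Subgroup.mul_mem _ (Subgroup.inv_mem _ (hZle c hc hζ)) (e ▸ hyc)
        simpa using this
      have h3 : v ∈ EBall G adj isB 2 c := by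
        have := Subgroup.mul_mem _ (Subgroup.inv_mem _ (hZle c hc (Z.mul_mem hζ hη)))
          ((mul_assoc ζ η v).symm ▸ h1)
        simpa [mul_assoc] using this
      exact Subgroup.mul_mem _ h3 h2
    · have := Subgroup.mul_mem _ (Subgroup.inv_mem _ (hZle c hc hζ)) (e ▸ hyc)
      simpa using this
  obtain ⟨d, hd, had, hcd⟩ := D.third ha hc hac
  by_cases hpZ : p ∈ Z
  · -- then the three subgroups coincide
    have hvc : v ∈ EBall G adj isB 2 c := by
      obtain ⟨ζ, hζ, e | e | e | e⟩ := hdec y hya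
      · exact absurd (e ▸ hζ) hy
      · have := Subgroup.mul_mem _ (Subgroup.inv_mem _ (hZle c hc hζ)) (e ▸ hyc)
        simpa using this
      · have h2 : v' ∈ EBall G adj isB 2 c := by
          have := Subgroup.mul_mem _ (Subgroup.inv_mem _ (hZle c hc hζ)) (e ▸ hyc)
          simpa using this
        have := Subgroup.mul_mem _ hpc (Subgroup.inv_mem _ h2)
        simpa [p, mul_assoc] using this
      · exact absurd (e ▸ Z.mul_mem hζ hpZ) hy
    have hv'c : v' ∈ EBall G adj isB 2 c := by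
      have := Subgroup.mul_mem _ (Subgroup.inv_mem _ hvc) hpc
      simpa [p] using this
    have hac' : EBall G adj isB 2 a ≤ EBall G adj isB 2 c := fun s hs => by
      obtain ⟨ζ, hζ, e | e | e | e⟩ := hdec s hs <;> rw [e]
      exacts [hZle c hc hζ, Subgroup.mul_mem _ (hZle c hc hζ) hvc,
        Subgroup.mul_mem _ (hZle c hc hζ) hv'c, Subgroup.mul_mem _ (hZle c hc hζ) hpc]
    obtain ⟨g, hgα, hga, hgc⟩ := D.trans_pair ha hc hc ha hac hac.symm
    have hca' : EBall G adj isB 2 c ≤ EBall G adj isB 2 a := fun s hs => by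
      have h1 : g⁻¹ * s * g ∈ EBall G adj isB 2 a := by
        have := conj_mem_EBall D g⁻¹ hs
        rwa [inv_inv, ← hga, inv_smul_smul] at this
      have := conj_mem_EBall D g (hac' h1)
      rwa [hgc, show g * (g⁻¹ * s * g) * g⁻¹ = s by group] at this
    obtain ⟨t, htα, hta, htc⟩ := D.swap ha hc hd hac had hcd
    have hda : EBall G adj isB 2 d ≤ EBall G adj isB 2 a := fun s hs => by
      have h1 : t⁻¹ * s * t ∈ EBall G adj isB 2 c := by
        have := conj_mem_EBall D t⁻¹ hs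
        rwa [inv_inv, ← htc, inv_smul_smul] at this
      have := conj_mem_EBall D t (hca' h1)
      rwa [hta, show t * (t⁻¹ * s * t) * t⁻¹ = s by group] at this
    have hbot := D.eq_bot ha (N := EBall G adj isB 2 a)
      (fun s hs => ⟨P.dist.fix_EBall hs (Within.single (D.symm ha)) (by omega),
        P.dist.fix_EBall hs (Within.refl 0 a) (by omega)⟩)
      (fun h hh s hs => by
        rcases D.cover ha hc hd (D.smul_adj hh ha) hac had hcd with e | e | e <;>
          have := conj_mem_EBall D h hs <;> rw [e] at this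
        exacts [this, hca' this, hda this])
      fun h hh s hs => by simpa only [hh] using conj_mem_EBall D h hs
    have := hZle a ha hza
    rw [hbot, Subgroup.mem_bot] at this
    exact O.ne a haB this
  -- `p` lies in all three
  have hpd : p ∈ EBall G adj isB 2 d := by
    obtain ⟨t, htα, hta, htc⟩ := D.swap ha hc hd hac had hcd
    have h1 := conj_mem_EBall D t hpc
    rw [htc] at h1
    rcases hconj t htα hta with e | e <;> rw [e] at h1
    · exact h1
    · have := Subgroup.mul_mem _ (hZle d hd hza) h1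
      rwa [← mul_assoc, O.sq haB, one_mul] at this
  obtain ⟨g, hgα, hga⟩ := D.trans ha hc
  set p₂ := g * p * g⁻¹ with hp₂
  have hp₂a : p₂ ∈ EBall G adj isB 2 a := by
    have hx := D.smul_adj (inv_fix hgα) ha
    have : p ∈ EBall G adj isB 2 (g⁻¹ • a) := by
      rcases D.cover ha hc hd hx hac had hcd with e | e | e <;> rw [e]
      exacts [hpA, hpc, hpd]
    have := conj_mem_EBall D g this
    rwa [smul_inv_smul] at this
  have hp₂Z : p₂ ∉ Z := fun h => hpZ (by
    have := conj_mem_EBall D g⁻¹ h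
    rwa [inv_fix hgα, show g⁻¹ * p₂ * g⁻¹⁻¹ = p by simp only [p₂]; group] at this)
  have hp₂q : ∀ h ∈ Qk G adj α, h * p₂ * h⁻¹ = p₂ ∨ h * p₂ * h⁻¹ = z c * p₂ := by
    intro h hh
    have hh' := mem_Qk.1 (D.conj_mem_Qk (inv_fix hgα) hh)
    have e0 : h * p₂ * h⁻¹ = g * ((g⁻¹ * h * g⁻¹⁻¹) * p * (g⁻¹ * h * g⁻¹⁻¹)⁻¹) * g⁻¹ := by
      simp only [p₂]; group
    rcases hconj _ hh'.1 (hh'.2 a ha) with e | e
    · left; rw [e0, e]
    · right
      rw [e0, e, ← hga, ← O.smul haB g]; simp only [p₂]; group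
  obtain ⟨ζ, hζ, e⟩ : ∃ ζ ∈ Z, p₂ = ζ * p := by
    obtain ⟨ζ, hζ, e | e | e | e⟩ := hdec p₂ hp₂a
    · exact absurd (e ▸ hζ) hp₂Z
    · exfalso
      have h1 := hp₂q q hq
      rw [e, qconj ζ hζ, hqv] at h1
      rcases h1 with h1 | h1
      · refine hpZ ?_
        rw [hp, mul_left_cancel h1, O.sq huB]; exact Z.one_mem
      · refine hpZ ?_
        rw [hp]
        have : v' = ζ⁻¹ * (z c * ζ) * v := by rw [← mul_left_cancel_iff (a := ζ), h1]; group
        rw [this, ← mul_assoc, comm v hvA _ (hZle a ha (Z.mul_mem (Z.inv_mem hζ)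
          (Z.mul_mem (O.mem_EBall' hcB (Within.single hc)) hζ))), mul_assoc, O.sq huB, mul_one]
        exact Z.mul_mem (Z.inv_mem hζ) (Z.mul_mem (O.mem_EBall' hcB (Within.single hc)) hζ)
    · exfalso
      obtain ⟨η, hη, hηv⟩ := hqv'
      have h1 := hp₂q q hq
      rw [e, qconj ζ hζ, hηv] at h1
      obtain ⟨k, hk, hkv⟩ : ∃ k ∈ Z, v = k * v' := by
        rcases h1 with h1 | h1
        · exact ⟨η⁻¹, Z.inv_mem hη, by rw [← mul_left_cancel h1, inv_mul_cancel_left]⟩
        · refine ⟨η⁻¹ * (ζ⁻¹ * z c * ζ), Z.mul_mem (Z.inv_mem hη) (Z.mul_mem (Z.mul_mem (Z.inv_mem hζ)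
            (O.mem_EBall' hcB (Within.single hc))) hζ), ?_⟩
          rw [← mul_left_cancel_iff (a := ζ * η), mul_assoc ζ η v, h1]; group
      refine hpZ ?_
      rw [hp, hkv, mul_assoc, O.sq huB', mul_one]
      exact hk
    · exact ⟨ζ, hζ, e⟩
  have hqall : ∀ h ∈ Qk G adj α, h * p * h⁻¹ = p := by
    intro h hh
    refine (hconj h (mem_Qk.1 hh).1 ((mem_Qk.1 hh).2 a ha)).resolve_right fun e1 => ?_
    have e2 : h * p₂ * h⁻¹ = z a * p₂ := by
      calc h * p₂ * h⁻¹ = (h * ζ * h⁻¹) * (h * p * h⁻¹) := by rw [e]; group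
        _ = z a * p₂ := by
          rw [e1, H.commute_EBall_one hα hh hζ, mul_inv_cancel_right, e, ← mul_assoc, ← mul_assoc,
            H.EBall_one_comm hα hζ hza]
          simp only [p, mul_assoc]
    rcases hp₂q h hh with h1 | h1 <;> rw [e2] at h1
    · exact O.ne a haB (by simpa using h1)
    · exact hac (O.inj haB hcB ((Within.head (D.symm ha) (Within.single hc)).mono (by omega))
        (mul_right_cancel h1))
  have hnot : ∀ r ∈ EBall G adj isB 2 a, (∀ h ∈ Qk G adj α, h * r * h⁻¹ = r) → ∀ s : G, s • α = α →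
      s • a = a → s • c ≠ c → s * r * s⁻¹ = r → r ∈ Z := by
    intro r hr hQ s hsα hsa hsc hsr
    refine EBall_one_le D hα ha (H.central haB (D.symm ha) r (P.dist.fix_EBall hr (Within.refl 0 a)
      (by omega)) (P.dist.fix_EBall hr (Within.single (D.symm ha)) (by omega))
      (P.dist.sq_EBall (by omega) hr) fun t hta htα => ?_)
    rw [← mul_inv_eq_iff_eq_mul]
    by_cases htc : t • c = c
    · exact hQ t (D.mem_Qk_of_two htα hta htc ha hc hac)
    have e := D.same_image htα hsα hta hsa ha hc hac htc hsc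
    have hm := hQ (s⁻¹ * t) (D.mem_Qk_of_two (by rw [mul_smul, htα, inv_fix hsα])
      (by rw [mul_smul, hta, inv_fix hsa]) (by rw [mul_smul, e, inv_smul_smul]) ha hc hac)
    calc t * r * t⁻¹ = s * (s⁻¹ * t * r * (s⁻¹ * t)⁻¹) * s⁻¹ := by group
      _ = r := by rw [hm, hsr]
  obtain ⟨s, hsα, hsa, hsc⟩ := D.exists_move ha hc hac
  rcases hconj s hsα hsa with e1 | e1
  · exact hpZ (hnot p hpA hqall s hsα hsa hsc e1)
  have hzc : z c ∈ Z := O.mem_EBall' hcB (Within.single hc)
  refine hpZ ?_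
  have := hnot (p * z c) (Subgroup.mul_mem _ hpA (hZle a ha hzc)) (fun h hh => by
    calc h * (p * z c) * h⁻¹ = (h * p * h⁻¹) * (h * z c * h⁻¹) := by group
      _ = p * z c := by rw [hqall h hh, H.commute_EBall_one hα hh hzc, mul_inv_cancel_right])
    s hsα hsa hsc (by
      calc s * (p * z c) * s⁻¹ = (s * p * s⁻¹) * (s * z c * s⁻¹) := by group
        _ = z a * p * (z a * z c) := by
          rw [e1, O.smul hcB s, (D.eq_third hsα hsa ha hc hd hac had hcd hsc).1,
            O.third hα ha hc hd hac had hcd]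
        _ = z a * (p * z a) * z c := by group
        _ = p * z c := by rw [← comm (z a) (hZle a ha hza) p hpA, ← mul_assoc, O.sq haB, one_mul])
  have h2 := Z.mul_mem this (Z.inv_mem hzc)
  simpa using h2

end Odd3

end CfsgLib.LocalEven.GoldBound
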