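import Cfsg.Agent.Lib.LocalEven.GoldBound.One

/-!
Odd critical distance at least three: one central involution, and no turning walks.
-/

set_option autoImplicit false
set_option linter.unusedSectionVars false
set_option linter.style.haveILetI false
set_option linter.unusedVariables false

namespace CfsgLib.LocalEven.GoldBound

variable {G : Type*} [Group G] {V : Type*} [MulAction G V]
variable {adj : V → V → Prop} {isB : V → Prop}

/-- An element of the centre at the end of a critical length walk fixing the second vertex fixes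
the first. -/
def NoA (G : Type*) [Group G] {V : Type*} [MulAction G V] (adj : V → V → Prop) (isB : V → Prop)
    (b : ℕ) : Prop :=
  ∀ f : ℕ → V, isB (f 0) → Wk adj (b + 2) f → ∀ x ∈ EBall G adj isB 1 (f (b + 2)),
    x • f 1 = f 1 → x • f 0 = f 0

/-- The standing hypotheses for odd critical distance at least three. -/
structure Odd3 (G : Type*) [Group G] {V : Type*} [MulAction G V] (adj : V → V → Prop)
    (isB : V → Prop) (b : ℕ) (z : V → G) : Prop where
  one : One G adj isB b z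
  odd : b % 2 = 1
  three_le : 3 ≤ b
  noA : NoA G adj isB b

theorem EBall_one_le_two {n m : V} (h : adj m n) :
    EBall G adj isB 1 n ≤ EBall G adj isB 2 m :=
  EBall_le fun u hu hw e he => mem_EBall hu (Within.head h hw) he

theorem EBall_one_le {n m : V} (D : Tri G adj isB) (hn : ¬ isB n) (h : adj n m) :
    Ec G m ≤ EBall G adj isB 1 n :=
  fun e he => mem_EBall (D.isB_of_adj hn h) (Within.single h) he

/-- A central involution commuting with an element which bends the walk is trivial. -/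
theorem Dist.eq_one_of_bend {b : ℕ} (P : Dist G adj isB b) {f : ℕ → V} {n : ℕ} (hn : 2 ≤ n)
    (hw : Wk adj n f) (h0 : isB (f 0)) {e x : G} (he : e ∈ Ec G (f 0)) (hc : e * x = x * e)
    (hx2 : x • f 2 = f 2) (hx1 : x • f 1 ≠ f 1) : e = 1 := by
  have D := P.hy.tri
  have a01 := hw.adj_at 0 (by omega)
  have a12 := hw.adj_at 1 (by omega)
  have h02 : f 0 ≠ f 2 := hw.ne_at 0 (by omega)
  have he'x : e ∈ Ec G (x • f 0) := by
    have := conj_mem_Ec x he
    rwa [← hc, mul_inv_cancel_right] at this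
  have hW : Wk adj 4 (cons (f 0) (cons (f 1) (cons (f 2) (cons (x • f 1) fun _ => x • f 0)))) := by
    refine (((Wk.cons_walk (n := 0) ⟨fun i hi => absurd hi (by omega),
      fun i hi => absurd hi (by omega)⟩ (D.smul x (D.symm a01)) fun h => absurd h (by omega)
      ).cons_walk (by have := D.smul x (D.symm a12); rwa [hx2] at this) fun _ => ?_).cons_walk
      a12 fun _ => ?_).cons_walk a01 fun _ => h02
    · show f 2 ≠ x • f 0
      rw [← hx2]
      exact fun e => h02 (smul_left_cancel x e).symm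
    · exact Ne.symm hx1
  exact P.eq_one_of_walk_four hW h0 he he'x

theorem noA_of_five_le {b : ℕ} (P : Dist G adj isB b) (hodd : b % 2 = 1) (h5 : 5 ≤ b) :
    NoA G adj isB b := by
  intro f h0 hw x hx hx1
  by_contra hx0
  have H := P.hy
  have D := H.tri
  obtain ⟨f', h0', hw', e, he, hm⟩ := P.exists_crit
  have hA : ¬ isB (f (b + 2)) := hw.not_isB_odd D h0 le_rfl (by omega)
  have h2 : isB (f 2) := hw.isB_even D h0 (by omega) rfl
  have h1 : ¬ isB (f 1) := hw.not_isB_odd D h0 (by omega) rfl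
  have hflB : Flip G adj (b + 1) f' := ⟨hw'.mono (by omega), e, f' (b + 2), hw'.adj_at (b + 1) le_rfl,
    fun _ => (hw'.ne_at b le_rfl).symm,
    fun i hi => P.fix_wk hw' (i := 0) (by omega) (by omega) h0' (by omega) (by omega) he, hm⟩
  have hflA : Flip G adj (b + 1) fun i => f (b + 2 - i) := by
    refine ⟨(hw.rev D).mono (by omega), x, f 0, ?_, fun _ => ?_, fun i hi => ?_, hx0⟩
    · show adj (f (b + 2 - (b + 1))) (f 0)
      rw [show b + 2 - (b + 1) = 1 by omega]; exact D.symm (hw.adj_at 0 (by omega))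
    · show f 0 ≠ f (b + 2 - (b + 1 - 1))
      rw [show b + 2 - (b + 1 - 1) = 2 by omega]; exact hw.ne_at 0 (by omega)
    · rcases Nat.lt_or_ge i (b + 1) with hi' | hi'
      · exact P.fixZ_wk hw (i := b + 2) le_rfl (by omega) hA (by omega) (by omega) hx
      · show x • f (b + 2 - i) = f (b + 2 - i)
        rw [show b + 2 - i = 1 by omega]; exact hx1
  have hfl : Flips G adj isB (b + 1) := ⟨⟨f', h0', hflB⟩, ⟨_, hA, hflA⟩⟩
  obtain ⟨c, rfl⟩ : ∃ c, b = c + 2 := ⟨b - 2, by omega⟩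
  have hC : Conj G adj isB (c + 1) := conj_of_flips D (n := c) (by omega)
    (((hfl.down D (by omega)).down D (by omega)).down D (by omega))
  obtain ⟨g, hg⟩ := hC f' (fun i => f (2 + i)) (hw'.mono (by omega))
    (hw.shift 2 (c + 1) (by omega)) (iff_of_true h0' h2)
  have hg0 : g • f' 0 = f 2 := hg 0 (by omega)
  have hgc : g • f' (c + 1) = f (c + 3) :=
    (hg (c + 1) le_rfl).trans (congrArg f (by omega))
  have hm' : (g * e * g⁻¹) • (g • f' (c + 2 + 2)) ≠ g • f' (c + 2 + 2) := by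
    rw [conj_smul_smul]; exact fun e' => hm (smul_left_cancel g e')
  obtain ⟨x', hx', hne⟩ := P.exists_noncomm hodd (hw'.map D g) ((D.isB_smul g _).2 h0')
    (conj_mem_Ec g he) hm'
  refine hne ?_
  have he2 : g * e * g⁻¹ ∈ Ec G (f 2) := hg0 ▸ conj_mem_Ec g he
  have a01 := hw.adj_at 0 (by omega)
  have a12 := hw.adj_at 1 (by omega)
  have h20 : f 2 ≠ f 0 := (hw.ne_at 0 (by omega)).symm
  obtain ⟨d, hd, h2d, h0d⟩ := D.third a12 (D.symm a01) h20
  have hx2 : x • f 2 = f 2 := P.fixZ_wk hw (i := c + 2 + 2) le_rfl (by omega) hA (by omega) (by omega) hx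
  obtain ⟨y, hy, hyeq⟩ := H.exists_pre h1 a12 (D.symm a01) hd h20 h2d h0d he2
  have hval := hyeq x hx1 (D.eq_third hx1 hx2 a12 (D.symm a01) hd h20 h2d h0d hx0).1
  have hadj : adj (f (c + 3)) (f (c + 2 + 2)) := hw.adj_at (c + 3) le_rfl
  have hym : y • f (c + 3) = f (c + 3) :=
    P.fix_wk hw (i := 0) (by omega) (by omega) h0 (by omega) (by omega) hy
  have hV : g * e * g⁻¹ ∈ EBall G adj isB 2 (f (c + 3)) := by
    rw [← hval, show y * (x * y * x⁻¹) = (y * x * y⁻¹) * x⁻¹ by
      rw [eq_inv_of_sq hy.2.1]; group]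
    exact Subgroup.mul_mem _ (EBall_one_le_two (D.smul_adj hym hadj) (conj_mem_EBall D y hx))
      (Subgroup.inv_mem _ (EBall_one_le_two hadj hx))
  refine (P.comm_EBall hx' hV (u := g • f' (c + 2 + 2)) (k := 3) ?_ (by omega)).symm
  rw [← hgc]
  exact ((hw'.map D g).within D (i := c + 2 + 2) (j := c + 1) (k := 3) le_rfl (by omega) (by omega)
    (by omega))

/-- Uniqueness of the central involution from a critical walk. -/
theorem Dist.exists_one_of_crit {b : ℕ} (P : Dist G adj isB b) {f : ℕ → V} (h0 : isB (f 0))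
    (hw : Wk adj (b + 2) f) {e₀ : G} (he₀ : e₀ ∈ Ec G (f 0)) (hmove : e₀ • f (b + 2) ≠ f (b + 2))
    (key : ∀ e ∈ Ec G (f 0), e • f (b + 2) = f (b + 2) → e = 1) : ∃ z, One G adj isB b z := by
  have D := P.hy.tri
  refine exists_one P h0 (e₀ := e₀) fun e he => ?_
  by_cases hfix : e • f (b + 2) = f (b + 2)
  · exact Or.inl (key e he hfix)
  have hf : ∀ e ∈ Ec G (f 0), ∀ j, j ≤ b + 1 → e • f j = f j := fun e he j hj =>
    P.fix_wk hw (i := 0) (by omega) (by omega) h0 (by omega) (by omega) he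
  have himg := D.same_image (hf e he (b + 1) le_rfl) (hf e₀ he₀ (b + 1) le_rfl) (hf e he b (by omega))
    (hf e₀ he₀ b (by omega)) (D.symm (hw.adj_at b (by omega))) (hw.adj_at (b + 1) le_rfl)
    (hw.ne_at b le_rfl) hfix hmove
  exact Or.inr (inv_mul_eq_one.1 (key (e₀⁻¹ * e) (Subgroup.mul_mem _ (Subgroup.inv_mem _ he₀) he)
    (by rw [mul_smul, himg, inv_smul_smul]))).symm

theorem exists_odd_five {b : ℕ} (P : Dist G adj isB b) (hodd : b % 2 = 1) (h5 : 5 ≤ b) :
    ∃ z, Odd3 G adj isB b z := by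
  have hN := noA_of_five_le P hodd h5
  have H := P.hy
  have D := H.tri
  obtain ⟨f, h0, hw, e₀, he₀, hmove⟩ := P.exists_crit
  have hA : ¬ isB (f (b + 2)) := hw.not_isB_odd D h0 le_rfl (by omega)
  have h1 : ¬ isB (f 1) := hw.not_isB_odd D h0 (by omega) rfl
  obtain ⟨x, hx, hnc⟩ := P.exists_noncomm hodd hw h0 he₀ hmove
  have hx1 : x • f 1 ≠ f 1 := fun e => hnc (he₀.2.2 x (hN f h0 hw x hx e)).symm
  have hx2 : x • f 2 = f 2 := P.fixZ_wk hw (i := b + 2) le_rfl (by omega) hA (by omega) (by omega) hx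
  obtain ⟨z, O⟩ := P.exists_one_of_crit h0 hw he₀ hmove fun e he hfix => by
    refine P.eq_one_of_bend (show 2 ≤ b + 2 by omega) hw h0 he
      (H.commute_EBall_one hA (mem_Qk.2 ⟨hfix, fun y hy => ?_⟩) hx) hx2 hx1
    by_contra hym
    have hfb : e • f (b + 1) = f (b + 1) :=
      P.fix_wk hw (i := 0) (by omega) (by omega) h0 (by omega) (by omega) he
    have hW : Wk adj (b + 1 + 1) (cons y fun i => f (b + 2 - i)) :=
      ((hw.rev D).mono (show b + 1 ≤ b + 2 by omega)).cons_walk (D.symm hy) fun _ e' =>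
        hym (by rw [e']; exact hfb)
    refine hym (hN (cons y fun i => f (b + 2 - i)) (D.isB_of_adj hA hy) hW e ?_ hfix)
    show e ∈ EBall G adj isB 1 (f (b + 2 - (b + 1)))
    rw [show b + 2 - (b + 1) = 1 by omega]
    exact EBall_one_le D h1 (D.symm (hw.adj_at 0 (by omega))) he
  exact ⟨z, O, hodd, by omega, hN⟩

theorem exists_one_three (P : Dist G adj isB 3) : ∃ z, One G adj isB 3 z := by
  have H := P.hy
  have D := H.tri
  obtain ⟨f, h0, hw, e₀, he₀, hmove⟩ := P.exists_crit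
  have h5 : ¬ isB (f 5) := hw.not_isB_odd D h0 le_rfl rfl
  have h1 : ¬ isB (f 1) := hw.not_isB_odd D h0 (by omega) rfl
  have h3 : ¬ isB (f 3) := hw.not_isB_odd D h0 (by omega) rfl
  obtain ⟨x, hx, hnc⟩ := P.exists_noncomm rfl hw h0 he₀ hmove
  have hxw : ∀ w ∈ EBall G adj isB 1 (f 5), w • f 2 = f 2 := fun w hw' =>
    P.fixZ_wk hw (i := 5) le_rfl (by omega) h5 (by omega) (by omega) hw'
  have a01 := hw.adj_at 0 (by omega)
  have a12 := hw.adj_at 1 (by omega)
  have a23 := hw.adj_at 2 (by omega)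
  have a34 := hw.adj_at 3 (by omega)
  have a45 := hw.adj_at 4 (by omega)
  by_cases hex : ∃ e ∈ Ec G (f 0), e • f 5 = f 5 ∧ e ≠ 1
  swap
  · push Not at hex
    exact P.exists_one_of_crit h0 hw he₀ hmove hex
  obtain ⟨e, he, he5, he1⟩ := hex
  obtain ⟨y, hy, hym⟩ : ∃ y, adj (f 5) y ∧ e • y ≠ y := by
    by_contra hcon
    push Not at hcon
    have hc := H.commute_EBall_one h5 (mem_Qk.2 ⟨he5, hcon⟩) hx
    by_cases hx1 : x • f 1 = f 1
    · exact hnc (he₀.2.2 x (H.fix_of_commute (D.symm a01) he he1 hx1 hc.symm)).symm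
    · exact he1 (P.eq_one_of_bend (show 2 ≤ 5 by omega) hw h0 he hc (hxw x hx) hx1)
  have he4 : e • f 4 = f 4 := P.fix_wk hw (i := 0) (by omega) (by omega) h0 (by omega) (by omega) he
  have hy4 : f 4 ≠ y := fun h => hym (h ▸ he4)
  have hyB := D.isB_of_adj h5 hy
  have key : ∀ q ∈ Ec G y, q • f 1 = f 1 → q = 1 := by
    intro q hq hq1
    have hqZ := H.mem_EBall_one h5 hy hq
    have hc : e * q = q * e := by
      by_cases hq0 : q • f 0 = f 0
      · exact (he.2.2 q hq0).symm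
      have h20 : f 2 ≠ f 0 := (hw.ne_at 0 (by omega)).symm
      obtain ⟨d, hd, h2d, h0d⟩ := D.third a12 (D.symm a01) h20
      obtain ⟨d', hd', h4d, hyd⟩ := D.third (D.symm a45) hy hy4
      have m2 := H.mul_conj_mem h1 a12 (D.symm a01) hd h20 h2d h0d he hq1
        (D.eq_third hq1 (hxw q hqZ) a12 (D.symm a01) hd h20 h2d h0d hq0).1
      have m4 := H.mul_conj_mem h5 (D.symm a45) hy hd' hy4 h4d hyd hq he5
        (D.eq_third he5 he4 (D.symm a45) hy hd' hy4 h4d hyd hym).1
      have m4' := Subgroup.inv_mem _ m4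
      rw [eq_inv_of_sq hq.2.1] at m2
      rw [eq_inv_of_sq he.2.1, show (q * (e * q * e))⁻¹ = e * (q * e * q) by
        simp [eq_inv_of_sq he.2.1, eq_inv_of_sq hq.2.1, mul_assoc]] at m4'
      have := H.inf_Ec (α := f 3) (D.symm a23) a34 (hw.ne_at 2 (by omega)) m2 m4'
      rw [mul_eq_one_iff_inv_eq, eq_inv_of_sq he.2.1] at this
      calc e * q = q * e * q * q := by rw [← this]
        _ = q * e := by rw [mul_assoc, hq.2.1, mul_one]
    exact H.inf_Ec (D.symm a45) hy hy4 (H.mem_of_fixed h5 (D.symm a45) hy he5 he4 hym hqZ hc) hq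
  obtain ⟨q₀, hq₀, hq₀1⟩ := H.exists_ne_one hyB
  refine exists_one P hyB (e₀ := q₀) fun q hq => ?_
  by_cases hq1 : q • f 1 = f 1
  · exact Or.inl (key q hq hq1)
  have hW : Within adj 4 y (f 2) :=
    Within.head (D.symm hy) (hw.within D (i := 5) (j := 2) (k := 3) le_rfl (by omega) (by omega) (by omega))
  have hf : ∀ q ∈ Ec G y, q • f 2 = f 2 ∧ q • f 3 = f 3 := fun q hq =>
    ⟨P.fix hyB hq hW le_rfl, P.fix hyB hq
      (Within.head (n := 2) (D.symm hy) (hw.within D (i := 5) (j := 3) (k := 2) le_rfl (by omega) (by omega) (by omega)))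
      (by omega)⟩
  have himg := D.same_image (hf q hq).1 (hf q₀ hq₀).1 (hf q hq).2 (hf q₀ hq₀).2 a23 (D.symm a12)
    (hw.ne_at 1 (by omega)).symm hq1 fun h => hq₀1 (key q₀ hq₀ h)
  exact Or.inr (inv_mul_eq_one.1 (key (q₀⁻¹ * q) (Subgroup.mul_mem _ (Subgroup.inv_mem _ hq₀) hq)
    (by rw [mul_smul, himg, inv_smul_smul]))).symm

theorem exists_odd_three (P : Dist G adj isB 3) : ∃ z, Odd3 G adj isB 3 z := by
  obtain ⟨z, O⟩ := exists_one_three P
  refine ⟨z, O, rfl, le_rfl, fun f h0 hw x hx hx1 => ?_⟩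
  by_contra hx0
  have H := P.hy
  have D := H.tri
  have h5 : ¬ isB (f 5) := hw.not_isB_odd D h0 le_rfl rfl
  have a45 := hw.adj_at 4 (by omega)
  obtain ⟨y, _, hy, -, hy4, -, -⟩ := D.exists_others (D.symm a45)
  obtain ⟨p, hp, q, hq, rfl⟩ := H.exists_decomp h5 (D.symm a45) hy hy4 hx
  have hyB := D.isB_of_adj h5 hy
  have hp0 : ∀ j, j ≤ 5 → p • f j = f j := fun j hj =>
    P.fix_wk hw (i := 4) (by omega) hj (hw.isB_even D h0 (by omega) rfl) (by omega) (by omega) hp
  have hq1 : q • f 1 = f 1 := by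
    have := hx1
    rw [mul_smul] at this
    exact smul_left_cancel p (this.trans (hp0 1 (by omega)).symm)
  have hq0 : q • f 0 ≠ f 0 := fun e => hx0 (by rw [mul_smul, e, hp0 0 (by omega)])
  have hz : q = z y := (O.eq y hyB q hq).resolve_left fun e => hq0 (by rw [e, one_smul])
  rw [hz] at hq1 hq0
  obtain ⟨f', hf'⟩ := P.exists_crit
  obtain ⟨h0', hw', -⟩ := id hf'
  have hflB : Flip G adj 4 f' := ⟨hw'.mono (by omega), z (f' 0), f' 5, hw'.adj_at 4 le_rfl,
    fun _ => (hw'.ne_at 3 le_rfl).symm,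
    fun i hi => O.fix_wk hw' i (i := 0) (by omega) (by omega) h0' (by omega) (by omega),
    O.crit_move hf'⟩
  have hWr : Wk adj 4 fun i => f (5 - i) := (hw.rev D).mono (by omega)
  have hflA : Flip G adj 4 fun i => f (5 - i) := by
    refine ⟨hWr, z y, f 0, D.symm (hw.adj_at 0 (by omega)), fun _ => hw.ne_at 0 (by omega),
      fun i hi => ?_, hq0⟩
    rcases Nat.lt_or_ge i 4 with hi' | hi'
    · exact O.fix hyB (Within.head (D.symm hy) (hw.within D (i := 5) (j := 5 - i) (k := 3) le_rfl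
        (by omega) (by omega) (by omega))) le_rfl
    · rw [show i = 4 by omega]; exact hq1
  have hC := conj_of_flips D (n := 4) (by omega) ⟨⟨f', h0', hflB⟩, ⟨_, h5, hflA⟩⟩
  obtain ⟨g, hg⟩ := hC f' (cons y fun i => f (5 - i)) (hw'.mono le_rfl)
    (hWr.cons_walk (D.symm hy) fun _ => hy4.symm) (iff_of_true h0' hyB)
  have hg0 : g • f' 0 = y := hg 0 (by omega)
  have hg5 : g • f' 5 = f 1 := hg 5 le_rfl
  have := O.crit_move (hf'.map D g)
  rw [hg0, hg5] at this
  exact this hq1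

end CfsgLib.LocalEven.GoldBound
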