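import Cfsg.Agent.Lib.LocalEven.GoldBound.Walk

/-!
The case of a single central involution at every vertex of central type.
-/

set_option autoImplicit false
set_option linter.unusedSectionVars false
set_option linter.style.haveILetI false
set_option linter.unusedVariables false

namespace CfsgLib.LocalEven.GoldBound

variable {G : Type*} [Group G] {V : Type*} [MulAction G V]

/-- The amalgam has exactly one central involution `z u` at each `B`-vertex `u`. -/
structure One (G : Type*) [Group G] {V : Type*} [MulAction G V] (adj : V → V → Prop)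
    (isB : V → Prop) (b : ℕ) (z : V → G) : Prop where
  dist : Dist G adj isB b
  mem : ∀ u, isB u → z u ∈ Ec G u
  ne : ∀ u, isB u → z u ≠ 1
  eq : ∀ u, isB u → ∀ e ∈ Ec G u, e = 1 ∨ e = z u

variable {adj : V → V → Prop} {isB : V → Prop}

theorem exists_one {b : ℕ} (P : Dist G adj isB b) {u₀ : V} (h₀ : isB u₀) {e₀ : G}
    (he₀ : ∀ e ∈ Ec G u₀, e = 1 ∨ e = e₀) : ∃ z, One G adj isB b z := by
  classical
  have key : ∀ u, isB u → ∃ z ∈ Ec G u, z ≠ 1 ∧ ∀ e ∈ Ec G u, e = 1 ∨ e = z := by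
    intro u hu
    obtain ⟨a, _, _, _, _, _, ha, _, _, _⟩ := P.hy.tri.three u
    obtain ⟨a₀, _, _, _, _, _, ha₀, _, _, _⟩ := P.hy.tri.three u₀
    obtain ⟨g, hg, -⟩ := P.hy.tri.edge_trans hu h₀ ha ha₀
    obtain ⟨z, hz, hz1⟩ := P.hy.exists_ne_one hu
    refine ⟨z, hz, hz1, fun e he => ?_⟩
    by_cases h1 : e = 1
    · exact Or.inl h1
    have n1 : ∀ x : G, x ≠ 1 → g * x * g⁻¹ ≠ 1 := fun x hx e' => hx (conj_eq_one_iff.1 e')
    have e1 := (he₀ _ (hg ▸ conj_mem_Ec g he)).resolve_left (n1 e h1)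
    have e2 := (he₀ _ (hg ▸ conj_mem_Ec g hz)).resolve_left (n1 z hz1)
    exact Or.inr (mul_left_cancel (mul_right_cancel (e1.trans e2.symm)))
  choose z hz using key
  refine ⟨fun u => if h : isB u then z u h else 1, P, fun u hu => ?_, fun u hu => ?_,
    fun u hu => ?_⟩ <;> simp only [dif_pos hu]
  exacts [(hz u hu).1, (hz u hu).2.1, (hz u hu).2.2]

namespace One

variable {b : ℕ} {z : V → G} (O : One G adj isB b z)
include O

theorem tri : Tri G adj isB := O.dist.hy.tri

theorem sq {u : V} (hu : isB u) : z u * z u = 1 := (O.mem u hu).2.1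

theorem inv {u : V} (hu : isB u) : (z u)⁻¹ = z u := eq_inv_of_sq (O.sq hu)

theorem self {u : V} (hu : isB u) : z u • u = u := (O.mem u hu).1

theorem commute {u : V} (hu : isB u) {g : G} (hg : g • u = u) : g * z u = z u * g :=
  (O.mem u hu).2.2 g hg

theorem smul {u : V} (hu : isB u) (g : G) : g * z u * g⁻¹ = z (g • u) := by
  refine (O.eq _ ((O.tri.isB_smul g u).2 hu) _ (conj_mem_Ec g (O.mem u hu))).resolve_left fun e => ?_
  exact O.ne u hu (conj_eq_one_iff.1 e)

theorem fix {u w : V} (hu : isB u) {k : ℕ} (hw : Within adj k u w) (hk : k ≤ b + 1) :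
    z u • w = w :=
  O.dist.fix hu (O.mem u hu) hw hk

theorem fix_wk {n : ℕ} {f : ℕ → V} (hf : Wk adj n f) {i : ℕ} (j : ℕ) (hi : i ≤ n) (hj : j ≤ n)
    (hu : isB (f i)) (h1 : j ≤ i + (b + 1)) (h2 : i ≤ j + (b + 1)) : z (f i) • f j = f j :=
  O.dist.fix_wk hf hi hj hu h1 h2 (O.mem _ hu)

theorem comm {u w : V} (hu : isB u) (hw : isB w) {k : ℕ} (h : Within adj k u w) (hk : k ≤ b + 1) :
    z u * z w = z w * z u :=
  O.dist.comm hu (O.mem u hu) (O.mem w hw) h hk

theorem move {u w : V} (hu : isB u) {e : G} (he : e ∈ Ec G u) (h : e • w ≠ w) : z u • w ≠ w := by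
  rcases O.eq u hu e he with rfl | rfl
  · exact absurd (one_smul G w) h
  · exact h

theorem inj {u w : V} (hu : isB u) (hw : isB w) (h : Within adj 4 u w) (he : z u = z w) : u = w := by
  by_contra hne
  exact O.ne u hu (O.dist.eq_one_of_within hu hw hne h (O.mem u hu) (he ▸ O.mem w hw))

theorem fix_of_commute {u : V} (hu : isB u) {g : G} (hc : g * z u = z u * g)
    (h : Within adj 4 u (g • u)) : g • u = u :=
  (O.inj hu ((O.tri.isB_smul g u).2 hu) h
    (by rw [← O.smul hu g, hc, mul_inv_cancel_right])).symm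

theorem pair {α a c : V} {g : G} (hα : ¬ isB α) (ha : adj α a) (hc : adj α c) (hgv : g • α = α)
    (hga : g • a = a) (hgc : g • c ≠ c) : z c * (g * z c * g⁻¹) = z a := by
  have hac : a ≠ c := fun e => hgc (e ▸ hga)
  obtain ⟨d, hd, had, hcd⟩ := O.tri.third ha hc hac
  have hcB := O.tri.isB_of_adj hα hc
  refine (O.eq _ (O.tri.isB_of_adj hα ha) _ (O.dist.hy.mul_conj_mem hα ha hc hd hac had hcd
    (O.mem c hcB) hgv (O.tri.eq_third hgv hga ha hc hd hac had hcd hgc).1)).resolve_left fun e => ?_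
  rw [O.smul hcB, mul_eq_one_iff_inv_eq, O.inv hcB] at e
  exact hgc (O.inj hcB ((O.tri.isB_smul g c).2 hcB)
    ((Within.head (O.tri.symm hc) (Within.single (O.tri.smul_adj hgv hc))).mono (by omega)) e).symm

theorem third {α a c d : V} (hα : ¬ isB α) (ha : adj α a) (hc : adj α c) (hd : adj α d)
    (hac : a ≠ c) (had : a ≠ d) (hcd : c ≠ d) : z d = z a * z c := by
  obtain ⟨g, hgv, hga, hgc⟩ := O.tri.swap ha hc hd hac had hcd
  have := O.pair hα ha hc hgv hga (by rw [hgc]; exact hcd.symm)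
  rw [O.smul (O.tri.isB_of_adj hα hc), hgc] at this
  have h2 : z a * z c = z c * z a :=
    O.comm (O.tri.isB_of_adj hα ha) (O.tri.isB_of_adj hα hc)
      (Within.head (O.tri.symm ha) (Within.single hc)) (by have := O.dist.one_le; omega)
  rw [h2, ← this, ← mul_assoc, O.sq (O.tri.isB_of_adj hα hc), one_mul]

theorem mem_EBall' {n : ℕ} {v u : V} (hu : isB u) (h : Within adj n v u) :
    z u ∈ EBall G adj isB n v :=
  mem_EBall hu h (O.mem u hu)

theorem EBall_le' {n : ℕ} {v : V} {K : Subgroup G}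
    (h : ∀ u, isB u → Within adj n v u → z u ∈ K) : EBall G adj isB n v ≤ K :=
  EBall_le fun u hu hw e he => (O.eq u hu e he).elim (fun e1 => e1 ▸ K.one_mem) fun e1 => e1 ▸ h u hu hw

theorem crit_move {f : ℕ → V} (hf : Crit G adj isB b f) : z (f 0) • f (b + 2) ≠ f (b + 2) := by
  obtain ⟨h0, -, e, he, hm⟩ := hf
  exact O.move h0 he hm

theorem crit_of {f : ℕ → V} (h0 : isB (f 0)) (hw : Wk adj (b + 2) f)
    (h : z (f 0) • f (b + 2) ≠ f (b + 2)) : Crit G adj isB b f :=
  ⟨h0, hw, _, O.mem _ h0, h⟩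

/-- An involution `z` which maps a set of generators into the group normalizes it. -/
theorem conj_EBall {n : ℕ} {v : V} {g : G}
    (h : ∀ u, isB u → Within adj n v u → g * z u * g⁻¹ ∈ EBall G adj isB n v) {y : G}
    (hy : y ∈ EBall G adj isB n v) : g * y * g⁻¹ ∈ EBall G adj isB n v :=
  O.EBall_le' (K := (EBall G adj isB n v).comap (MulAut.conj g).toMonoidHom)
    (fun u hu hw => Subgroup.mem_comap.2 (h u hu hw)) hy

end One

/-- A subgroup of an edge group normalized by one stabilizer and an element moving it is trivial. -/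
theorem Tri.eq_bot_of_moved (D : Tri G adj isB) {u v : V} (h : adj u v) {N : Subgroup G}
    (hN : ∀ n ∈ N, n • u = u ∧ n • v = v)
    (hu : ∀ g : G, g • u = u → ∀ n ∈ N, g * n * g⁻¹ ∈ N) {g : G} (hg : g⁻¹ = g) (hgv : g • v = v)
    (hgu : g • u ≠ u) (hgN : ∀ n ∈ N, g * n * g⁻¹ ∈ N) : N = ⊥ := by
  let M : Subgroup G :=
    { carrier := {k | ∀ n ∈ N, k * n * k⁻¹ ∈ N ∧ k⁻¹ * n * k ∈ N}
      one_mem' := fun n hn => by simp [hn]
      mul_mem' := fun {a c} ha hc n hn => ⟨by
          have := (ha _ (hc n hn).1).1; simpa [mul_assoc] using this, by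
          have := (hc _ (ha n hn).2).2; simpa [mul_assoc] using this⟩
      inv_mem' := fun {a} ha n hn => ⟨by simpa using (ha n hn).2, by simpa using (ha n hn).1⟩ }
  refine D.eq_bot h hN hu fun k hk n hn => ?_
  exact ((D.stab_le (D.symm h) (H := M)
    (fun t htv htu n hn => ⟨hu t htu n hn, by simpa using hu t⁻¹ (inv_fix htu) n hn⟩)
    (fun n hn => ⟨hgN n hn, by have := hgN n hn; rw [hg] at this ⊢; exact this⟩) hgv hgu hk) n hn).1

end CfsgLib.LocalEven.GoldBound
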