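import Cfsg.Agent.Lib.LocalEven.GoldBound.OddMut

/-!
Pairs of vertices two steps beyond a vertex of central type.
-/

set_option autoImplicit false
set_option linter.unusedSectionVars false
set_option linter.style.haveILetI false
set_option linter.unusedVariables false

namespace CfsgLib.LocalEven.GoldBound

variable {G : Type*} [Group G] {V : Type*} [MulAction G V]

/-- The product of the involutions two steps beyond `β` in two branches lies in the `Z` of the third. -/
def Natl (G : Type*) [Group G] {V : Type*} [MulAction G V] (adj : V → V → Prop) (isB : V → Prop)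
    (z : V → G) : Prop :=
  ∀ β n n' n'' u u' : V, isB β → adj β n → adj β n' → adj β n'' → n ≠ n' → n ≠ n'' → n' ≠ n'' →
    adj n' u → adj n'' u' → u ≠ β → u' ≠ β → z u * z u' ∈ EBall G adj isB 1 n

variable {adj : V → V → Prop} {isB : V → Prop} {b : ℕ} {z : V → G}

namespace Odd3

variable (P : Odd3 G adj isB b z)
include P

theorem comm_ball_two {v : V} {x y : G} (hx : x ∈ EBall G adj isB 2 v)
    (hy : y ∈ EBall G adj isB 2 v) : x * y = y * x :=
  P.dist.comm_EBall hx hy (k := 0) rfl (by have := P.three_le; omega)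

theorem natl_of_one {β n n' n'' u u' : V} (hβ : isB β) (hn : adj β n) (hn' : adj β n')
    (hn'' : adj β n'') (h1 : n ≠ n') (h2 : n ≠ n'') (h3 : n' ≠ n'') (hu : adj n' u) (hu' : adj n'' u')
    (hub : u ≠ β) (hu'b : u' ≠ β) (h : z u * z u' ∈ EBall G adj isB 1 n) : Natl G adj isB z := by
  intro β₂ m m' m'' w w' hβ₂ hm hm' hm'' k1 k2 k3 hw hw' hwb hw'b
  have O := P.one
  have D := P.tri
  obtain ⟨g, hgβ, hgn⟩ := D.edge_trans hβ hβ₂ hn hm
  have key : ∀ x x' : V, adj β x → adj β x' → x ≠ n → x' ≠ n → x ≠ x' → ∀ v v' : V, adj x v →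
      adj x' v' → v ≠ β → v' ≠ β → g • x = m' → g • x' = m'' →
      z v * z v' ∈ EBall G adj isB 1 n → z w * z w' ∈ EBall G adj isB 1 m := by
    intro x x' hx hx' _ _ _ v v' hv hv' hvb hv'b e e' hmem
    have hx0 := D.not_isB_of_adj hβ hx
    have hx'0 := D.not_isB_of_adj hβ hx'
    have hm'0 := D.not_isB_of_adj hβ₂ hm'
    have hm''0 := D.not_isB_of_adj hβ₂ hm''
    have hgv : z (g • v) * z (g • v') ∈ EBall G adj isB 1 m := by
      have := conj_mem_EBall D g hmem
      rw [hgn, show g * (z v * z v') * g⁻¹ = (g * z v * g⁻¹) * (g * z v' * g⁻¹) by group,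
        O.smul (D.isB_of_adj hx0 hv) g, O.smul (D.isB_of_adj hx'0 hv') g] at this
      exact this
    have hzβ : z β₂ ∈ EBall G adj isB 1 m := O.mem_EBall' hβ₂ (Within.single (D.symm hm))
    have hne : g • v ≠ β₂ := fun e1 => hvb (smul_left_cancel g (e1.trans hgβ.symm))
    have hne' : g • v' ≠ β₂ := fun e1 => hv'b (smul_left_cancel g (e1.trans hgβ.symm))
    have c1 : ∀ y, adj m' y → z β₂ * z y = z y * z β₂ := fun y hy =>
      O.comm hβ₂ (D.isB_of_adj hm'0 hy) (Within.head hm' (Within.single hy)) (by have := P.three_le; omega)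
    rcases O.child hm'0 (D.symm hm') (e ▸ D.smul g hv) hw hne hwb with r | r <;>
      rcases O.child hm''0 (D.symm hm'') (e' ▸ D.smul g hv') hw' hne' hw'b with r' | r' <;> rw [r, r']
    · exact hgv
    · rw [← mul_assoc, ← c1 _ (e ▸ D.smul g hv), mul_assoc]
      exact Subgroup.mul_mem _ hzβ hgv
    · rw [mul_assoc]
      exact Subgroup.mul_mem _ hzβ hgv
    · rw [show z β₂ * z (g • v) * (z β₂ * z (g • v')) =
        z β₂ * (z (g • v) * z β₂) * z (g • v') by group, ← c1 _ (e ▸ D.smul g hv), ← mul_assoc,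
        O.sq hβ₂, one_mul]
      exact hgv
  have hgn' : adj β₂ (g • n') := hgβ ▸ D.smul g hn'
  have hgn'' : adj β₂ (g • n'') := hgβ ▸ D.smul g hn''
  have e1 : g • n' ≠ m := fun e => h1 (smul_left_cancel g (hgn.trans e.symm))
  have e2 : g • n'' ≠ m := fun e => h2 (smul_left_cancel g (hgn.trans e.symm))
  have e3 : g • n' ≠ g • n'' := fun e => h3 (smul_left_cancel g e)
  have c2 : z u * z u' = z u' * z u :=
    O.comm (D.isB_of_adj (D.not_isB_of_adj hβ hn') hu) (D.isB_of_adj (D.not_isB_of_adj hβ hn'') hu')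
      (Within.head (D.symm hu) (Within.head (D.symm hn') (Within.head hn'' (Within.single hu'))))
      (by have := P.three_le; omega)
  rcases D.cover hm hm' hm'' hgn' k1 k2 k3 with e | e | e
  · exact absurd e e1
  · rcases D.cover hm hm' hm'' hgn'' k1 k2 k3 with e' | e' | e'
    · exact absurd e' e2
    · exact absurd (e.trans e'.symm) e3
    · exact key n' n'' hn' hn'' h1.symm h2.symm h3 u u' hu hu' hub hu'b e e' h
  · rcases D.cover hm hm' hm'' hgn'' k1 k2 k3 with e' | e' | e'
    · exact absurd e' e2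
    · exact key n'' n' hn'' hn' h2.symm h1.symm h3.symm u' u hu' hu hu'b hub e' e (c2 ▸ h)
    · exact absurd (e.trans e'.symm) e3

theorem natl_pair (hN : Natl G adj isB z) {β n n' n'' u u' : V} (hβ : isB β) (hn : adj β n)
    (hn' : adj β n') (hn'' : adj β n'') (h1 : n' ≠ n) (h2 : n'' ≠ n) (hu : adj n' u) (hu' : adj n'' u')
    (hub : u ≠ β) (hu'b : u' ≠ β) : z u * z u' ∈ EBall G adj isB 1 n := by
  have O := P.one
  have D := P.tri
  by_cases e : n' = n''
  · subst e
    have hA := D.not_isB_of_adj hβ hn'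
    have huB := D.isB_of_adj hA hu
    rcases O.child hA (D.symm hn') hu hu' hub hu'b with r | r <;> rw [r]
    · rw [O.sq huB]; exact Subgroup.one_mem _
    · rw [← mul_assoc, O.comm huB hβ (Within.head (D.symm hu) (Within.single (D.symm hn')))
        (by have := P.three_le; omega), mul_assoc, O.sq huB, mul_one]
      exact O.mem_EBall' hβ (Within.single (D.symm hn))
  · exact hN β n n' n'' u u' hβ hn hn' hn'' h1.symm h2.symm e hu hu' hub hu'b

theorem ev_mem_of_natl (hN : Natl G adj isB z) {f : ℕ → V} (h : Mut G adj isB b z f) :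
    ev b z f ∈ EBall G adj isB 1 (f b) := by
  have O := P.one
  have D := P.tri
  obtain ⟨h0, hw, h1, h2⟩ := id h
  obtain ⟨hb, -, hm, -, hfb⟩ := P.mut_ends h
  have e : z (z (f 0) • f (b + 3)) = z (f 0) * z (f (b + 3)) * z (f 0) := by
    rw [← O.smul hb, O.inv h0]
  have := P.natl_pair hN hm (D.symm (hw.adj_at b (by omega))) (D.smul_adj hfb (hw.adj_at (b + 1) (by omega)))
    (hw.adj_at (b + 1) (by omega))
    (fun e' => hw.ne_at b (by omega) (smul_left_cancel (z (f 0))
      ((O.fix_wk hw b (i := 0) (by omega) (by omega) h0 (by omega) (by omega)).trans e'.symm)))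
    (hw.ne_at b (by omega)).symm (D.smul _ (hw.adj_at (b + 2) le_rfl)) (hw.adj_at (b + 2) le_rfl)
    (fun e' => hw.ne_at (b + 1) le_rfl (smul_left_cancel (z (f 0)) (hfb.trans e'.symm)))
    (hw.ne_at (b + 1) le_rfl).symm
  rw [e] at this
  rw [ev]
  simpa [mul_assoc] using this

theorem exists_mut : ∃ f, Mut G adj isB b z f := by
  have O := P.one
  have D := P.tri
  obtain ⟨f, hf⟩ := P.dist.exists_crit
  have hm := O.crit_move hf
  obtain ⟨h0, hw, -⟩ := hf
  obtain ⟨y, _, hy, -, hne, -, -⟩ := D.exists_others (D.symm (hw.adj_at (b + 1) le_rfl))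
  refine ⟨fun i => if i ≤ b + 2 then f i else y, P.mut_of_move ?_ ⟨fun i hi => ?_, fun i hi => ?_⟩ ?_⟩
  · simpa using h0
  · rcases Nat.lt_or_ge i (b + 2) with h | h
    · simp only [if_pos (show i ≤ b + 2 by omega), if_pos (show i + 1 ≤ b + 2 by omega)]
      exact hw.adj_at i (by omega)
    · obtain rfl : i = b + 2 := by omega
      simp only [if_pos (show b + 2 ≤ b + 2 by omega), if_neg (show ¬ b + 2 + 1 ≤ b + 2 by omega)]
      exact hy
  · rcases Nat.lt_or_ge i (b + 1) with h | h
    · simp only [if_pos (show i ≤ b + 2 by omega), if_pos (show i + 2 ≤ b + 2 by omega)]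
      exact hw.ne_at i (by omega)
    · obtain rfl : i = b + 1 := by omega
      simp only [if_pos (show b + 1 ≤ b + 2 by omega), if_neg (show ¬ b + 1 + 2 ≤ b + 2 by omega)]
      exact hne
  · simpa using hm

/-- An element fixing `v` and commuting with the involution two steps beyond fixes the path. -/
theorem fix_two_beyond {g : G} {v n u : V} (hv : adj v n) (hu : adj n u) (hvu : v ≠ u) (huB : isB u)
    (hgv : g • v = v) (hc : g * z u = z u * g) : g • n = n ∧ g • u = u := by
  have O := P.one
  have D := P.tri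
  have hgu : g • u = u := O.fix_of_commute huB hc
    (Within.head (D.symm hu) (Within.head (D.symm hv) (Within.head (D.smul_adj hgv hv)
      (Within.single (D.smul g hu)))))
  refine ⟨?_, hgu⟩
  by_contra hne
  have hgu' : adj (g • n) u := by
    have := D.smul g hu
    rwa [hgu] at this
  have hW : Wk adj 4 (cons u (cons n (cons v (cons (g • n) fun _ => u)))) := by
    refine (((Wk.cons_walk (n := 0) ⟨fun i hi => absurd hi (by omega),
      fun i hi => absurd hi (by omega)⟩ hgu' fun h => absurd h (by omega)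
      ).cons_walk (D.smul_adj hgv hv) fun _ => by exact hvu).cons_walk (D.symm hv) fun _ => Ne.symm hne).cons_walk
      (D.symm hu) fun _ => hvu.symm
  exact O.ne u huB (P.dist.eq_one_of_walk_four hW huB (O.mem u huB) (O.mem u huB))

end Odd3

end CfsgLib.LocalEven.GoldBound
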