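import Cfsg.Agent.Lib.LocalEven.GoldBound.Pairs

/-!
Critical distance three: the edge group has order at most `2 ^ 7`.
-/

set_option autoImplicit false
set_option linter.unusedSectionVars false
set_option linter.style.haveILetI false
set_option linter.unusedVariables false

namespace CfsgLib.LocalEven.GoldBound

variable {G : Type*} [Group G] {V : Type*} [MulAction G V]
variable {adj : V → V → Prop} {isB : V → Prop} {z : V → G}

theorem pair_identity {ζ η a c : G} (hζ : ζ * ζ = 1) (hη : η * η = 1) (h1 : Commute ζ a)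
    (h2 : Commute ζ c) (h3 : Commute η a) (h4 : Commute η c) (h5 : Commute ζ η) :
    ζ * a * (η * c * (ζ * a) * (η * c)) = a * (c * a * c) := by
  have k1 : Commute (a * c) ζ := (h1.mul_right h2).symm
  have k2 : Commute (a * c) η := (h3.mul_right h4).symm
  calc ζ * a * (η * c * (ζ * a) * (η * c))
      = ζ * (a * η) * c * ζ * (a * η) * c := by simp only [mul_assoc]
    _ = ζ * η * (a * c * ζ) * η * (a * c) := by rw [← h3.eq]; simp only [mul_assoc]
    _ = ζ * η * ζ * (a * c * η) * (a * c) := by rw [k1.eq]; simp only [mul_assoc]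
    _ = ζ * (η * ζ) * η * (a * c * (a * c)) := by rw [k2.eq]; simp only [mul_assoc]
    _ = (ζ * ζ) * (η * η) * (a * c * (a * c)) := by rw [← h5.eq]; simp only [mul_assoc]
    _ = a * (c * a * c) := by rw [hζ, hη]; simp [mul_assoc]

/-- Two steps beyond `a`, away from `α`. -/
def Beyond {V : Type*} (adj : V → V → Prop) (α a n u : V) : Prop :=
  adj a n ∧ adj n u ∧ n ≠ α ∧ u ≠ a

namespace Odd3

variable (P : Odd3 G adj isB 3 z)
include P

theorem ev_eq {f : ℕ → V} (h : Mut G adj isB 3 z f) : ev 3 z f = z (f 2) * z (f 4) := by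
  have O := P.one
  have D := P.tri
  have key : ∀ f : ℕ → V, Mut G adj isB 3 z f → ev 3 z f ≠ z (f 2) := by
    intro f h e
    obtain ⟨h0, hw, h1, h2⟩ := id h
    obtain ⟨hb, h2B, -, hf2, -⟩ := P.mut_ends h
    have hA : ¬ isB (f 1) := hw.not_isB_odd D h0 (by omega) rfl
    have a01 := hw.adj_at 0 (by omega)
    have a12 := hw.adj_at 1 (by omega)
    obtain ⟨c, hc, h2c, h0c⟩ := D.third a12 (D.symm a01) (hw.ne_at 0 (by omega)).symm
    set w := z (f (3 + 3)) with hwdef
    have e2 : z (w • f 0) = z c := by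
      rw [O.third hA a12 (D.symm a01) hc (hw.ne_at 0 (by omega)).symm h2c h0c, ← O.smul h0 w, ← e, ev,
        ← hwdef, O.inv hb]
      have hcm := P.comm_ball_two (P.ev_mem_two h)
        (O.mem_EBall' h0 (hw.within D (i := 2) (j := 0) (k := 2) (by omega) (by omega) (by omega) (by omega)))
      rw [ev, ← hwdef] at hcm
      rw [hcm, ← mul_assoc, O.sq h0, one_mul]
    have hW : Wk adj 4 (cons c (cons (f 1) (cons (f 2) (cons (w • f 1) fun _ => w • f 0)))) := by
      refine (((Wk.cons_walk (n := 0) ⟨fun i hi => absurd hi (by omega),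
        fun i hi => absurd hi (by omega)⟩ (D.smul w (D.symm a01)) fun h => absurd h (by omega)
        ).cons_walk (by have := D.smul w (D.symm a12); rwa [hf2] at this) fun _ => ?_).cons_walk
        a12 fun _ => ?_).cons_walk (D.symm hc) fun _ => h2c.symm
      · show f 2 ≠ w • f 0
        rw [← hf2]
        exact fun e => hw.ne_at 0 (by omega) (smul_left_cancel w e).symm
      · exact Ne.symm h2
    have hcB := D.isB_of_adj hA hc
    exact O.ne c hcB (P.dist.eq_one_of_walk_four hW hcB (O.mem c hcB)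
      (e2 ▸ O.mem _ ((D.isB_smul w _).2 h0)))
  obtain ⟨h0, hw, -, -⟩ := id h
  have h3A : ¬ isB (f 3) := hw.not_isB_odd D h0 (by omega) rfl
  have a23 := hw.adj_at 2 (by omega)
  have a34 := hw.adj_at 3 (by omega)
  have hmem := P.mem_Z_of_mem h3A (D.symm a23) a34 (hw.ne_at 2 (by omega)) (P.ev_mem_two h) (P.ev_mem_end h)
  obtain ⟨p, hp, q, hq, e⟩ := P.dist.hy.exists_decomp h3A (D.symm a23) a34 (hw.ne_at 2 (by omega)) hmem
  rcases O.eq _ (hw.isB_even D h0 (by omega) rfl) p hp with rfl | rfl <;>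
    rcases O.eq _ (hw.isB_even D h0 (by omega) rfl) q hq with rfl | rfl
  · exact absurd (by rw [e, one_mul]) (P.ev_ne_one h)
  · refine absurd ?_ (key _ (P.mut_rev h))
    show ev 3 z (fun i => f (3 + 3 - i)) = z (f 4)
    rw [one_mul] at e
    rw [← e]
    exact P.ev_symm h
  · exact absurd (by rw [e, mul_one]) (key f h)
  · exact e

theorem natl : Natl G adj isB z := by
  obtain ⟨f, h⟩ := P.exists_mut
  have O := P.one
  have D := P.tri
  obtain ⟨h0, hw, h1, h2⟩ := id h
  obtain ⟨hb, h2B, -, hf2, -⟩ := P.mut_ends h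
  have a01 := hw.adj_at 0 (by omega)
  have a12 := hw.adj_at 1 (by omega)
  have a23 := hw.adj_at 2 (by omega)
  set w := z (f (3 + 3))
  have hw3 : w • f 3 = f 3 := O.fix_wk hw 3 (i := 3 + 3) le_rfl (by omega) hb (by omega) (by omega)
  refine P.natl_of_one h2B a23 (D.symm a12) (D.smul_adj hf2 (D.symm a12))
    (hw.ne_at 1 (by omega)).symm (fun e => hw.ne_at 1 (by omega) (smul_left_cancel w (hw3.trans e)).symm)
    (Ne.symm h2) (D.symm a01) (D.smul w (D.symm a01)) (hw.ne_at 0 (by omega))
    (fun e => hw.ne_at 0 (by omega) (smul_left_cancel w (e.trans hf2.symm))) ?_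
  have h3A : ¬ isB (f 3) := hw.not_isB_odd D h0 (by omega) rfl
  rw [← O.smul h0 w, O.inv hb, show z (f 0) * (w * z (f 0) * w) = ev 3 z f from rfl, P.ev_eq h]
  exact Subgroup.mul_mem _ (O.mem_EBall' h2B (Within.single (D.symm a23)))
    (O.mem_EBall' (hw.isB_even D h0 (by omega) rfl) (Within.single (hw.adj_at 3 (by omega))))

/-- Pairs of vertices two steps beyond two neighbours of an `A`-vertex. -/
theorem pair3 {α a b c na nb u w : V} (hα : ¬ isB α) (ha : adj α a) (hb : adj α b) (hc : adj α c)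
    (hab : a ≠ b) (hac : a ≠ c) (hbc : b ≠ c) (hu : Beyond adj α a na u) (hw : Beyond adj α b nb w) :
    z u * (z w * z u * z w) = z c ∧ z u • nb ≠ nb := by
  obtain ⟨f, h⟩ := P.exists_mut
  have O := P.one
  have H := P.dist.hy
  have D := P.tri
  obtain ⟨han, hnu, hnα, hua⟩ := hu
  obtain ⟨hbn, hnw, hnβ, hwb⟩ := hw
  obtain ⟨h0, hW, h1, h2⟩ := id h
  have haB := D.isB_of_adj hα ha
  have hbB := D.isB_of_adj hα hb
  have huB := D.isB_of_adj (D.not_isB_of_adj haB han) hnu
  have hwB := D.isB_of_adj (D.not_isB_of_adj hbB hbn) hnw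
  have h2B : isB (f 2) := hW.isB_even D h0 (by omega) rfl
  have h4B : isB (f 4) := hW.isB_even D h0 (by omega) rfl
  have h6B : isB (f 6) := hW.isB_even D h0 le_rfl rfl
  obtain ⟨g, hga, hgα⟩ := D.edge_trans h2B haB (hW.adj_at 2 (by omega)) (D.symm ha)
  have hgb0 : adj α (g • f 4) := hgα ▸ D.smul g (hW.adj_at 3 (by omega))
  have hne4 : a ≠ g • f 4 := fun e => hW.ne_at 2 (by omega) (smul_left_cancel g (hga.trans e))
  obtain ⟨k, hkα, hka, hkb⟩ := D.trans_pair ha hgb0 ha hb hne4 hab
  have g3 : (k * g) • f 3 = α := by rw [mul_smul, hgα, hkα]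
  have g2 : (k * g) • f 2 = a := by rw [mul_smul, hga, hka]
  have g4 : (k * g) • f 4 = b := by rw [mul_smul, hkb]
  set k' := k * g
  have hζ : z u * z (k' • f 0) ∈ EBall G adj isB 1 α :=
    P.natl_pair P.natl haB (D.symm ha) han (g2 ▸ D.smul k' (D.symm (hW.adj_at 1 (by omega)))) hnα
      (g3 ▸ fun e => hW.ne_at 1 (by omega) (smul_left_cancel k' e)) hnu
      (D.smul k' (D.symm (hW.adj_at 0 (by omega)))) hua
      (g2 ▸ fun e => hW.ne_at 0 (by omega) (smul_left_cancel k' e))
  have hη : z w * z (k' • f 6) ∈ EBall G adj isB 1 α :=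
    P.natl_pair P.natl hbB (D.symm hb) hbn (g4 ▸ D.smul k' (hW.adj_at 4 (by omega))) hnβ
      (g3 ▸ fun e => hW.ne_at 3 (by omega) (smul_left_cancel k' e).symm) hnw
      (D.smul k' (hW.adj_at 5 (by omega))) hwb
      (g4 ▸ fun e => hW.ne_at 4 (by omega) (smul_left_cancel k' e).symm)
  have hk0 : isB (k' • f 0) := (D.isB_smul k' _).2 h0
  have hk6 : isB (k' • f 6) := (D.isB_smul k' _).2 h6B
  have hd : ∀ x, x = 0 ∨ x = 6 → Within adj 3 (k' • f x) α := fun x hx => by
    rw [← g3]
    exact (hW.within D (i := x) (j := 3) (k := 3) (by omega) (by omega) (by omega) (by omega)).smul D k'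
  have comm : ∀ x, x = 0 ∨ x = 6 → ∀ ζ ∈ EBall G adj isB 1 α, Commute ζ (z (k' • f x)) :=
    fun x hx ζ hζ => (P.dist.comm_Ec_EBall ((D.isB_smul k' _).2 (hW.isB_even D h0 (by omega) (by omega)))
      (O.mem _ ((D.isB_smul k' _).2 (hW.isB_even D h0 (by omega) (by omega)))) hζ (hd x hx) le_rfl).symm
  set ζ := z u * z (k' • f 0) with hζd
  set η := z w * z (k' • f 6) with hηd
  have eu : z u = ζ * z (k' • f 0) := by rw [hζd, mul_assoc, O.sq hk0, mul_one]
  have ew : z w = η * z (k' • f 6) := by rw [hηd, mul_assoc, O.sq hk6, mul_one]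
  have hval : z u * (z w * z u * z w) = z c := by
    rw [eu, ew, pair_identity (H.EBall_one_sq hα hζ) (H.EBall_one_sq hα hη) (comm 0 (Or.inl rfl) ζ hζ)
      (comm 6 (Or.inr rfl) ζ hζ) (comm 0 (Or.inl rfl) η hη) (comm 6 (Or.inr rfl) η hη)
      (H.EBall_one_comm hα hζ hη), O.third hα ha hb hc hab hac hbc, ← g2, ← g4, ← O.smul h0 k',
      ← O.smul h6B k', ← O.smul h2B k', ← O.smul h4B k']
    have := P.ev_eq h
    rw [ev] at this
    calc k' * z (f 0) * k'⁻¹ * (k' * z (f 6) * k'⁻¹ * (k' * z (f 0) * k'⁻¹) * (k' * z (f 6) * k'⁻¹))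
        = k' * (z (f 0) * (z (f 6) * z (f 0) * z (f 6))) * k'⁻¹ := by group
      _ = k' * (z (f 2) * z (f 4)) * k'⁻¹ := by rw [this]
      _ = _ := by group
  refine ⟨hval, fun hfix => ?_⟩
  have hW5 : Wk adj (3 + 2) (cons w (cons nb (cons b (cons α (cons a fun _ => na))))) := by
    refine ((((Wk.cons_walk (n := 0) ⟨fun i hi => absurd hi (by omega),
      fun i hi => absurd hi (by omega)⟩ han fun h => absurd h (by omega)
      ).cons_walk ha fun _ => by exact hnα.symm).cons_walk (D.symm hb) fun _ => by exact hab.symm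
      ).cons_walk (D.symm hbn) fun _ => by exact hnβ).cons_walk (D.symm hnw) fun _ => by exact hwb
  have hfw := P.noA _ hwB hW5 (z u) (O.mem_EBall' huB (Within.single hnu)) hfix
  have hcB := D.isB_of_adj hα hc
  refine O.ne c hcB ?_
  have hcm : z u * z w = z w * z u := O.commute hwB (by exact hfw)
  rw [← hval, ← hcm, mul_assoc (z u) (z w) (z w), O.sq hwB, mul_one, O.sq huB]

theorem beyond_B {α a n u : V} (hα : ¬ isB α) (ha : adj α a) (h : Beyond adj α a n u) : isB u :=
  P.tri.isB_of_adj (P.tri.not_isB_of_adj (P.tri.isB_of_adj hα ha) h.1) h.2.1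

theorem exists_beyond {α a : V} (ha : adj α a) : ∃ n u, Beyond adj α a n u := by
  obtain ⟨n, _, hn, -, hne, -, -⟩ := P.tri.exists_others (P.tri.symm ha)
  obtain ⟨u, _, hu, -, hne', -, -⟩ := P.tri.exists_others (P.tri.symm hn)
  exact ⟨n, u, hn, hu, hne.symm, hne'.symm⟩

theorem conj_fix_two {m : V} {y : G} (hy : y ∈ Fix G adj 2 m) {u : V} (hu : Within adj 2 m u) :
    y • u = u := mem_Fix.1 hy u hu

/-- The transfer between the two sides of a vertex of central type. -/
theorem transfer {m α α' a c a' c' nu nw u w : V} (hm : isB m) (hα : adj m α) (hα' : adj m α')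
    (hne : α ≠ α') (ha : adj α a) (ham : a ≠ m) (hc : adj α' c) (hcm : c ≠ m) (ha' : adj α a')
    (haa' : a ≠ a') (hma' : m ≠ a') (hc' : adj α' c') (hcc' : c ≠ c') (hmc' : m ≠ c')
    (hu : Beyond adj α a nu u) (hw : Beyond adj α' c nw w) {y : G} (hy : y ∈ Fix G adj 2 m)
    (hd : z w * (y * z w * y⁻¹) = 1 ∨ z w * (y * z w * y⁻¹) = z c') :
    z u * (y * z u * y⁻¹) = 1 ∨ z u * (y * z u * y⁻¹) = z a' := by
  have O := P.one
  have H := P.dist.hy
  have D := P.tri
  have hαA := D.not_isB_of_adj hm hα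
  have hα'A := D.not_isB_of_adj hm hα'
  have haB := D.isB_of_adj hαA ha
  have hcB := D.isB_of_adj hα'A hc
  have huB := P.beyond_B hαA ha hu
  have hwB := P.beyond_B hα'A hc hw
  have ha'B := D.isB_of_adj hαA ha'
  have hc'B := D.isB_of_adj hα'A hc'
  set v := z u
  set x := z w
  obtain ⟨p1, hmv⟩ := P.pair3 hαA ha (D.symm hα) ha' ham haa' hma' hu
    ⟨hα', hc, hne.symm, hcm⟩
  obtain ⟨p2, hmx⟩ := P.pair3 hα'A hc (D.symm hα') hc' hcm hcc' hmc' hw
    ⟨hα, ha, hne, ham⟩
  have ta' : z a' = z a * z m := O.third hαA ha (D.symm hα) ha' ham haa' hma'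
  have tc' : z c' = z c * z m := O.third hα'A hc (D.symm hα') hc' hcm hcc' hmc'
  -- distances
  have du : Within adj 3 u α := Within.head (D.symm hu.2.1) (Within.head (D.symm hu.1) (Within.single (D.symm ha)))
  have dw : Within adj 3 w α' := Within.head (D.symm hw.2.1) (Within.head (D.symm hw.1) (Within.single (D.symm hc)))
  have vfix : ∀ s, adj α s → v • s = s := fun s hs => O.fix huB (du.tail hs) le_rfl
  have xfix : ∀ s, adj α' s → x • s = s := fun s hs => O.fix hwB (dw.tail hs) le_rfl
  have vm := vfix m (D.symm hα)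
  have xm := xfix m (D.symm hα')
  have va : v • α = α := O.fix huB du (by omega)
  have xa : x • α' = α' := O.fix hwB dw (by omega)
  have mem1 : ∀ s, isB s → Within adj 2 m s → z s ∈ EBall G adj isB 2 m := fun s hs h => O.mem_EBall' hs h
  have Za := mem1 a haB (Within.head hα (Within.single ha))
  have Zc := mem1 c hcB (Within.head hα' (Within.single hc))
  have Zm := mem1 m hm (Within.refl 2 m)
  have Za' := mem1 a' ha'B (Within.head hα (Within.single ha'))
  have cab := fun {s t : G} (hs : s ∈ EBall G adj isB 2 m) (ht : t ∈ EBall G adj isB 2 m) =>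
    P.comm_ball_two hs ht
  have evc : v * z c * v = z a' * z c := by
    calc v * z c * v = v * (z c * v * z c) * (z c)⁻¹ := by group
      _ = z a' * z c := by rw [p1, O.inv hcB]
  have exa : x * z a * x = z c' * z a := by
    calc x * z a * x = x * (z a * x * z a) * (z a)⁻¹ := by group
      _ = z c' * z a := by rw [p2, O.inv haB]
  have exm : x * z m * x = z m := by
    rw [O.commute hm xm, mul_assoc, O.sq hwB, mul_one]
  have evm : v * z m * v = z m := by
    rw [O.commute hm vm, mul_assoc, O.sq huB, mul_one]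
  have hval : v • c = x • a := by
    refine O.inj ((D.isB_smul v c).2 hcB) ((D.isB_smul x a).2 haB) ?_ ?_
    · refine Within.trans (n := 2) (m := 2) (v := m) ?_ ?_
      · have := ((Within.head hα' (Within.single hc)).smul D v).symm D
        rwa [vm] at this
      · have := (Within.head hα (Within.single ha)).smul D x
        rwa [xm] at this
    · rw [← O.smul hcB v, ← O.smul haB x, O.inv huB, O.inv hwB, evc, exa, ta', tc',
        cab (Subgroup.mul_mem _ Za Zm) Zc, mul_assoc (z c) (z m), cab Zm Za]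
  have hηZ : v * (y * v * y⁻¹) ∈ EBall G adj isB 1 α := by
    have hya : y • a = a := P.conj_fix_two hy (Within.head hα (Within.single ha))
    have hyα : y • α = α := P.conj_fix_two hy ((Within.single hα).mono (by omega))
    rw [O.smul huB y]
    exact P.natl_pair P.natl haB (D.symm ha) hu.1 (D.smul_adj hya hu.1) hu.2.2.1
      (fun e => hu.2.2.1 (smul_left_cancel y (e.trans hyα.symm))) hu.2.1 (D.smul y hu.2.1) hu.2.2.2
      (fun e => hu.2.2.2 (smul_left_cancel y (e.trans hya.symm)))
  set η := v * (y * v * y⁻¹) with hη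
  set δ := x * (y * x * y⁻¹) with hδ
  have yv : y * v * y⁻¹ = v * η := by rw [hη, ← mul_assoc v v, O.sq huB, one_mul]
  have yx : y * x * y⁻¹ = x * δ := by rw [hδ, ← mul_assoc x x, O.sq hwB, one_mul]
  have vη : η * v = v * η := (commute_EBall (fun s hs hsα e he =>
    he.2.2 v (vfix s (H.adj_of_within_one hαA hs hsα))) hηZ).symm
  have hδZ : δ ∈ EBall G adj isB 1 α' := by
    rcases hd with e | e <;> rw [e]
    exacts [Subgroup.one_mem _, O.mem_EBall' hc'B (Within.single hc')]
  have xδ : δ * x = x * δ := (commute_EBall (fun s hs hsα e he =>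
    he.2.2 x (xfix s (H.adj_of_within_one hα'A hs hsα))) hδZ).symm
  have Bη : η ∈ EBall G adj isB 2 m := EBall_one_le_two hα hηZ
  have Bδ : δ ∈ EBall G adj isB 2 m := EBall_one_le_two hα' hδZ
  set L := x * η * x * η * δ
  set M := v * δ * v * δ * η
  have cδη := cab Bδ Bη
  have ew1 : y * (v * x * v) * y⁻¹ = v * x * v * (v * L * v) := by
    calc y * (v * x * v) * y⁻¹ = (y * v * y⁻¹) * (y * x * y⁻¹) * (y * v * y⁻¹) := by group
      _ = v * η * (x * δ) * (η * v) := by rw [yv, yx, vη]
      _ = v * η * x * (δ * η) * v := by simp only [mul_assoc]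
      _ = v * η * x * (η * δ) * v := by rw [cδη]
      _ = _ := by
        simp only [L, mul_assoc]
        rw [← mul_assoc v v, O.sq huB, one_mul, ← mul_assoc x x, O.sq hwB, one_mul]
  have ew2 : y * (x * v * x) * y⁻¹ = x * v * x * (x * M * x) := by
    calc y * (x * v * x) * y⁻¹ = (y * x * y⁻¹) * (y * v * y⁻¹) * (y * x * y⁻¹) := by group
      _ = x * δ * (v * η) * (δ * x) := by rw [yv, yx, xδ]
      _ = x * δ * v * (η * δ) * x := by simp only [mul_assoc]
      _ = x * δ * v * (δ * η) * x := by rw [cδη]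
      _ = _ := by
        simp only [M, mul_assoc]
        rw [← mul_assoc x x, O.sq hwB, one_mul, ← mul_assoc v v, O.sq huB, one_mul]
  -- the two conjugates differ by something fixed by `y`
  obtain ⟨α'', hα'', hαα'', hα'α''⟩ := D.third hα hα' hne
  have evα : v • α' = α'' := (D.eq_third vm va hα hα' hα'' hne hαα'' hα'α'' hmv).1
  have exα : x • α = α'' := (D.eq_third xm xa hα' hα hα'' hne.symm hα'α'' hαα'' hmx).1
  set d := v • c
  have hd1 : adj α'' d := evα ▸ D.smul v hc
  have hα''A := D.not_isB_of_adj hm hα''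
  have hθ : v * x * v * (x * v * x) ∈ EBall G adj isB 1 α'' := by
    have e1 : v * x * v = z (v • w) := by rw [← O.smul hwB v, O.inv huB]
    have e2 : x * v * x = z (x • u) := by rw [← O.smul huB x, O.inv hwB]
    rw [e1, e2]
    exact P.natl_pair P.natl ((D.isB_smul v c).2 hcB) (D.symm hd1) (D.smul v hw.1)
      (by rw [show v • c = x • a from hval]; exact D.smul x hu.1) (fun e => hw.2.2.1 (smul_left_cancel v (e.trans evα.symm)))
      (fun e => hu.2.2.1 (smul_left_cancel x (e.trans exα.symm))) (D.smul v hw.2.1) (D.smul x hu.2.1)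
      (fun e => hw.2.2.2 (smul_left_cancel v e))
      (fun e => hu.2.2.2 (smul_left_cancel x (e.trans hval)))
  have hθy : y * (v * x * v * (x * v * x)) * y⁻¹ = v * x * v * (x * v * x) := by
    rw [commute_EBall (fun s hs hsα e he => he.2.2 y (P.conj_fix_two hy
      (Within.head hα'' hsα))) hθ, mul_inv_cancel_right]
  have hLM : v * L * v = x * M * x := by
    have s2 : (x * v * x) * (x * v * x) = 1 := by
      simp only [mul_assoc]
      rw [← mul_assoc x x, O.sq hwB, one_mul, ← mul_assoc v v, O.sq huB, one_mul, O.sq hwB]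
    have h := hθy
    rw [show y * (v * x * v * (x * v * x)) * y⁻¹ =
      (y * (v * x * v) * y⁻¹) * (y * (x * v * x) * y⁻¹) by group] at h
    have s3 : (y * (x * v * x) * y⁻¹) * (y * (x * v * x) * y⁻¹) = 1 := by
      calc _ = y * ((x * v * x) * (x * v * x)) * y⁻¹ := by group
        _ = 1 := by rw [s2]; group
    have h' : y * (v * x * v) * y⁻¹ = v * x * v * (x * v * x) * (y * (x * v * x) * y⁻¹) := by
      rw [← h, mul_assoc _ (y * (x * v * x) * y⁻¹), s3, mul_one]
    rw [ew1, ew2, mul_assoc (v * x * v), ← mul_assoc (x * v * x) (x * v * x), s2, one_mul] at h'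
    exact mul_left_cancel h'
  -- the four cases
  obtain ⟨r, hr, t, ht, e⟩ := H.exists_decomp hαA ha' (D.symm hα) hma'.symm hηZ
  rcases O.eq m hm t ht with rfl | rfl
  · rcases O.eq a' ha'B r hr with rfl | rfl
    · exact Or.inl (by rw [e, one_mul])
    · exact Or.inr (by rw [e, mul_one])
  exfalso
  have sm := O.sq hm
  have e2 : z a' * z m = z a := by rw [ta', mul_assoc, sm, mul_one]
  have evc' : v * z c' * v = z a' * z c * z m := by
    rw [tc', show v * (z c * z m) * v = v * z c * v * (v⁻¹ * z m * v) by group, evc, O.inv huB, evm]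
  have hMm : z a' * z c * z m * z c' = z a' := by
    rw [tc']
    calc z a' * z c * z m * (z c * z m) = z a' * (z c * (z m * z c) * z m) := by simp only [mul_assoc]
      _ = z a' * (z c * (z c * z m) * z m) := by rw [cab Zm Zc]
      _ = z a' := by rw [← mul_assoc (z c) (z c), O.sq hcB, one_mul, sm, mul_one]
  have hsplit : (L = 1 ∧ M = z m) ∨ (L = z c' ∧ M = z a) := by
    rcases O.eq a' ha'B r hr with rfl | rfl <;> rcases hd with e' | e'
    · left
      simp only [L, M]
      rw [show η = z m by rw [e, one_mul], show δ = 1 from e', exm, sm, mul_one, mul_one, mul_one,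
        O.sq huB, one_mul]
      exact ⟨rfl, rfl⟩
    · right
      simp only [L, M]
      rw [show η = z m by rw [e, one_mul], show δ = z c' from e', exm, sm, one_mul, evc', hMm, e2]
      exact ⟨rfl, rfl⟩
    · right
      simp only [L, M]
      rw [show η = z a from e.trans e2, show δ = 1 from e', exa, mul_one, mul_one, mul_one, O.sq huB,
        one_mul, mul_assoc (z c'), O.sq haB, mul_one]
      exact ⟨rfl, rfl⟩
    · left
      simp only [L, M]
      rw [show η = z a from e.trans e2, show δ = z c' from e', exa, mul_assoc (z c') (z a) (z a),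
        O.sq haB, mul_one, O.sq hc'B, evc', hMm, ta', cab (Subgroup.mul_mem _ Za Zm) Za, ← mul_assoc,
        O.sq haB, one_mul]
      exact ⟨rfl, rfl⟩
  have hm1 : z m = 1 := by
    rcases hsplit with ⟨eL, eM⟩ | ⟨eL, eM⟩ <;> rw [eL, eM] at hLM
    · rw [mul_one, O.sq huB, exm] at hLM
      exact hLM.symm
    · rw [evc', exa, ta', tc'] at hLM
      have h' : z a * z m * z c * z m = z a * (z m * z c) := by
        rw [hLM, cab Zc Zm, cab (Subgroup.mul_mem _ Zm Zc) Za]
      calc z m = (z a * (z m * z c))⁻¹ * (z a * z m * z c * z m) := by group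
        _ = 1 := by rw [h', inv_mul_cancel]
  exact O.ne m hm hm1

end Odd3

end CfsgLib.LocalEven.GoldBound
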