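import Cfsg.Agent.Lib.LocalEven.GoldBound.Basic

/-!
The critical distance, conjugacy of walks, and central involutions of vertices at distance four.
-/

set_option autoImplicit false
set_option linter.unusedSectionVars false
set_option linter.style.haveILetI false
set_option linter.unusedVariables false

namespace CfsgLib.LocalEven.GoldBound

variable {G : Type*} [Group G] {V : Type*} [MulAction G V]

/-- A critical walk. -/
def Crit (G : Type*) [Group G] {V : Type*} [MulAction G V] (adj : V → V → Prop) (isB : V → Prop)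
    (b : ℕ) (f : ℕ → V) : Prop :=
  isB (f 0) ∧ Wk adj (b + 2) f ∧ ∃ e ∈ Ec G (f 0), e • f (b + 2) ≠ f (b + 2)

/-- The hypotheses with a critical distance. -/
structure Dist (G : Type*) [Group G] {V : Type*} [MulAction G V] (adj : V → V → Prop)
    (isB : V → Prop) (b : ℕ) : Prop where
  hy : Hy G adj isB
  one_le : 1 ≤ b
  fixZ : ∀ α : V, ¬ isB α → ∀ z ∈ EBall G adj isB 1 α, ∀ w, Within adj b α w → z • w = w
  exists_crit : ∃ f, Crit G adj isB b f

/-- A flip: an element fixing a walk pointwise and moving a further vertex. -/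
def Flip (G : Type*) [Group G] {V : Type*} [MulAction G V] (adj : V → V → Prop) (n : ℕ)
    (f : ℕ → V) : Prop :=
  Wk adj n f ∧ ∃ (g : G) (y : V), adj (f n) y ∧ (1 ≤ n → y ≠ f (n - 1)) ∧
    (∀ i, i ≤ n → g • f i = f i) ∧ g • y ≠ y

/-- Walks of length `n` with starts of one type are conjugate. -/
def Conj (G : Type*) [Group G] {V : Type*} [MulAction G V] (adj : V → V → Prop) (isB : V → Prop)
    (n : ℕ) : Prop :=
  ∀ f f' : ℕ → V, Wk adj n f → Wk adj n f' → (isB (f 0) ↔ isB (f' 0)) →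
    ∃ g : G, ∀ i, i ≤ n → g • f i = f' i

/-- Flips at both types. -/
def Flips (G : Type*) [Group G] {V : Type*} [MulAction G V] (adj : V → V → Prop) (isB : V → Prop)
    (n : ℕ) : Prop :=
  (∃ f, isB (f 0) ∧ Flip G adj n f) ∧ ∃ f, ¬ isB (f 0) ∧ Flip G adj n f

variable {adj : V → V → Prop} {isB : V → Prop}

theorem Flip.down {n k : ℕ} {f : ℕ → V} (h : Flip G adj (k + n) f) (hn : 1 ≤ n) :
    Flip G adj n fun i => f (k + i) := by
  obtain ⟨hf, g, y, hy, hne, hfix, hmove⟩ := h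
  refine ⟨hf.shift k n le_rfl, g, y, hy, fun _ => ?_, fun i hi => hfix (k + i) (by omega), hmove⟩
  show y ≠ f (k + (n - 1))
  rw [show k + (n - 1) = k + n - 1 by omega]
  exact hne (by omega)

theorem Flips.down (D : Tri G adj isB) {n : ℕ} (h : Flips G adj isB (n + 1)) (hn : 1 ≤ n) :
    Flips G adj isB n := by
  obtain ⟨⟨f, hf0, hf⟩, f', hf'0, hf'⟩ := h
  have e1 : adj (f 0) (f 1) := hf.1.adj_at 0 (by omega)
  have e2 : adj (f' 0) (f' 1) := hf'.1.adj_at 0 (by omega)
  refine ⟨⟨fun i => f' (1 + i), D.isB_of_adj hf'0 e2, ?_⟩,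
    ⟨fun i => f (1 + i), D.not_isB_of_adj hf0 e1, ?_⟩⟩
  · exact Flip.down (k := 1) (Nat.add_comm n 1 ▸ hf') hn
  · exact Flip.down (k := 1) (Nat.add_comm n 1 ▸ hf) hn

theorem conj_one (D : Tri G adj isB) : Conj G adj isB 1 := by
  intro f f' hf hf' h
  have e1 := hf.adj_at 0 le_rfl
  have e2 := hf'.adj_at 0 le_rfl
  have fin : ∀ g : G, g • f 0 = f' 0 → g • f 1 = f' 1 → ∀ i, i ≤ 1 → g • f i = f' i := by
    intro g h0 h1 i hi
    rcases Nat.le_one_iff_eq_zero_or_eq_one.1 hi with rfl | rfl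
    exacts [h0, h1]
  by_cases hb : isB (f 0)
  · obtain ⟨g, g0, g1⟩ := D.edge_trans hb (h.1 hb) e1 e2
    exact ⟨g, fin g g0 g1⟩
  · obtain ⟨g, g1, g0⟩ := D.edge_trans (D.isB_of_adj hb e1) (D.isB_of_adj (fun hb' => hb (h.2 hb')) e2)
      (D.symm e1) (D.symm e2)
    exact ⟨g, fin g g0 g1⟩

theorem conj_of_flips (D : Tri G adj isB) : ∀ {n : ℕ}, 1 ≤ n → Flips G adj isB n →
    Conj G adj isB (n + 1) := by
  intro n
  induction n with
  | zero => intro h; omega
  | succ n ih =>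
    intro _ hfl
    have hprev : Conj G adj isB (n + 1) := by
      rcases Nat.eq_zero_or_pos n with rfl | hn
      · exact conj_one D
      · exact ih hn (hfl.down D hn)
    intro f f' hf hf' hty
    obtain ⟨g, hg⟩ := hprev f f' (hf.mono (by omega)) (hf'.mono (by omega)) hty
    by_cases hend : g • f (n + 2) = f' (n + 2)
    · refine ⟨g, fun i hi => ?_⟩
      rcases Nat.lt_or_ge i (n + 2) with h | h
      · exact hg i (by omega)
      · rw [show i = n + 2 by omega, hend]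
    obtain ⟨fl, hfl0, hflip⟩ : ∃ fl, (isB (fl 0) ↔ isB (f' 0)) ∧ Flip G adj (n + 1) fl := by
      by_cases hb : isB (f' 0)
      · obtain ⟨fl, h0, h1⟩ := hfl.1; exact ⟨fl, iff_of_true h0 hb, h1⟩
      · obtain ⟨fl, h0, h1⟩ := hfl.2; exact ⟨fl, iff_of_false h0 hb, h1⟩
    obtain ⟨hflw, h, y, hy, hyne, hfix, hmove⟩ := hflip
    obtain ⟨k, hk⟩ := hprev fl f' hflw (hf'.mono (by omega)) hfl0
    set h' := k * h * k⁻¹
    have hfix' : ∀ i, i ≤ n + 1 → h' • f' i = f' i := by
      intro i hi; rw [← hk i hi, conj_smul_smul, hfix i hi]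
    have hmove' : h' • (k • y) ≠ k • y := by
      rw [conj_smul_smul]; exact fun e => hmove (smul_left_cancel k e)
    set x := g • f (n + 2) with hx
    have hadjx : adj (f' (n + 1)) x := by
      rw [← hg (n + 1) le_rfl]; exact D.smul g (hf.adj_at (n + 1) le_rfl)
    have hxa : f' n ≠ x := by
      rw [hx, ← hg n (by omega)]
      exact fun e => hf.ne_at n le_rfl (smul_left_cancel g e)
    have ha : adj (f' (n + 1)) (f' n) := D.symm (hf'.adj_at n (by omega))
    have hx' := hf'.adj_at (n + 1) le_rfl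
    have hxa' : f' n ≠ f' (n + 2) := hf'.ne_at n le_rfl
    have hf'n := hfix' n (by omega)
    have hhx : h' • x ≠ x := fun e =>
      hmove' (D.fix_third (hfix' _ le_rfl) hf'n e ha hadjx hxa
        (by rw [← hk (n + 1) le_rfl]; exact D.smul k hy))
    refine ⟨h' * g, fun i hi => ?_⟩
    rcases Nat.lt_or_ge i (n + 2) with hi' | hi'
    · rw [mul_smul, hg i (by omega), hfix' i (by omega)]
    · rw [show i = n + 2 by omega, mul_smul]
      exact (D.eq_third (hfix' _ le_rfl) hf'n ha hadjx hx' hxa hxa' hend hhx).1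

theorem Hy.flips_two (H : Hy G adj isB) [Nonempty V] : Flips G adj isB 2 := by
  have key : ∀ u v : V, adj u v → ∃ f, (isB (f 0) ↔ isB v) ∧ Flip G adj 2 f := by
    intro u v huv
    obtain ⟨x, _, hx, -, hvx, -, -⟩ := H.tri.exists_others huv
    obtain ⟨y, _, hy, -, huy, -, -⟩ := H.tri.exists_others (H.tri.symm huv)
    obtain ⟨q, hq, hqy⟩ := H.exists_Qk_move huv hy huy.symm
    have hW1 : Wk adj 1 (cons u (fun _ => v)) :=
      ⟨fun i hi => by rw [show i = 0 by omega]; exact huv, fun i hi => absurd hi (by omega)⟩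
    have hW : Wk adj 2 (cons x (cons u (fun _ => v))) :=
      hW1.cons_walk (H.tri.symm hx) fun _ => hvx.symm
    refine ⟨_, ?_, hW, q, y, hy, fun _ => huy.symm, fun i hi => ?_, hqy⟩
    · have := hW.isB_iff H.tri (i := 2) le_rfl
      simp only [cons_succ, cons_zero] at this ⊢
      tauto
    · obtain ⟨h1, h2⟩ := mem_Qk.1 hq
      interval_cases i
      exacts [h2 x hx, h1, h2 v huv]
  obtain ⟨v₀⟩ := ‹Nonempty V›
  obtain ⟨a, b, c, _, _, _, ha, _, _, _⟩ := H.tri.three v₀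
  obtain ⟨f, hf0, hf⟩ := key v₀ a ha
  obtain ⟨f', hf'0, hf'⟩ := key a v₀ (H.tri.symm ha)
  have := H.tri.alt ha
  by_cases hb : isB a
  · exact ⟨⟨f, hf0.2 hb, hf⟩, f', fun h => this.1 (hf'0.1 h) hb, hf'⟩
  · exact ⟨⟨f', hf'0.2 (this.2 hb), hf'⟩, f, fun h => hb (hf0.1 h), hf⟩

theorem Hy.conj_three (H : Hy G adj isB) [Nonempty V] : Conj G adj isB 3 :=
  conj_of_flips H.tri (by norm_num) H.flips_two

theorem Hy.exists_dist (H : Hy G adj isB) [Nonempty V] : ∃ b, Dist G adj isB b := by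
  classical
  let Fz : ℕ → Prop := fun r => ∀ α : V, ¬ isB α → ∀ z ∈ EBall G adj isB 1 α, ∀ w,
    Within adj r α w → z • w = w
  have h1 : Fz 1 := by
    intro α hα z hz w hw
    obtain ⟨hzα, hzn⟩ := mem_Qk.1 (H.EBall_one_le_Qk hα hz)
    rcases hw with rfl | ⟨x, hx, rfl⟩
    exacts [hzα, hzn x hx]
  have hbd : ∃ r, ¬ Fz r := by
    obtain ⟨v₀⟩ := ‹Nonempty V›
    obtain ⟨a, _, _, _, _, _, ha, _, _, _⟩ := H.tri.three v₀
    obtain ⟨u, α, hu, hα⟩ : ∃ u α, isB u ∧ adj u α := by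
      by_cases hb : isB v₀
      · exact ⟨v₀, a, hb, ha⟩
      · exact ⟨a, v₀, H.tri.isB_of_adj hb ha, H.tri.symm ha⟩
    obtain ⟨e, he, he1⟩ := H.exists_ne_one hu
    obtain ⟨w, hw⟩ : ∃ w, e • w ≠ w := by
      by_contra hcon; push Not at hcon; exact he1 (H.tri.faithful e hcon)
    obtain ⟨n, hn⟩ := Within.exists_of_conn H.tri u w
    exact ⟨n + 1, fun hF => hw (hF α (H.tri.not_isB_of_adj hu hα) e
      (H.mem_EBall_one (H.tri.not_isB_of_adj hu hα) (H.tri.symm hα) he) w
      (Within.head (H.tri.symm hα) hn))⟩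
  have hr := Nat.find_spec hbd
  have hr2 : 2 ≤ Nat.find hbd := by
    by_contra hlt
    exact hr fun α hα z hz w hw => h1 α hα z hz w (hw.mono (by omega))
  obtain ⟨b, hb⟩ : ∃ b, Nat.find hbd = b + 1 := ⟨Nat.find hbd - 1, by omega⟩
  have hfix : Fz b := by
    by_contra hc; have := Nat.find_min' hbd hc; omega
  rw [hb] at hr
  obtain ⟨α, hα, z, hz, w, hw, hne⟩ : ∃ α, ¬ isB α ∧ ∃ z ∈ EBall G adj isB 1 α, ∃ w,
      Within adj (b + 1) α w ∧ z • w ≠ w := by
    by_contra hcon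
    push Not at hcon
    exact hr hcon
  obtain ⟨a, a', _, haa, -, -, ha, ha', -, -⟩ := H.tri.three α
  obtain ⟨x, hx, y, hy, rfl⟩ := H.exists_decomp hα ha ha' haa hz
  obtain ⟨u, e, hu, he, hmove⟩ : ∃ u e, adj α u ∧ e ∈ Ec G u ∧ e • w ≠ w := by
    by_cases hxw : x • w = w
    · exact ⟨a', y, ha', hy, fun e => hne (by rw [mul_smul, e, hxw])⟩
    · exact ⟨a, x, ha, hx, hxw⟩
  have huB := H.tri.isB_of_adj hα hu
  obtain ⟨m, hm, f, hf, hf0, hfm⟩ := (Within.head (H.tri.symm hu) hw).exists_walk H.tri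
  have hm2 : m = b + 2 := by
    by_contra hne'
    refine hmove ?_
    rw [← hfm]
    rcases Nat.eq_zero_or_pos m with rfl | hpos
    · rw [hf0]; exact he.1
    have h1' : ¬ isB (f 1) := H.tri.not_isB_of_adj (hf0 ▸ huB) (hf.adj_at 0 (by omega))
    exact hfix (f 1) h1' e (H.mem_EBall_one h1' (hf0 ▸ H.tri.symm (hf.adj_at 0 (by omega))) he)
      _ (hf.within H.tri (k := b) (by omega) le_rfl (by omega) (by omega))
  subst hm2
  exact ⟨b, H, by omega, hfix, f, hf0 ▸ huB, hf, e, hf0 ▸ he, hfm ▸ hmove⟩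

namespace Dist

variable {b : ℕ} (P : Dist G adj isB b)
include P

theorem nonempty : Nonempty V := ⟨(P.exists_crit.choose) 0⟩

theorem conj_three : Conj G adj isB 3 :=
  haveI := P.nonempty
  P.hy.conj_three

theorem fix {u w : V} {e : G} (hu : isB u) (he : e ∈ Ec G u) {k : ℕ} (hw : Within adj k u w)
    (hk : k ≤ b + 1) : e • w = w := by
  rcases (hw.mono hk) with rfl | ⟨x, hx, hx'⟩
  · exact he.1
  · have hxA := P.hy.tri.not_isB_of_adj hu hx
    exact P.fixZ x hxA e (P.hy.mem_EBall_one hxA (P.hy.tri.symm hx) he) w hx'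

theorem fix_wk {n : ℕ} {f : ℕ → V} (hf : Wk adj n f) {i j : ℕ} (hi : i ≤ n) (hj : j ≤ n)
    (hu : isB (f i)) (h1 : j ≤ i + (b + 1)) (h2 : i ≤ j + (b + 1)) {e : G} (he : e ∈ Ec G (f i)) :
    e • f j = f j :=
  P.fix hu he (hf.within P.hy.tri hi hj h1 h2) le_rfl

theorem fixZ_wk {n : ℕ} {f : ℕ → V} (hf : Wk adj n f) {i j : ℕ} (hi : i ≤ n) (hj : j ≤ n)
    (hu : ¬ isB (f i)) (h1 : j ≤ i + b) (h2 : i ≤ j + b) {e : G}
    (he : e ∈ EBall G adj isB 1 (f i)) : e • f j = f j :=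
  P.fixZ (f i) hu e he _ (hf.within P.hy.tri hi hj h1 h2)

theorem comm {u w : V} {e e' : G} (hu : isB u) (he : e ∈ Ec G u) (he' : e' ∈ Ec G w) {k : ℕ}
    (hw : Within adj k u w) (hk : k ≤ b + 1) : e * e' = e' * e :=
  he'.2.2 e (P.fix hu he hw hk)

theorem fix_EBall {v w : V} {n k : ℕ} {y : G} (hy : y ∈ EBall G adj isB n v)
    (hw : Within adj k v w) (hk : n + k ≤ b + 1) : y • w = w := by
  have := EBall_le (H := MulAction.stabilizer G w) (fun u hu hvu e he =>
    P.fix hu he ((hvu.symm P.hy.tri).trans hw) hk) hy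
  exact this

theorem comm_Ec_EBall {u v : V} {n k : ℕ} {e y : G} (hu : isB u) (he : e ∈ Ec G u)
    (hy : y ∈ EBall G adj isB n v) (hw : Within adj k u v) (hk : k + n ≤ b + 1) : e * y = y * e :=
  commute_EBall (fun x hx hvx d hd => P.comm hu he hd (hw.trans hvx) hk) hy

theorem comm_EBall {u v : V} {m n k : ℕ} {x y : G} (hx : x ∈ EBall G adj isB m u)
    (hy : y ∈ EBall G adj isB n v) (hw : Within adj k u v) (hk : m + k + n ≤ b + 1) :
    x * y = y * x :=
  (commute_EBall (fun z hz huz d hd => (P.comm_Ec_EBall hz hd hy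
    ((huz.symm P.hy.tri).trans hw) (by omega)).symm) hx).symm

theorem sq_EBall {v : V} {n : ℕ} (hn : 2 * n ≤ b + 1) {y : G} (hy : y ∈ EBall G adj isB n v) :
    y * y = 1 := by
  have hc : ∀ x ∈ EBall G adj isB n v, ∀ z ∈ EBall G adj isB n v, x * z = z * x := fun x hx z hz =>
    P.comm_EBall hx hz (Within.refl 0 v) (by omega)
  let K : Subgroup G :=
    { carrier := {x | x ∈ EBall G adj isB n v ∧ x * x = 1}
      one_mem' := ⟨Subgroup.one_mem _, one_mul 1⟩
      mul_mem' := by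
        rintro x z ⟨hx, hx2⟩ ⟨hz, hz2⟩
        refine ⟨Subgroup.mul_mem _ hx hz, ?_⟩
        calc x * z * (x * z) = x * (z * x) * z := by group
          _ = (x * x) * (z * z) := by rw [hc z hz x hx]; group
          _ = 1 := by rw [hx2, hz2, one_mul]
      inv_mem' := by
        rintro x ⟨hx, hx2⟩
        rw [eq_inv_of_sq hx2]
        exact ⟨hx, hx2⟩ }
  exact (EBall_le (H := K) (fun u hu hw e he => ⟨mem_EBall hu hw he, he.2.1⟩) hy).2

/-- Central involutions of vertices joined by a walk of length four are distinct. -/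
theorem eq_one_of_walk_four {f : ℕ → V} (hf : Wk adj 4 f) (h0 : isB (f 0)) {e : G}
    (he0 : e ∈ Ec G (f 0)) (he4 : e ∈ Ec G (f 4)) : e = 1 := by
  classical
  by_contra he1
  have D := P.hy.tri
  set H := MulAction.stabilizer G (f 0) ⊔ MulAction.stabilizer G (f 4) with hH
  have hcent : ∀ h ∈ H, h * e = e * h := by
    intro h hh
    have : H ≤ Subgroup.centralizer ({e} : Set G) := by
      refine sup_le (fun g hg => ?_) (fun g hg => ?_) <;>
        refine Subgroup.mem_centralizer_iff.2 ?_ <;> rintro _ rfl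
      · exact (he0.2.2 g hg).symm
      · exact (he4.2.2 g hg).symm
    exact (Subgroup.mem_centralizer_iff.1 (this hh) e rfl).symm
  let S : Set V := {s | ∃ h ∈ H, s = h • f 0 ∨ s = h • f 4}
  have hex : ∃ n, ∃ s ∈ S, ∃ w, e • w ≠ w ∧ Within adj n s w := by
    obtain ⟨w, hw⟩ : ∃ w, e • w ≠ w := by
      by_contra hcon; push Not at hcon; exact he1 (D.faithful e hcon)
    obtain ⟨n, hn⟩ := Within.exists_of_conn D (f 0) w
    exact ⟨n, f 0, ⟨1, H.one_mem, Or.inl (one_smul G _).symm⟩, w, hw, hn⟩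
  obtain ⟨s, ⟨h, hh, hs⟩, w, hmove, hsw⟩ := Nat.find_spec hex
  have hconj : h * e * h⁻¹ = e := by rw [hcent h hh, mul_inv_cancel_right]
  -- a walk from `s` to a partner
  obtain ⟨p, hp, hp0, hp4⟩ : ∃ p, Wk adj 4 p ∧ p 0 = s ∧ p 4 ∈ S := by
    rcases hs with rfl | rfl
    · exact ⟨_, hf.map D h, rfl, h, hh, Or.inr rfl⟩
    · exact ⟨_, (hf.map D h).rev D, rfl, h, hh, Or.inl rfl⟩
  have hsB : isB s := by
    rcases hs with rfl | rfl
    exacts [(D.isB_smul h _).2 h0, (D.isB_smul h _).2 (hf.isB_even D h0 le_rfl rfl)]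
  have hse : e ∈ Ec G s := by
    rcases hs with rfl | rfl
    exacts [hconj ▸ conj_mem_Ec h he0, hconj ▸ conj_mem_Ec h he4]
  have hstab : ∀ k : G, k • s = s → k ∈ H := by
    intro k hk
    have key : ∀ v, MulAction.stabilizer G v ≤ H → s = h • v → k ∈ H := by
      intro v hv e'
      have : h⁻¹ * k * h ∈ H := hv (by
        show (h⁻¹ * k * h) • v = v
        rw [mul_smul, mul_smul, ← e', hk, e', inv_smul_smul])
      have := H.mul_mem (H.mul_mem hh this) (H.inv_mem hh)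
      simpa [mul_assoc] using this
    rcases hs with e' | e'
    exacts [key _ le_sup_left e', key _ le_sup_right e']
  obtain ⟨m, hm, q, hq, hq0, hqm⟩ := hsw.exists_walk D
  have hmb : b + 2 ≤ m := by
    by_contra hlt
    exact hmove (hqm ▸ P.fix hsB hse (hq0 ▸ hq.within D (i := 0) (j := m) (k := b + 1)
      (Nat.zero_le m) le_rfl (by omega) (by omega)) le_rfl)
  have := P.one_le
  obtain ⟨k, hk⟩ := P.conj_three p q (hp.mono (by omega)) (hq.mono (by omega)) (by rw [hp0, hq0])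
  have hks : k • s = s := by have := hk 0 (by omega); rwa [hp0, hq0] at this
  obtain ⟨h', hh', hs'⟩ := hp4
  have hS' : k • p 4 ∈ S := ⟨k * h', H.mul_mem (hstab k hks) hh', by
    rcases hs' with e' | e' <;> simp [e', mul_smul]⟩
  have hadj : adj (k • p 4) (q 3) := by
    rw [← hk 3 le_rfl]; exact D.symm (D.smul k (hp.adj_at 3 le_rfl))
  have := Nat.find_min' hex ⟨k • p 4, hS', w, hmove,
    Within.head hadj (hqm ▸ hq.within D (i := 3) (j := m) (k := m - 3) (by omega) le_rfl (by omega)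
      (by omega))⟩
  omega

/-- Central involutions of distinct vertices at distance at most four are distinct. -/
theorem eq_one_of_within {u w : V} (hu : isB u) (hw : isB w) (hne : u ≠ w) (h : Within adj 4 u w)
    {e : G} (he : e ∈ Ec G u) (he' : e ∈ Ec G w) : e = 1 := by
  obtain ⟨m, hm, f, hf, rfl, rfl⟩ := h.exists_walk P.hy.tri
  have hev : m % 2 = 0 := by
    by_contra ho
    exact hf.not_isB_odd P.hy.tri hu le_rfl (by omega) hw
  obtain rfl | rfl | rfl : m = 0 ∨ m = 2 ∨ m = 4 := by omega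
  · exact absurd rfl hne
  · exact P.hy.inf_Ec (α := f 1) (P.hy.tri.symm (hf.adj_at 0 (by omega))) (hf.adj_at 1 le_rfl) hne
      he he'
  · exact P.eq_one_of_walk_four hf hu he he'

/-- An element of the centre at the far end which does not commute. -/
theorem exists_noncomm (hodd : b % 2 = 1) {f : ℕ → V} (hf : Wk adj (b + 2) f) (h0 : isB (f 0))
    {e : G} (he : e ∈ Ec G (f 0)) (hmove : e • f (b + 2) ≠ f (b + 2)) :
    ∃ x ∈ EBall G adj isB 1 (f (b + 2)), e * x ≠ x * e := by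
  by_contra hcon
  push Not at hcon
  have D := P.hy.tri
  have hB : isB (f (b + 1)) := hf.isB_even D h0 (by omega) (by omega)
  have hadj : adj (f (b + 1)) (f (b + 2)) := hf.adj_at (b + 1) le_rfl
  have hfix : e • f (b + 1) = f (b + 1) :=
    P.fix_wk hf (i := 0) (Nat.zero_le _) (by omega) h0 (by omega) (by omega) he
  obtain ⟨z, hz, hzn⟩ := P.hy.exists_not_mem hB hadj (D.smul_adj hfix hadj) (Ne.symm hmove)
  refine hzn ?_
  have := conj_mem_EBall D e hz
  rwa [hcon z hz, mul_inv_cancel_right] at this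

end Dist

theorem Crit.congr {b : ℕ} {f f' : ℕ → V} (h : Crit G adj isB b f)
    (he : ∀ i, i ≤ b + 2 → f' i = f i) : Crit G adj isB b f' := by
  obtain ⟨h0, hw, e, hee, hm⟩ := h
  exact ⟨(he 0 (by omega)).symm ▸ h0, hw.congr he, e, (he 0 (by omega)).symm ▸ hee,
    (he (b + 2) le_rfl).symm ▸ hm⟩

theorem Crit.map (D : Tri G adj isB) {b : ℕ} {f : ℕ → V} (h : Crit G adj isB b f) (g : G) :
    Crit G adj isB b fun i => g • f i := by
  obtain ⟨h0, hw, e, hee, hm⟩ := h
  refine ⟨(D.isB_smul g _).2 h0, hw.map D g, g * e * g⁻¹, conj_mem_Ec g hee, ?_⟩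
  rw [conj_smul_smul]
  exact fun e' => hm (smul_left_cancel g e')

end CfsgLib.LocalEven.GoldBound
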